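import Cfsg.Agent.Lib.MEleven.Unique
import Cfsg.Agent.Lib.Concrete.SporMathieu

/-!
The groups called M11 in the target are the simple group of order 7920.
-/

set_option autoImplicit false

namespace Cfsg.Lib.MEleven

open scoped Pointwise

theorem isM11_spor : Cfsg.IsM11 Cfsg.Spor.M11 :=
  ⟨Cfsg.Lib.Concrete.isSimple_sporM11, Cfsg.Lib.Concrete.card_sporM11⟩

/-- A simple group of order 7920 is M11. -/
theorem isoM11 {G : Type*} [Group G] [Finite G] (hG : Cfsg.IsM11 G) : Cfsg.Spor.IsoM11 G :=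
  nonempty_mulEquiv hG isM11_spor

theorem isM11_dod_point {d : Finset Cfsg.GolayPt} (hd : d ∈ Cfsg.dodecads) {p : Cfsg.GolayPt} (hp : p ∈ d) :
    Cfsg.IsM11 ↥(MulAction.stabilizer Cfsg.M24 d ⊓ MulAction.stabilizer Cfsg.M24 p) :=
  ⟨Cfsg.Lib.Concrete.isSimple_dod_point_stabilizer hd hp, Cfsg.Lib.Concrete.card_dod_point_stabilizer hd hp⟩

end Cfsg.Lib.MEleven
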