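import Cfsg.Agent.Lib.Char.Formulas
import Cfsg.Agent.Lib.Char.TwoClass
import Cfsg.Agent.Lib.Char.Galois
import Cfsg.Agent.Lib.Block.DefectLocal
import Cfsg.Agent.Lib.Block.CyclicPrimeValues
import Cfsg.Agent.Lib.Block.Principal
import Cfsg.Agent.Lib.MathieuBlock.Degree
import Cfsg.Agent.Lib.Small.SimpleOrder

/-!
General lemmas used for the simple group of order 7920: character sums, integer values, Sylow transfer
by parity, and the fixed-space criterion for a proper subgroup.
-/

set_option autoImplicit false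
set_option linter.style.haveILetI false
set_option linter.unusedSectionVars false

namespace Cfsg.Lib.MEleven

open Cfsg Cfsg.Lib.Char Cfsg.Lib.Block
open scoped ComplexConjugate

universe u

variable {G : Type u} [Group G] [Fintype G]

/-- The degree of an irreducible character. -/
noncomputable abbrev deg (χ : IrrCharacter G) : ℕ := Cfsg.charDegree (χ : G → ℂ)

theorem apply_one (χ : IrrCharacter G) : (χ : G → ℂ) 1 = (deg χ : ℂ) := χ.2.apply_one_eq_charDegree

theorem sum_normSq (χ : IrrCharacter G) : ∑ g, ‖(χ : G → ℂ) g‖ ^ 2 = (Nat.card G : ℝ) := by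
  have h := classInner_irr_self χ.2
  rw [classInner_self] at h
  have h' : (Nat.card G : ℝ)⁻¹ * ∑ g, ‖(χ : G → ℂ) g‖ ^ 2 = 1 := by exact_mod_cast h
  rw [inv_mul_eq_one₀ (Nat.cast_ne_zero.2 Nat.card_pos.ne')] at h'
  exact h'.symm

theorem sum_apply_eq_zero {χ : IrrCharacter G} (h : χ ≠ trivChar G) : ∑ g, (χ : G → ℂ) g = 0 := by
  have h' := classInner_irr_ne χ.2 (trivChar G).2 (fun e => h (Subtype.ext e))
  simp only [classInner, trivChar_coe, map_one, mul_one] at h'
  exact (mul_eq_zero.1 h').resolve_left (inv_ne_zero (card_cast_ne_zero (G := G)))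

theorem sum_column_normSq (g : G) :
    ∑ χ : IrrCharacter G, ‖(χ : G → ℂ) g‖ ^ 2 = (Nat.card (Subgroup.centralizer ({g} : Set G)) : ℝ) := by
  classical
  have h := column_orthogonality g g
  rw [if_pos (IsConj.refl g)] at h
  simp only [Complex.mul_conj'] at h
  exact_mod_cast h

theorem sum_column_degree {g : G} (hg : g ≠ 1) :
    ∑ χ : IrrCharacter G, (deg χ : ℂ) * (χ : G → ℂ) g = 0 := by
  classical
  have h := column_orthogonality g (1 : G)
  rw [if_neg (fun h => hg (isConj_one_left.1 h))] at h
  rw [← h]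
  refine Finset.sum_congr rfl fun χ _ => ?_
  rw [apply_one, map_natCast, mul_comm]

theorem sum_sq_deg_le (S : Finset (IrrCharacter G)) : ∑ χ ∈ S, deg χ ^ 2 ≤ Nat.card G := by
  classical
  have h := sum_column_normSq (1 : G)
  simp only [apply_one, Complex.norm_natCast] at h
  have hc : Subgroup.centralizer ({(1 : G)} : Set G) = ⊤ :=
    top_le_iff.1 fun x _ => Subgroup.mem_centralizer_singleton_iff.2 (by rw [mul_one, one_mul])
  rw [hc, Nat.card_congr Subgroup.topEquiv.toEquiv] at h
  have h1 : ∑ χ ∈ S, (deg χ : ℝ) ^ 2 ≤ ∑ χ : IrrCharacter G, (deg χ : ℝ) ^ 2 :=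
    Finset.sum_le_sum_of_subset_of_nonneg (Finset.subset_univ _) fun _ _ _ => sq_nonneg _
  rw [h] at h1
  exact_mod_cast h1

/-- An integer value at a `p`-element is congruent to the degree. -/
theorem int_modEq_deg {p : ℕ} [Fact p.Prime] (χ : IrrCharacter G) {g : G} {k : ℕ}
    (hg : orderOf g = p ^ k) {m : ℤ} (hm : (χ : G → ℂ) g = (m : ℂ)) : (p : ℤ) ∣ m - (deg χ : ℤ) := by
  obtain ⟨M, hM⟩ := exists_isPModular (Fact.out : p.Prime)
  have hR : pReg p g = 1 := by
    have h1 : pPt p g = g :=
      (eq_pPt (p := p) (mul_one g) (Commute.one_right g) hg (by simp [(Fact.out : p.Prime).ne_one])).symm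
    have h2 := pPt_mul_pReg (p := p) g
    rw [h1] at h2
    exact mul_left_cancel (h2.trans (mul_one g).symm)
  have h := charVal_sub_pReg_mem (p := p) hM χ.2.isCharacter g
  rw [hR, hm, apply_one] at h
  refine int_dvd_of_memLocalIdeal hM ?_
  push_cast
  exact h

/-- The value at an element is an integer when it is invariant under coprime powers. -/
theorem exists_int_value (χ : IrrCharacter G) {g : G}
    (h : ∀ k : ℕ, k.Coprime (Nat.card G) → IsConj g (g ^ k)) : ∃ m : ℤ, (χ : G → ℂ) g = m := by
  refine exists_int_of_pow_invariant χ.2.isCharacter g fun k hk => ?_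
  obtain ⟨c, hc⟩ := isConj_iff.1 (h k hk)
  rw [← hc, χ.2.isClassFunction]

/-- The sum of a character over a subgroup is a natural multiple of the order. -/
theorem exists_nat_sum (χ : IrrCharacter G) (H : Subgroup G) [Fintype H] :
    ∃ n : ℕ, ∑ h : H, (χ : G → ℂ) h = ((Nat.card H * n : ℕ) : ℂ) := by
  obtain ⟨n, hn⟩ := (χ.2.isCharacter.comp H.subtype).exists_nat_classInner (isCharacter_one (G := H))
  simp only [classInner, map_one, mul_one, Subgroup.subtype_apply] at hn
  rw [inv_mul_eq_iff_eq_mul₀ (card_cast_ne_zero (G := H))] at hn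
  exact ⟨n, by rw [hn]; push_cast; ring⟩

/-- A value at `x` is divisible by the order of a commuting subgroup off which the character vanishes. -/
theorem dvd_value (χ : IrrCharacter G) {x : G} (R : Subgroup G) (hc : ∀ v ∈ R, x * v = v * x)
    (hvan : ∀ v ∈ R, v ≠ 1 → (χ : G → ℂ) (x * v) = 0) {m : ℤ} (hm : (χ : G → ℂ) x = m) :
    (Nat.card R : ℤ) ∣ m := by
  classical
  haveI := Fintype.ofFinite R
  have h := isIntegral_avg_of_commute χ.2.isCharacter R hc
  rw [Finset.sum_eq_single (1 : R) (fun v _ hv => hvan v v.2 fun e => hv (Subtype.ext e)) (by simp),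
    OneMemClass.coe_one, mul_one, hm] at h
  obtain ⟨z, hz⟩ := exists_int_of_isIntegral_rat (q := (m : ℚ) / (Nat.card R : ℚ))
    (by rw [Rat.cast_div, Rat.cast_intCast, Rat.cast_natCast]; exact h)
  refine ⟨z, ?_⟩
  have hR : (Nat.card R : ℚ) ≠ 0 := Nat.cast_ne_zero.2 Nat.card_pos.ne'
  rw [div_eq_iff hR] at hz
  rw [mul_comm]
  exact_mod_cast hz

/-- A character of full `p`-part vanishes on the `p`-singular elements. -/
theorem apply_eq_zero_of_defectZero {p : ℕ} [Fact p.Prime] (χ : IrrCharacter G)
    (hd : (deg χ).factorization p = (Nat.card G).factorization p) {g : G} (hg : p ∣ orderOf g) :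
    (χ : G → ℂ) g = 0 := by
  classical
  obtain ⟨M, hM⟩ := exists_isPModular (Fact.out : p.Prime)
  have hB : IsPBlock M (blockOf M (χ : G → ℂ)) := isPBlock_blockOf χ
  have hθB := (blockOf_eq_singleton_iff hM χ).2 hd
  have h := sum_block_mul_conj_eq_zero hM (vInt_indVec hM hB) (g := 1) (h := g)
    (not_isConj_pPt_of_dvd (by simp [(Fact.out : p.Prime).ne_one]) hg)
  rw [hθB, finsum_mem_singleton, mul_eq_zero, map_eq_zero] at h
  exact h.resolve_left χ.2.apply_one_ne_zero

theorem card_centralizer_conj (g h : G) :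
    Nat.card (Subgroup.centralizer ({h * g * h⁻¹} : Set G)) =
      Nat.card (Subgroup.centralizer ({g} : Set G)) := by
  have e : Subgroup.centralizer ({h * g * h⁻¹} : Set G) =
      (Subgroup.centralizer ({g} : Set G)).map (MulAut.conj h).toMonoidHom := by
    ext c
    rw [Subgroup.mem_map_equiv, Subgroup.mem_centralizer_singleton_iff,
      Subgroup.mem_centralizer_singleton_iff, MulAut.conj_symm_apply]
    constructor
    · intro hc
      calc h⁻¹ * c * h * g = h⁻¹ * (c * (h * g * h⁻¹)) * h := by group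
        _ = h⁻¹ * (h * g * h⁻¹ * c) * h := by rw [hc]
        _ = g * (h⁻¹ * c * h) := by group
    · intro hc
      calc c * (h * g * h⁻¹) = h * (h⁻¹ * c * h * g) * h⁻¹ := by group
        _ = h * (g * (h⁻¹ * c * h)) * h⁻¹ := by rw [hc]
        _ = h * g * h⁻¹ * c := by group
  rw [e, Subgroup.card_map_of_injective (MulAut.conj h).injective]

theorem card_conjClass_mul (g : G) :
    Nat.card {x : G // IsConj g x} * Nat.card (Subgroup.centralizer ({g} : Set G)) = Nat.card G := by
  classical
  have h := card_classFinset g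
  rw [Nat.card_eq_fintype_card, Fintype.card_subtype]
  have e : (Finset.univ.filter fun x => IsConj g x) = classFinset g := by
    ext x
    simp [classFinset]
  rw [e, h, Subgroup.index_mul_card]

/-- In a simple group of order divisible by 4 an involution of a Sylow 2-subgroup is conjugate into
each subgroup of index two of it. -/
theorem exists_conj_mem_index_two [IsSimpleGroup G] (hG : 2 < Nat.card G) (S : Sylow 2 G) (M : Subgroup G)
    (hMS : M ≤ (S : Subgroup G)) (hM : 2 * Nat.card M = Nat.card (S : Subgroup G)) {t : G}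
    (ht : orderOf t = 2) : ∃ g : G, g * t * g⁻¹ ∈ M := by
  classical
  haveI : Fact (Nat.Prime 2) := ⟨Nat.prime_two⟩
  by_contra hno
  push Not at hno
  set φ := MulAction.toPermHom G (G ⧸ M)
  have hfix : ∀ q : G ⧸ M, φ t q ≠ q := by
    intro q
    induction q using QuotientGroup.induction_on with
    | H g =>
      intro e
      have h : (t * g : G ⧸ M) = (g : G ⧸ M) := e
      rw [QuotientGroup.eq] at h
      apply hno g⁻¹
      have h' : g⁻¹ * t * g = ((t * g)⁻¹ * g)⁻¹ := by group
      rw [inv_inv, h']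
      exact inv_mem h
  have hsq : φ t ^ 2 = 1 := by rw [← map_pow, ← ht, pow_orderOf_eq_one, map_one]
  have hidx : M.index = 2 * (S : Subgroup G).index := by
    have h1 := M.card_mul_index
    have h2 := (S : Subgroup G).card_mul_index
    have hpos : 0 < Nat.card M := Nat.card_pos
    rw [← hM] at h2
    nlinarith
  have hsupp : (φ t).support = Finset.univ := by
    ext q; simp [hfix q]
  have hcyc : (φ t).cycleType = Multiset.replicate (S : Subgroup G).index 2 := by
    have h2 : ∀ n ∈ (φ t).cycleType, n = 2 := fun n hn => by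
      have hd : n ∣ orderOf (φ t) := Equiv.Perm.dvd_of_mem_cycleType hn
      have h3 := Equiv.Perm.two_le_of_mem_cycleType hn
      have h4 : n ∣ 2 := hd.trans (orderOf_dvd_of_pow_eq_one hsq)
      have h5 := Nat.le_of_dvd (by norm_num) h4
      omega
    rw [Multiset.eq_replicate]
    refine ⟨?_, h2⟩
    have hs := (φ t).sum_cycleType
    rw [Multiset.eq_replicate_card.2 h2, Multiset.sum_replicate, smul_eq_mul, hsupp, Finset.card_univ,
      ← Nat.card_eq_fintype_card, ← Subgroup.index, hidx] at hs
    omega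
  have hsign : Equiv.Perm.sign (φ t) = -1 := by
    rw [Equiv.Perm.sign_of_cycleType, hcyc, Multiset.sum_replicate, Multiset.card_replicate, smul_eq_mul]
    refine Odd.neg_one_pow ?_
    have hodd : Odd (S : Subgroup G).index := Nat.not_even_iff_odd.1 fun he => S.not_dvd_index he.two_dvd
    obtain ⟨j, hj⟩ := hodd
    exact ⟨3 * j + 1, by omega⟩
  set σ : G →* ℤˣ := Equiv.Perm.sign.comp φ with hσ
  rcases σ.normal_ker.eq_bot_or_eq_top with hk | hk
  · have hinj := (MonoidHom.ker_eq_bot_iff σ).1 hk
    have := Nat.card_le_card_of_injective σ hinj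
    rw [Nat.card_eq_fintype_card (α := ℤˣ), Fintype.card_units_int] at this
    omega
  · have h1 : σ t = 1 := by
      rw [← MonoidHom.mem_ker, hk]
      exact Subgroup.mem_top t
    rw [hσ, MonoidHom.comp_apply, hsign] at h1
    exact absurd h1 (by decide)

/-- Two subgroups whose fixed spaces are too large to meet trivially generate a proper subgroup. -/
theorem sup_ne_top {χ : IrrCharacter G} (hχ : χ ≠ trivChar G) (A B D : Subgroup G) [Fintype A] [Fintype B]
    [Fintype D] (hDA : D ≤ A) (hDB : D ≤ B) {a b d : ℕ}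
    (ha : ∑ g : A, (χ : G → ℂ) g = ((Nat.card A * a : ℕ) : ℂ))
    (hb : ∑ g : B, (χ : G → ℂ) g = ((Nat.card B * b : ℕ) : ℂ))
    (hd : ∑ g : D, (χ : G → ℂ) g = ((Nat.card D * d : ℕ) : ℂ)) (hlt : d < a + b) : A ⊔ B ≠ ⊤ := by
  classical
  intro htop
  obtain ⟨n, ρ, hρ, hc⟩ := χ.2
  have hdim : ∀ (H : Subgroup G) [Fintype H] (m : ℕ), ∑ g : H, (χ : G → ℂ) g = ((Nat.card H * m : ℕ) : ℂ) →
      Module.finrank ℂ (Representation.invariants (ρ.comp H.subtype)) = m := by
    intro H _ m hm
    letI : Invertible (Fintype.card H : ℂ) := invertibleOfNonzero (Nat.cast_ne_zero.2 Fintype.card_ne_zero)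
    have htr := (Representation.isProj_averageMap (ρ.comp H.subtype)).trace
    have hav : Representation.averageMap (ρ.comp H.subtype) =
        ⅟ (Fintype.card H : ℂ) • ∑ z : H, ρ (z : G) := by
      simp [Representation.averageMap, GroupAlgebra.average, map_sum]
    rw [hav, map_smul, map_sum, smul_eq_mul] at htr
    have e : ∀ z : H, LinearMap.trace ℂ (Fin n → ℂ) (ρ (z : G)) = (χ : G → ℂ) z := fun z => by
      rw [← hc]; rfl
    simp only [e] at htr
    rw [hm, Nat.card_eq_fintype_card] at htr
    push_cast at htr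
    rw [← mul_assoc, invOf_mul_self, one_mul] at htr
    exact_mod_cast htr.symm
  set U := Representation.invariants (ρ.comp A.subtype)
  set W := Representation.invariants (ρ.comp B.subtype)
  have hUW : U ⊓ W = ⊥ := by
    refine (Submodule.eq_bot_iff _).2 fun v hv => ?_
    by_contra hv0
    obtain ⟨hvA, hvB⟩ := Submodule.mem_inf.1 hv
    let F : Subgroup G :=
      { carrier := {g | ρ g v = v}
        one_mem' := by simp
        mul_mem' := fun {x y} hx hy => by
          show ρ (x * y) v = v
          rw [map_mul, Module.End.mul_apply, hy, hx]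
        inv_mem' := fun {x} hx => by
          show ρ x⁻¹ v = v
          conv_lhs => rw [← (show ρ x v = v from hx)]
          rw [← Module.End.mul_apply, ← map_mul, inv_mul_cancel, map_one, Module.End.one_apply] }
    have hAF : A ≤ F := fun g hg => hvA ⟨g, hg⟩
    have hBF : B ≤ F := fun g hg => hvB ⟨g, hg⟩
    have hall : ∀ g, ρ g v = v := fun g => by
      have : g ∈ F := (sup_le hAF hBF) (htop ▸ Subgroup.mem_top g)
      exact this
    obtain ⟨-, hirr⟩ := (isIrreducible_iff_submodule ρ).1 hρ
    have hspan : (Submodule.span ℂ {v}) = ⊤ := by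
      refine (hirr _ fun g w hw => ?_).resolve_left fun h => hv0 ?_
      · obtain ⟨c, rfl⟩ := Submodule.mem_span_singleton.1 hw
        rw [map_smul, hall g]
        exact Submodule.smul_mem _ _ (Submodule.mem_span_singleton_self v)
      · exact (Submodule.mem_bot ℂ).1 (h ▸ Submodule.mem_span_singleton_self v)
    apply hχ
    refine Subtype.ext (funext fun g => ?_)
    rw [← hc, trivChar_coe]
    have hid : ρ g = 1 := LinearMap.ext fun w => by
      obtain ⟨c, rfl⟩ := Submodule.mem_span_singleton.1 (hspan ▸ Submodule.mem_top : w ∈ Submodule.span ℂ {v})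
      rw [map_smul, hall g]; rfl
    have h1 : Module.finrank ℂ (Fin n → ℂ) = 1 := by
      rw [← finrank_top, ← hspan, finrank_span_singleton hv0]
    show LinearMap.trace ℂ (Fin n → ℂ) (ρ g) = 1
    rw [hid, Module.End.one_eq_id, LinearMap.trace_id, h1, Nat.cast_one]
  have hle : U ⊔ W ≤ Representation.invariants (ρ.comp D.subtype) :=
    sup_le (fun v hv g => hv ⟨g, hDA g.2⟩) (fun v hv g => hv ⟨g, hDB g.2⟩)
  have h1 := Submodule.finrank_sup_add_finrank_inf_eq U W
  rw [hUW, finrank_bot, add_zero, hdim A a ha, hdim B b hb] at h1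
  have h2 := Submodule.finrank_mono hle
  rw [hdim D d hd, h1] at h2
  omega

end Cfsg.Lib.MEleven
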