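import Cfsg.Agent.Lib.MEleven.Two

/-!
Fusion of the 2-elements in a simple group of order 7920: one class of involutions with centralisers of
order 48, and the normaliser of a four-group.
-/

set_option autoImplicit false
set_option linter.style.haveILetI false
set_option linter.unusedSectionVars false

namespace Cfsg.Lib.MEleven

open Cfsg

universe u

noncomputable local instance (priority := high) fintypeSubgroupMElevenFusion {A : Type u}
    [Group A] [Fintype A] (H : Subgroup A) : Fintype H := Fintype.ofFinite H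

variable {G : Type u} [Group G] [Fintype G]

namespace TwoData

/-- The element of order 4. -/
def w (T : TwoData G) : G := T.t * T.v

/-- The elements of `S` fixing `t` up to `z`. -/
def InD (T : TwoData G) (x : G) : Prop :=
  x * T.t * x⁻¹ = T.t ∨ x * T.t * x⁻¹ = T.t * T.z

variable (T : TwoData G)

theorem tz_comm : T.t * T.z = T.z * T.t := T.z_comm T.t T.t_mem

theorem vz_comm : T.v * T.z = T.z * T.v := T.z_comm T.v T.v_mem

theorem w_mem : T.w ∈ (T.S : Subgroup G) := mul_mem T.t_mem T.v_mem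

theorem w_sq : T.w * T.w = T.z := by
  calc T.t * T.v * (T.t * T.v) = T.t * T.v * T.t * T.v := by simp only [mul_assoc]
    _ = T.v * T.z * T.v := by rw [T.tv]
    _ = T.v * (T.v * T.z) := by rw [mul_assoc, ← T.vz_comm]
    _ = T.z := by rw [← mul_assoc, T.v_sq, one_mul]

theorem vt : T.v * T.t = T.w * T.z := by
  calc T.v * T.t = T.t * (T.t * T.v * T.t) := by rw [← mul_assoc, ← mul_assoc, T.t_sq, one_mul]
    _ = T.t * (T.v * T.z) := by rw [T.tv]
    _ = T.w * T.z := by rw [w, mul_assoc]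

theorem wz_eq_inv : T.w * T.z = T.w⁻¹ := by
  refine eq_inv_of_mul_eq_one_left ?_
  rw [mul_assoc, ← T.z_comm T.w T.w_mem, ← mul_assoc, T.w_sq, T.z_sq]

theorem t_conj_w : T.t * T.w * T.t⁻¹ = T.w⁻¹ := by
  rw [← T.wz_eq_inv, ← T.vt, inv_eq_of_mul_eq_one_right T.t_sq, w, ← mul_assoc, T.t_sq, one_mul]

theorem vtv : T.v * T.t * T.v⁻¹ = T.t * T.z := by
  rw [T.vt, w, inv_eq_of_mul_eq_one_right T.v_sq, mul_assoc _ T.z, ← T.vz_comm, mul_assoc T.t T.v,
    ← mul_assoc T.v, T.v_sq, one_mul]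

theorem t_ne_z : T.t ≠ T.z := fun e => by
  have h := T.tv
  rw [e, ← T.vz_comm, mul_assoc, T.z_sq, mul_one] at h
  exact T.z_ne (mul_eq_left.1 h.symm)

theorem t_ne_tz : T.t ≠ T.t * T.z := fun e => T.z_ne (mul_eq_left.1 e.symm)

theorem tz_ne_z : T.t * T.z ≠ T.z := fun e => T.t_ne (mul_eq_right.1 e)

theorem v_ne : T.v ≠ 1 := fun e => by
  have h := T.tv
  rw [e, mul_one, one_mul, T.t_sq] at h
  exact T.z_ne h.symm

theorem v_ne_t : T.v ≠ T.t := fun e => by
  have h := T.vtv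
  rw [e, mul_inv_cancel_right] at h
  exact T.t_ne_tz h

theorem v_ne_tz : T.v ≠ T.t * T.z := fun e => by
  have h := T.vtv
  have hc : T.v * T.t = T.t * T.v := by
    rw [e, mul_assoc, ← T.tz_comm]
  rw [hc, mul_inv_cancel_right] at h
  exact T.t_ne_tz h

theorem vz_ne_z : T.v * T.z ≠ T.z := fun e => T.v_ne_t (by
  have hv : T.v = 1 := mul_eq_right.1 e
  have h := T.vtv
  rw [hv, one_mul, inv_one, mul_one] at h
  exact absurd h T.t_ne_tz)

theorem inD_one : T.InD 1 := Or.inl (by rw [one_mul, inv_one, mul_one])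
theorem inD_z : T.InD T.z := Or.inl (by rw [← T.tz_comm, mul_inv_cancel_right])
theorem inD_t : T.InD T.t := Or.inl (mul_inv_cancel_right _ _)
theorem inD_tz : T.InD (T.t * T.z) :=
  Or.inl (by
    calc T.t * T.z * T.t * (T.t * T.z)⁻¹ = T.t * (T.z * T.t) * T.z⁻¹ * T.t⁻¹ := by group
      _ = T.t := by rw [← T.tz_comm]; group)
theorem inD_v : T.InD T.v := Or.inr T.vtv
theorem inD_vz : T.InD (T.v * T.z) := by
  right
  calc T.v * T.z * T.t * (T.v * T.z)⁻¹ = T.v * (T.z * T.t) * T.z⁻¹ * T.v⁻¹ := by group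
    _ = T.v * T.t * T.v⁻¹ := by rw [← T.tz_comm]; group
    _ = _ := T.vtv

theorem inD_cases_w : T.InD T.w := by
  right
  calc T.t * T.v * T.t * (T.t * T.v)⁻¹ = T.t * (T.v * T.t * T.v⁻¹) * T.t⁻¹ := by group
    _ = _ := by
      rw [T.vtv, inv_eq_of_mul_eq_one_right T.t_sq, mul_assoc, mul_assoc T.t T.z, ← T.tz_comm,
        ← mul_assoc T.t T.t T.z, T.t_sq, one_mul]

theorem inD_cases_wz : T.InD (T.w * T.z) := by
  have h : T.w * T.z * T.t * (T.w * T.z)⁻¹ = T.w * T.t * T.w⁻¹ := by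
    calc T.w * T.z * T.t * (T.w * T.z)⁻¹ = T.w * (T.z * T.t) * T.z⁻¹ * T.w⁻¹ := by group
      _ = _ := by rw [← T.tz_comm]; group
  rw [InD, h]
  exact T.inD_cases_w

/-- The eight elements of `S` fixing `t` up to `z`. -/
theorem inD_cases {x : G} (hx : x ∈ (T.S : Subgroup G)) (h : T.InD x) :
    x = 1 ∨ x = T.z ∨ x = T.t ∨ x = T.t * T.z ∨ x = T.v ∨ x = T.v * T.z ∨ x = T.w ∨ x = T.w * T.z := by
  rcases h with h | h
  · rcases T.comm_t x hx (mul_inv_eq_iff_eq_mul.1 h) with e | e | e | e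
    exacts [Or.inl e, Or.inr (Or.inl e), Or.inr (Or.inr (Or.inl e)), Or.inr (Or.inr (Or.inr (Or.inl e)))]
  · have hc : T.v * x * T.t = T.t * (T.v * x) := by
      refine mul_inv_eq_iff_eq_mul.1 ?_
      calc T.v * x * T.t * (T.v * x)⁻¹ = T.v * (x * T.t * x⁻¹) * T.v⁻¹ := by group
        _ = T.v * T.t * T.v⁻¹ * (T.v * T.z * T.v⁻¹) := by rw [h]; group
        _ = T.t * T.z * T.z := by rw [T.vtv, T.vz_comm, mul_inv_cancel_right]
        _ = T.t := by rw [mul_assoc, T.z_sq, mul_one]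
    have hxv : x = T.v * (T.v * x) := by rw [← mul_assoc, T.v_sq, one_mul]
    rcases T.comm_t _ (mul_mem T.v_mem hx) hc with e | e | e | e
    · exact Or.inr (Or.inr (Or.inr (Or.inr (Or.inl (by rw [hxv, e, mul_one])))))
    · exact Or.inr (Or.inr (Or.inr (Or.inr (Or.inr (Or.inl (by rw [hxv, e]))))))
    · exact Or.inr (Or.inr (Or.inr (Or.inr (Or.inr (Or.inr (Or.inr (by rw [hxv, e, T.vt])))))))
    · exact Or.inr (Or.inr (Or.inr (Or.inr (Or.inr (Or.inr (Or.inl (by
        rw [hxv, e, ← mul_assoc, T.vt, mul_assoc, T.z_sq, mul_one])))))))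

theorem outside_ne {x : G} (hn : ¬ T.InD x) :
    x ≠ 1 ∧ x ≠ T.z ∧ x ≠ T.t ∧ x ≠ T.t * T.z ∧ x ≠ T.v ∧ x ≠ T.v * T.z :=
  ⟨fun e => hn (e ▸ T.inD_one), fun e => hn (e ▸ T.inD_z), fun e => hn (e ▸ T.inD_t),
    fun e => hn (e ▸ T.inD_tz), fun e => hn (e ▸ T.inD_v), fun e => hn (e ▸ T.inD_vz)⟩

theorem invol_conj {x a : G} (hx : x ∈ (T.S : Subgroup G)) (ha : a ∈ (T.S : Subgroup G)) (ha2 : a * a = 1)
    (ha1 : a ≠ 1) (haz : a ≠ T.z) : x * a * x⁻¹ = T.t ∨ x * a * x⁻¹ = T.t * T.z ∨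
      x * a * x⁻¹ = T.v ∨ x * a * x⁻¹ = T.v * T.z := by
  rcases T.invol _ (mul_mem (mul_mem hx ha) (inv_mem hx))
      (by rw [show x * a * x⁻¹ * (x * a * x⁻¹) = x * (a * a) * x⁻¹ by group, ha2, mul_one, mul_inv_cancel])
      (fun e => ha1 (conj_eq_one_iff.1 e)) with e | e
  · exfalso
    refine haz ?_
    calc a = x⁻¹ * (x * a * x⁻¹) * x := by group
      _ = x⁻¹ * T.z * x := by rw [e]
      _ = T.z := by rw [T.z_comm x⁻¹ (inv_mem hx), inv_mul_cancel_right]
  · exact e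

theorem outside_t {x : G} (hx : x ∈ (T.S : Subgroup G)) (hn : ¬ T.InD x) :
    x * T.t * x⁻¹ = T.v ∨ x * T.t * x⁻¹ = T.v * T.z := by
  rcases T.invol_conj hx T.t_mem T.t_sq T.t_ne T.t_ne_z with e | e | e
  exacts [absurd (Or.inl e) hn, absurd (Or.inr e) hn, e]

theorem conj_mul_z {x a b : G} (hx : x ∈ (T.S : Subgroup G)) (h : x * a * x⁻¹ = b) :
    x * (a * T.z) * x⁻¹ = b * T.z := by
  rw [← h, mul_assoc (x * a), T.z_comm x⁻¹ (inv_mem hx)]
  group

theorem outside_v {x : G} (hx : x ∈ (T.S : Subgroup G)) (hn : ¬ T.InD x) :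
    x * T.v * x⁻¹ = T.t ∨ x * T.v * x⁻¹ = T.t * T.z := by
  have inj : ∀ a b : G, x * a * x⁻¹ = x * b * x⁻¹ → a = b := fun a b e =>
    mul_left_cancel (mul_right_cancel e)
  have hvz : T.v ≠ T.z := fun e => by
    have h := T.vtv
    rw [e, ← T.tz_comm, mul_inv_cancel_right] at h
    exact T.t_ne_tz h
  rcases T.invol_conj hx T.v_mem T.v_sq T.v_ne hvz with e | e | e | e
  · exact Or.inl e
  · exact Or.inr e
  · rcases T.outside_t hx hn with h | h
    · exact absurd (inj _ _ (e.trans h.symm)) T.v_ne_t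
    · refine absurd (inj _ _ (e.trans ?_)) T.v_ne_tz
      rw [T.conj_mul_z hx h, mul_assoc, T.z_sq, mul_one]
  · rcases T.outside_t hx hn with h | h
    · refine absurd (inj _ _ (e.trans ?_)) T.v_ne_tz
      rw [T.conj_mul_z hx h]
    · exact absurd (inj _ _ (e.trans h.symm)) T.v_ne_t

theorem outside_sq {x : G} (hx : x ∈ (T.S : Subgroup G)) (hn : ¬ T.InD x) :
    x * x = T.z ∨ x * x = T.w ∨ x * x = T.w * T.z := by
  obtain ⟨n1, nz, nt, ntz, nv, nvz⟩ := T.outside_ne hn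
  have hsq : T.InD (x * x) := by
    have e : x * x * T.t * (x * x)⁻¹ = x * (x * T.t * x⁻¹) * x⁻¹ := by group
    rw [InD, e]
    rcases T.outside_t hx hn with h | h <;> rw [h]
    · exact T.outside_v hx hn
    · rcases T.outside_v hx hn with h' | h' <;> rw [T.conj_mul_z hx h']
      · exact Or.inr rfl
      · left; rw [mul_assoc, T.z_sq, mul_one]
  have hfix : ∀ a, x * x = a → x * a * x⁻¹ = a := fun a e => by rw [← e]; group
  rcases T.inD_cases (mul_mem hx hx) hsq with e | e | e | e | e | e | e | e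
  · rcases T.invol x hx e n1 with h | h | h | h | h
    exacts [absurd h nz, absurd h nt, absurd h ntz, absurd h nv, absurd h nvz]
  · exact Or.inl e
  · exact absurd (Or.inl (hfix _ e)) hn
  · refine absurd (Or.inl ?_) hn
    have h := T.conj_mul_z hx (hfix _ e)
    rwa [mul_assoc T.t, T.z_sq, mul_one] at h
  · have h := hfix _ e
    rcases T.outside_v hx hn with h' | h'
    exacts [absurd (h.symm.trans h') T.v_ne_t, absurd (h.symm.trans h') T.v_ne_tz]
  · have h := T.conj_mul_z hx (hfix _ e)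
    rw [mul_assoc T.v, T.z_sq, mul_one] at h
    rcases T.outside_v hx hn with h' | h'
    exacts [absurd (h.symm.trans h') T.v_ne_t, absurd (h.symm.trans h') T.v_ne_tz]
  · exact Or.inr (Or.inl e)
  · exact Or.inr (Or.inr e)

/-- The elements of `S` commuting with an involution other than `z`. -/
theorem exists_outside (hS : Nat.card (T.S : Subgroup G) = 16) :
    ∃ x ∈ (T.S : Subgroup G), ¬ T.InD x := by
  classical
  by_contra hno
  push Not at hno
  have hsub : ((T.S : Subgroup G) : Set G).toFinset ⊆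
      ({1, T.z, T.t, T.t * T.z, T.v, T.v * T.z, T.w, T.w * T.z} : Finset G) := fun x hx => by
    have hx' := Set.mem_toFinset.1 hx
    simpa using T.inD_cases hx' (hno x hx')
  have h := Finset.card_le_card hsub
  rw [Set.toFinset_card, ← Nat.card_eq_fintype_card, SetLike.coe_sort_coe, hS] at h
  have h8 : ({1, T.z, T.t, T.t * T.z, T.v, T.v * T.z, T.w, T.w * T.z} : Finset G).card ≤ 8 := by
    iterate 7 refine (Finset.card_insert_le _ _).trans (Nat.succ_le_succ ?_)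
    simp
  omega

theorem comm_other (hS : Nat.card (T.S : Subgroup G) = 16) {a b : G} (ha : a ∈ (T.S : Subgroup G))
    (hb : b ∈ (T.S : Subgroup G)) (hb2 : b * b = 1) (hb1 : b ≠ 1) (hbz : b ≠ T.z)
    (hab : a * b = b * a) : a = 1 ∨ a = T.z ∨ a = b ∨ a = b * T.z := by
  obtain ⟨x, hx, hn⟩ := T.exists_outside hS
  obtain ⟨s, hs, hst⟩ : ∃ s ∈ (T.S : Subgroup G), s * b * s⁻¹ = T.t ∨ s * b * s⁻¹ = T.t * T.z := by
    rcases T.invol b hb hb2 hb1 with e | e | e | e | e
    · exact absurd e hbz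
    · exact ⟨1, one_mem _, Or.inl (by rw [e, one_mul, inv_one, mul_one])⟩
    · exact ⟨1, one_mem _, Or.inr (by rw [e, one_mul, inv_one, mul_one])⟩
    · exact ⟨x, hx, e ▸ T.outside_v hx hn⟩
    · refine ⟨x, hx, ?_⟩
      rcases T.outside_v hx hn with h | h <;> rw [e, T.conj_mul_z hx h]
      · exact Or.inr rfl
      · left; rw [mul_assoc, T.z_sq, mul_one]
  have hc : s * a * s⁻¹ * T.t = T.t * (s * a * s⁻¹) := by
    have h : s * a * s⁻¹ * (s * b * s⁻¹) = s * b * s⁻¹ * (s * a * s⁻¹) := by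
      calc s * a * s⁻¹ * (s * b * s⁻¹) = s * (a * b) * s⁻¹ := by group
        _ = s * (b * a) * s⁻¹ := by rw [hab]
        _ = s * b * s⁻¹ * (s * a * s⁻¹) := by group
    rcases hst with e | e <;> rw [e] at h
    · exact h
    · rw [mul_assoc T.t, ← T.z_comm _ (mul_mem (mul_mem hs ha) (inv_mem hs)), ← mul_assoc, ← mul_assoc] at h
      exact mul_right_cancel h
  have back : ∀ c, s * a * s⁻¹ = c → a = s⁻¹ * c * s := fun c e => by rw [← e]; group
  have hz : s⁻¹ * T.z * s = T.z := by rw [T.z_comm s⁻¹ (inv_mem hs), inv_mul_cancel_right]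
  have hb' : s⁻¹ * (s * b * s⁻¹) * s = b := by group
  have hzs : ∀ c : G, s⁻¹ * (c * T.z) * s = s⁻¹ * c * s * T.z := fun c => by
    calc s⁻¹ * (c * T.z) * s = s⁻¹ * c * s * (s⁻¹ * T.z * s) := by group
      _ = s⁻¹ * c * s * T.z := by rw [hz]
  rcases T.comm_t _ (mul_mem (mul_mem hs ha) (inv_mem hs)) hc with e | e | e | e
  · exact Or.inl (conj_eq_one_iff.1 e)
  · exact Or.inr (Or.inl ((back _ e).trans hz))
  · rcases hst with h | h
    · exact Or.inr (Or.inr (Or.inl ((back _ e).trans (by rw [← h, hb']))))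
    · refine Or.inr (Or.inr (Or.inr ((back _ e).trans ?_)))
      have h' : T.t = s * b * s⁻¹ * T.z := by rw [h, mul_assoc, T.z_sq, mul_one]
      rw [h', hzs, hb']
  · rcases hst with h | h
    · exact Or.inr (Or.inr (Or.inr ((back _ e).trans (by rw [hzs, ← h, hb']))))
    · exact Or.inr (Or.inr (Or.inl ((back _ e).trans (by rw [← h, hb']))))

end TwoData

variable (hG : IsM11 G) [Fact (Nat.Prime 2)] [Fact (Nat.Prime 3)] [Fact (Nat.Prime 5)] [Fact (Nat.Prime 11)]

include hG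

theorem exists_sqrt_w (T : TwoData G) :
    ∃ s ∈ (T.S : Subgroup G), s * s = T.w ∧ orderOf s = 8 := by
  obtain ⟨x, hx, hn⟩ := T.exists_outside (card_sylow_two hG T.S)
  obtain ⟨s, hs, hsq⟩ : ∃ s ∈ (T.S : Subgroup G), s * s = T.w ∨ s * s = T.w * T.z := by
    rcases T.outside_sq hx hn with e | e | e
    · refine ⟨x * T.t, mul_mem hx T.t_mem, ?_⟩
      have h : x * T.t * (x * T.t) = x * T.t * x⁻¹ * T.z * T.t := by rw [← e]; group
      rcases T.outside_t hx hn with h' | h' <;> rw [h, h']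
      · left
        rw [mul_assoc, ← T.tz_comm, ← mul_assoc, T.vt, mul_assoc, T.z_sq, mul_one]
      · right
        rw [mul_assoc T.v, T.z_sq, mul_one, T.vt]
    · exact ⟨x, hx, Or.inl e⟩
    · exact ⟨x, hx, Or.inr e⟩
  have ho : ∀ r : G, r * r = T.w → orderOf r = 8 := fun r hr => by
    have h4 : r ^ 4 = T.z := by rw [show (4 : ℕ) = 2 * 2 by norm_num, pow_mul, pow_two r, hr, pow_two, T.w_sq]
    have := orderOf_eq_prime_pow (p := 2) (n := 2) (x := r)
      (by rw [show (2 : ℕ) ^ 2 = 4 by norm_num, h4]; exact T.z_ne)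
      (by rw [show (2 : ℕ) ^ (2 + 1) = 4 * 2 by norm_num, pow_mul, h4, pow_two, T.z_sq])
    rw [this]; norm_num
  rcases hsq with e | e
  · exact ⟨s, hs, e, ho s e⟩
  · have h : s⁻¹ * s⁻¹ = T.w := by rw [← mul_inv_rev, e, T.wz_eq_inv, inv_inv]
    exact ⟨s⁻¹, inv_mem hs, h, ho _ h⟩

theorem isConj_involution (T : TwoData G) {a : G} (ha : orderOf a = 2) : IsConj a T.z := by
  haveI := hG.1
  obtain ⟨s, hs, hsw, hs8⟩ := exists_sqrt_w hG T
  obtain ⟨g, hg⟩ := exists_conj_mem_index_two (by rw [hG.2]; norm_num) T.S (Subgroup.zpowers s)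
    (Subgroup.zpowers_le.2 hs) (by rw [Nat.card_zpowers, hs8, card_sylow_two hG T.S]) ha
  obtain ⟨k, hk⟩ := Subgroup.mem_zpowers_iff.1 hg
  refine isConj_iff.2 ⟨g, ?_⟩
  have hg1 : g * a * g⁻¹ ≠ 1 := fun e => by
    rw [conj_eq_one_iff.1 e, orderOf_one] at ha
    norm_num at ha
  have h2 : s ^ (k * 2) = 1 := by
    rw [zpow_mul, hk, zpow_ofNat, pow_two,
      show g * a * g⁻¹ * (g * a * g⁻¹) = g * (a * a) * g⁻¹ by group,
      show a * a = 1 by rw [← pow_two, ← ha, pow_orderOf_eq_one], mul_one, mul_inv_cancel]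
  have h8 := orderOf_dvd_iff_zpow_eq_one.2 h2
  rw [hs8] at h8
  obtain ⟨m, rfl⟩ : (4 : ℤ) ∣ k := by omega
  have h4 : s ^ (4 : ℤ) = T.z := by
    rw [zpow_ofNat, show (4 : ℕ) = 2 * 2 by norm_num, pow_mul, pow_two s, hsw, pow_two, T.w_sq]
  rw [← hk, zpow_mul, h4]
  have hz2 : T.z ^ (2 : ℤ) = 1 := by rw [zpow_ofNat, pow_two, T.z_sq]
  rcases Int.even_or_odd' m with ⟨j, rfl | rfl⟩
  · refine absurd ?_ hg1
    rw [← hk, zpow_mul, h4, zpow_mul, hz2, one_zpow]
  · rw [zpow_add, zpow_mul, hz2, one_zpow, one_mul, zpow_one]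

theorem orderOf_z (T : TwoData G) : orderOf T.z = 2 :=
  orderOf_eq_prime (p := 2) (by rw [pow_two, T.z_sq]) T.z_ne

theorem sylow_le_centralizer_z (T : TwoData G) :
    (T.S : Subgroup G) ≤ Subgroup.centralizer ({T.z} : Set G) := fun x hx =>
  Subgroup.mem_centralizer_singleton_iff.2 (T.z_comm x hx)

theorem card_centralizer_z (T : TwoData G) :
    Nat.card (Subgroup.centralizer ({T.z} : Set G)) = 48 := by
  set C := Subgroup.centralizer ({T.z} : Set G) with hC
  have h16 : 16 ∣ Nat.card C := card_sylow_two hG T.S ▸ Subgroup.card_dvd_of_le (sylow_le_centralizer_z hG T)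
  have h3 : 3 ∣ Nat.card C := by
    obtain ⟨y, hy, hy1, hty⟩ := T.t_fix
    have ht2 : orderOf T.t = 2 := orderOf_eq_prime (p := 2) (by rw [pow_two, T.t_sq]) T.t_ne
    obtain ⟨g, hg⟩ := isConj_iff.1 (isConj_involution hG T ht2)
    have hm : g * y * g⁻¹ ∈ C := Subgroup.mem_centralizer_singleton_iff.2 (by
      rw [← hg]
      calc g * y * g⁻¹ * (g * T.t * g⁻¹) = g * (y * T.t) * g⁻¹ := by group
        _ = g * (T.t * y) * g⁻¹ := by rw [hty]
        _ = g * T.t * g⁻¹ * (g * y * g⁻¹) := by group)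
    refine (three_dvd_orderOf hG hy hy1).1.trans ?_
    rw [show orderOf y = orderOf (g * y * g⁻¹) from ((MulAut.conj g).orderOf_eq y).symm]
    exact Subgroup.orderOf_dvd_natCard _ hm
  have h9 : ¬ 9 ∣ Nat.card C := by
    intro h
    obtain ⟨Y₀, hY₀⟩ := Sylow.exists_subgroup_card_pow_prime 3 (show 3 ^ 2 ∣ Nat.card C by simpa using h)
    obtain ⟨Y⟩ : Nonempty (Sylow 3 G) := inferInstance
    have hc : Nat.card (Y₀.map C.subtype) = 3 ^ (Nat.card G).factorization 3 := by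
      rw [Subgroup.card_map_of_injective (Subgroup.subtype_injective _), hY₀, ← Y.card_eq_multiplicity,
        card_sylow_three hG Y]
      norm_num
    set Y' : Sylow 3 G := Sylow.ofCard _ hc
    have hz : T.z ∈ (Y' : Subgroup G) := by
      rw [← centralizer_sylow_three hG Y']
      refine Subgroup.mem_centralizer_iff.2 fun y hy => ?_
      exact Subgroup.mem_centralizer_singleton_iff.1 (Subgroup.map_subtype_le _ hy)
    have := Subgroup.orderOf_dvd_natCard _ hz
    rw [orderOf_z hG T, card_sylow_three hG Y'] at this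
    norm_num at this
  obtain ⟨h5, h11⟩ := not_five_eleven_of_involution hG (orderOf_z hG T)
  rw [← hC] at h5 h11
  have hG' : Nat.card C ∣ 7920 := hG.2 ▸ Subgroup.card_subgroup_dvd_card C
  obtain ⟨k, hk⟩ : 48 ∣ Nat.card C := Nat.Coprime.mul_dvd_of_dvd_of_dvd (by norm_num : Nat.Coprime 16 3) h16 h3
  have hk' : k ∣ 165 := by
    rw [hk, show 7920 = 48 * 165 by norm_num] at hG'
    exact Nat.dvd_of_mul_dvd_mul_left (by norm_num) hG'
  have hm : k ∈ Nat.divisors 165 := Nat.mem_divisors.2 ⟨hk', by norm_num⟩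
  rw [show Nat.divisors 165 = {1, 3, 5, 11, 15, 33, 55, 165} by decide] at hm
  simp only [Finset.mem_insert, Finset.mem_singleton] at hm
  rw [hk] at h5 h11 h9 ⊢
  rcases hm with rfl | rfl | rfl | rfl | rfl | rfl | rfl | rfl <;> omega

theorem card_centralizer_involution {a : G} (ha : orderOf a = 2) :
    Nat.card (Subgroup.centralizer ({a} : Set G)) = 48 := by
  obtain ⟨T⟩ := nonempty_twoData hG
  obtain ⟨g, hg⟩ := isConj_iff.1 (isConj_involution hG T ha)
  rw [← card_centralizer_conj a g, hg, card_centralizer_z hG T]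

theorem exists_conj_le (T : TwoData G) (P : Subgroup G) (hP : IsPGroup 2 P)
    (hPC : P ≤ Subgroup.centralizer ({T.z} : Set G)) :
    ∃ x : G, x * T.z = T.z * x ∧ ∀ p ∈ P, x * p * x⁻¹ ∈ (T.S : Subgroup G) := by
  set C := Subgroup.centralizer ({T.z} : Set G)
  obtain ⟨Q, hQ⟩ := (hP.comap_subtype : IsPGroup 2 (P.subgroupOf C)).exists_le_sylow
  obtain ⟨x, hx⟩ := MulAction.exists_smul_eq C Q (T.S.subtype (sylow_le_centralizer_z hG T))
  refine ⟨x, Subgroup.mem_centralizer_singleton_iff.1 x.2, fun p hp => ?_⟩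
  have h1 : (⟨p, hPC hp⟩ : C) ∈ (Q : Subgroup C) := hQ hp
  have h2 : (MulAut.conj x) • (⟨p, hPC hp⟩ : C) ∈ ((x • Q : Sylow 2 C) : Subgroup C) := by
    rw [Sylow.coe_subgroup_smul]
    exact Subgroup.smul_mem_pointwise_smul _ _ _ h1
  rw [hx] at h2
  exact h2

/-- The conjugates of `w` under the centraliser of `z` lie in `S`. -/
theorem conj_w_mem (T : TwoData G) {c : G} (hc : c * T.z = T.z * c) :
    c * T.w * c⁻¹ ∈ (T.S : Subgroup G) := by
  classical
  obtain ⟨s, hs, hsw, -⟩ := exists_sqrt_w hG T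
  set C := Subgroup.centralizer ({T.z} : Set G)
  set S' := (T.S : Subgroup G).subgroupOf C
  have hidx : Nat.card (C ⧸ S') = 3 := by
    have h := S'.card_mul_index
    rw [Nat.card_congr (Subgroup.subgroupOfEquivOfLe (sylow_le_centralizer_z hG T)).toEquiv,
      card_sylow_two hG T.S, card_centralizer_z hG T] at h
    rw [← Subgroup.index]
    omega
  set σ : C := ⟨s, sylow_le_centralizer_z hG T hs⟩
  set γ : C := ⟨c⁻¹, inv_mem (Subgroup.mem_centralizer_singleton_iff.2 hc)⟩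
  set q : C ⧸ S' := (γ : C ⧸ S')
  have hb : σ • (((1 : C) : C ⧸ S')) = ((1 : C) : C ⧸ S') := by
    rw [MulAction.Quotient.smul_coe, QuotientGroup.eq]
    simpa [S', σ, Subgroup.mem_subgroupOf] using hs
  have hfix : σ • σ • q = q := by
    by_contra hne
    have h1 : σ • q ≠ q := fun e => hne (by rw [e, e])
    have hq : q ≠ ((1 : C) : C ⧸ S') := fun e => h1 (by rw [e, hb])
    have h2 : σ • q ≠ ((1 : C) : C ⧸ S') := fun e => hq (smul_left_cancel σ (e.trans hb.symm))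
    have h3 : σ • σ • q ≠ σ • q := fun e => h1 (smul_left_cancel σ e)
    have h4 : σ • σ • q ≠ ((1 : C) : C ⧸ S') := fun e => h2 (smul_left_cancel σ (e.trans hb.symm))
    haveI : Fintype (C ⧸ S') := Fintype.ofFinite _
    have h5 := Finset.card_le_univ ({((1 : C) : C ⧸ S'), q, σ • q, σ • σ • q} : Finset (C ⧸ S'))
    rw [← Nat.card_eq_fintype_card, hidx,
      Finset.card_insert_of_notMem (by simp [hq.symm, h2.symm, h4.symm]),
      Finset.card_insert_of_notMem (by simp [h1.symm, Ne.symm hne]), Finset.card_pair h3.symm] at h5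
    omega
  rw [MulAction.Quotient.smul_coe, MulAction.Quotient.smul_coe, QuotientGroup.eq] at hfix
  have hm : (((σ • σ • γ)⁻¹ * γ : C) : G) ∈ (T.S : Subgroup G) := hfix
  have e : (((σ • σ • γ)⁻¹ * γ : C) : G) = c * T.w⁻¹ * c⁻¹ := by
    simp only [smul_eq_mul, Subgroup.coe_mul, Subgroup.coe_inv, σ, γ, ← hsw]
    group
  rw [e] at hm
  have h := inv_mem hm
  rwa [show (c * T.w⁻¹ * c⁻¹)⁻¹ = c * T.w * c⁻¹ by group] at h

theorem not_inD_conj_w (T : TwoData G) {c : G} (hc : orderOf c = 3) (hcz : c * T.z = T.z * c) :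
    ¬ T.InD (c * T.w * c⁻¹) := by
  intro hD
  have hsq : c * T.w * c⁻¹ * (c * T.w * c⁻¹) = T.z := by
    rw [show c * T.w * c⁻¹ * (c * T.w * c⁻¹) = c * (T.w * T.w) * c⁻¹ by group, T.w_sq, hcz,
      mul_inv_cancel_right]
  have hwC : T.w * c ≠ c * T.w := fun e => by
    have h := Subgroup.orderOf_dvd_natCard _ (Subgroup.mem_centralizer_singleton_iff.2 e :
      T.w ∈ Subgroup.centralizer ({c} : Set G))
    rw [card_centralizer_three hG (by rw [hc]) (by rw [hc]; norm_num)] at h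
    have h4 := orderOf_eq_prime_pow (p := 2) (n := 1) (x := T.w)
      (by rw [pow_one, pow_two, T.w_sq]; exact T.z_ne)
      (by rw [show (2 : ℕ) ^ (1 + 1) = 2 * 2 by norm_num, pow_mul, pow_two T.w, T.w_sq, pow_two, T.z_sq])
    rw [h4] at h
    norm_num at h
  have h3 : c ^ 3 = 1 := hc ▸ pow_orderOf_eq_one c
  rcases T.inD_cases (conj_w_mem hG T hcz) hD with e | e | e | e | e | e | e | e <;> rw [e] at hsq
  · exact T.z_ne (by rw [← hsq, one_mul])
  · exact T.z_ne (by rw [← hsq, T.z_sq])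
  · exact T.z_ne (by rw [← hsq, T.t_sq])
  · exact T.z_ne (by
      rw [← hsq, mul_assoc, ← mul_assoc T.z, ← T.tz_comm, mul_assoc T.t T.z T.z, T.z_sq, mul_one, T.t_sq])
  · exact T.z_ne (by rw [← hsq, T.v_sq])
  · exact T.z_ne (by
      rw [← hsq, mul_assoc, ← mul_assoc T.z, ← T.vz_comm, mul_assoc T.v T.z T.z, T.z_sq, mul_one, T.v_sq])
  · exact hwC (mul_inv_eq_iff_eq_mul.1 e).symm
  · have h2 : c * (c * T.w * c⁻¹) * c⁻¹ = T.w := by
      rw [e, show c * (T.w * T.z) * c⁻¹ = c * T.w * (T.z * c⁻¹) by group,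
        show T.z * c⁻¹ = c⁻¹ * T.z by rw [eq_inv_mul_iff_mul_eq, ← mul_assoc, hcz, mul_inv_cancel_right],
        ← mul_assoc, e, mul_assoc, T.z_sq, mul_one]
    apply hwC
    have h4 : c ^ 4 = c := by rw [show (4 : ℕ) = 3 + 1 by norm_num, pow_succ, h3, one_mul]
    have h5 : c ^ 4 * T.w * (c ^ 4)⁻¹ = T.w := by
      calc c ^ 4 * T.w * (c ^ 4)⁻¹ = c * (c * (c * (c * T.w * c⁻¹) * c⁻¹) * c⁻¹) * c⁻¹ := by
            simp only [pow_succ, pow_zero, one_mul, mul_inv_rev, mul_assoc]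
        _ = c * (c * T.w * c⁻¹) * c⁻¹ := congrArg (fun g => c * (c * g * c⁻¹) * c⁻¹) h2
        _ = T.w := h2
    rw [h4] at h5
    exact (mul_inv_eq_iff_eq_mul.1 h5).symm

/-- Four elements outside `D` conjugate to `w`. -/
theorem exists_four (T : TwoData G) :
    ∃ U : Finset G, U.card = 4 ∧ ∀ x ∈ U, x ∈ (T.S : Subgroup G) ∧ ¬ T.InD x ∧ IsConj T.w x := by
  classical
  obtain ⟨⟨c, hcC⟩, hc⟩ := exists_prime_orderOf_dvd_card' 3
    (show 3 ∣ Nat.card (Subgroup.centralizer ({T.z} : Set G)) by rw [card_centralizer_z hG T]; norm_num)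
  rw [Subgroup.orderOf_mk] at hc
  have hcz := Subgroup.mem_centralizer_singleton_iff.1 hcC
  have hc2 : orderOf (c ^ 2) = 3 := by rw [Nat.Coprime.orderOf_pow (by rw [hc]; norm_num), hc]
  have hc2z : c ^ 2 * T.z = T.z * c ^ 2 := ((show Commute c T.z from hcz).pow_left 2).eq
  set a := c * T.w * c⁻¹ with ha
  set b := c ^ 2 * T.w * (c ^ 2)⁻¹ with hb
  have haS := conj_w_mem hG T hcz
  have hbS := conj_w_mem hG T hc2z
  have han := not_inD_conj_w hG T hc hcz
  have hbn := not_inD_conj_w hG T hc2 hc2z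
  have hinv : IsConj T.w T.w⁻¹ := isConj_iff.2 ⟨T.t, T.t_conj_w⟩
  have hca : IsConj T.w a := isConj_iff.2 ⟨c, rfl⟩
  have hcb : IsConj T.w b := isConj_iff.2 ⟨c ^ 2, rfl⟩
  have hnI : ∀ x, x ∈ (T.S : Subgroup G) → ¬ T.InD x → ¬ T.InD x⁻¹ := fun x hx hn h => by
    apply hn
    rcases h with h | h
    · left
      rw [inv_inv] at h
      calc x * T.t * x⁻¹ = x * (x⁻¹ * T.t * x) * x⁻¹ := by rw [h]
        _ = T.t := by group
    · right
      rw [inv_inv] at h
      have h' : x * (T.t * T.z) * x⁻¹ = T.t := by rw [← h]; group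
      have h'' := T.conj_mul_z hx h'
      rwa [mul_assoc T.t, T.z_sq, mul_one] at h''
  have hw1 : T.w ≠ T.w⁻¹ := fun e => T.z_ne (by
    rw [← T.w_sq]
    nth_rewrite 2 [e]
    exact mul_inv_cancel _)
  have ne_inv : ∀ g : G, g * T.w * g⁻¹ ≠ (g * T.w * g⁻¹)⁻¹ := fun g e => hw1 (by
    rw [show (g * T.w * g⁻¹)⁻¹ = g * T.w⁻¹ * g⁻¹ by group] at e
    exact mul_left_cancel (mul_right_cancel e))
  have hab : a ≠ b ∧ a ≠ b⁻¹ := by
    constructor <;> intro e
    · apply han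
      have h : c * T.w * c⁻¹ = T.w := by
        have h' : b = c * a * c⁻¹ := by rw [hb, ha, pow_two]; group
        rw [h'] at e
        calc c * T.w * c⁻¹ = a := rfl
          _ = c⁻¹ * (c * a * c⁻¹) * c := by group
          _ = c⁻¹ * a * c := by rw [← e]
          _ = T.w := by rw [ha]; group
      rw [h]
      exact T.inD_cases_w
    · apply han
      have h' : b = c * a * c⁻¹ := by rw [hb, ha, pow_two]; group
      have h : c * T.w * c⁻¹ = T.w⁻¹ := by
        calc c * T.w * c⁻¹ = a := rfl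
          _ = c⁻¹ * (c * a * c⁻¹) * c := by group
          _ = c⁻¹ * a⁻¹ * c := by rw [← h', e, inv_inv]
          _ = T.w⁻¹ := by rw [ha]; group
      rw [h, ← T.wz_eq_inv]
      exact T.inD_cases_wz
  refine ⟨{a, a⁻¹, b, b⁻¹}, ?_, ?_⟩
  · rw [Finset.card_insert_of_notMem (by
        simp only [Finset.mem_insert, Finset.mem_singleton, not_or]
        exact ⟨ne_inv c, hab.1, hab.2⟩),
      Finset.card_insert_of_notMem (by
        simp only [Finset.mem_insert, Finset.mem_singleton, not_or]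
        exact ⟨fun e => hab.2 (by rw [← e, inv_inv]), fun e => hab.1 (inv_inj.1 e)⟩),
      Finset.card_pair (ne_inv _)]
  · intro x hx
    simp only [Finset.mem_insert, Finset.mem_singleton] at hx
    rcases hx with rfl | rfl | rfl | rfl
    · exact ⟨haS, han, hca⟩
    · refine ⟨inv_mem haS, hnI _ haS han, hinv.trans (isConj_iff.2 ⟨c, ?_⟩)⟩
      rw [ha]; group
    · exact ⟨hbS, hbn, hcb⟩
    · refine ⟨inv_mem hbS, hnI _ hbS hbn, hinv.trans (isConj_iff.2 ⟨c ^ 2, ?_⟩)⟩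
      rw [hb]; group

theorem centralizer_four (T : TwoData G) {a : G} (haz : a * T.z = T.z * a) (hat : a * T.t = T.t * a) :
    a = 1 ∨ a = T.z ∨ a = T.t ∨ a = T.t * T.z := by
  classical
  set P := Subgroup.centralizer ({T.z} : Set G) ⊓ Subgroup.centralizer ({T.t} : Set G) with hPdef
  have haP : a ∈ P := ⟨Subgroup.mem_centralizer_singleton_iff.2 haz, Subgroup.mem_centralizer_singleton_iff.2 hat⟩
  have hd : Nat.card P ∣ 48 := card_centralizer_z hG T ▸ Subgroup.card_dvd_of_le inf_le_left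
  have h3 : ¬ 3 ∣ Nat.card P := by
    intro h
    obtain ⟨⟨c, hcP⟩, hc⟩ := exists_prime_orderOf_dvd_card' 3 h
    rw [Subgroup.orderOf_mk] at hc
    set W := (T.S : Subgroup G) ⊓ Subgroup.centralizer ({c} : Set G) with hW
    have hWd : Nat.card W ∣ 2 := by
      have h1 : Nat.card W ∣ 16 := card_sylow_two hG T.S ▸ Subgroup.card_dvd_of_le inf_le_left
      have h2 : Nat.card W ∣ 18 := card_centralizer_three hG (g := c) (by rw [hc]) (by rw [hc]; norm_num) ▸
        Subgroup.card_dvd_of_le inf_le_right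
      simpa using Nat.dvd_gcd h1 h2
    have hsub : ({1, T.z, T.t} : Finset G) ⊆ (W : Set G).toFinset := by
      intro x hx
      simp only [Finset.mem_insert, Finset.mem_singleton] at hx
      rcases hx with rfl | rfl | rfl
      · exact Set.mem_toFinset.2 (one_mem _)
      · exact Set.mem_toFinset.2 ⟨T.z_mem, Subgroup.mem_centralizer_singleton_iff.2
          (Subgroup.mem_centralizer_singleton_iff.1 hcP.1).symm⟩
      · exact Set.mem_toFinset.2 ⟨T.t_mem, Subgroup.mem_centralizer_singleton_iff.2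
          (Subgroup.mem_centralizer_singleton_iff.1 hcP.2).symm⟩
    have h4 := Finset.card_le_card hsub
    rw [Set.toFinset_card, ← Nat.card_eq_fintype_card, SetLike.coe_sort_coe,
      Finset.card_insert_of_notMem (by simp [T.z_ne.symm, T.t_ne.symm]), Finset.card_pair T.t_ne_z.symm] at h4
    have := Nat.le_of_dvd (by norm_num) hWd
    omega
  have hd16 : Nat.card P ∣ 2 ^ 4 := by
    have hco : Nat.Coprime (Nat.card P) 3 := (Nat.prime_three.coprime_iff_not_dvd.2 h3).symm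
    exact hco.dvd_of_dvd_mul_left (by simpa using hd)
  obtain ⟨i, -, hi⟩ := (Nat.dvd_prime_pow Nat.prime_two).1 hd16
  obtain ⟨x, hxz, hx⟩ := exists_conj_le hG T P (IsPGroup.of_card hi) inf_le_left
  have htP : T.t ∈ P := ⟨Subgroup.mem_centralizer_singleton_iff.2 T.tz_comm,
    Subgroup.mem_centralizer_singleton_iff.2 rfl⟩
  have back : ∀ g h : G, x * g * x⁻¹ = x * h * x⁻¹ → g = h := fun g h e =>
    mul_left_cancel (mul_right_cancel e)
  have hz' : x * T.z * x⁻¹ = T.z := by rw [hxz, mul_inv_cancel_right]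
  rcases T.comm_other (card_sylow_two hG T.S) (hx a haP) (hx T.t htP)
      (by rw [show x * T.t * x⁻¹ * (x * T.t * x⁻¹) = x * (T.t * T.t) * x⁻¹ by group, T.t_sq, mul_one,
        mul_inv_cancel])
      (fun e => T.t_ne (conj_eq_one_iff.1 e)) (fun e => T.t_ne_z (back _ _ (e.trans hz'.symm)))
      (by
        calc x * a * x⁻¹ * (x * T.t * x⁻¹) = x * (a * T.t) * x⁻¹ := by group
          _ = x * (T.t * a) * x⁻¹ := by rw [hat]
          _ = x * T.t * x⁻¹ * (x * a * x⁻¹) := by group) with e | e | e | e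
  · exact Or.inl (conj_eq_one_iff.1 e)
  · exact Or.inr (Or.inl (back _ _ (e.trans hz'.symm)))
  · exact Or.inr (Or.inr (Or.inl (back _ _ e)))
  · refine Or.inr (Or.inr (Or.inr (back _ _ (e.trans ?_))))
    calc x * T.t * x⁻¹ * T.z = x * T.t * x⁻¹ * (x * T.z * x⁻¹) := by rw [hz']
      _ = x * (T.t * T.z) * x⁻¹ := by group

/-- An element of order 3 cycling the involutions `z`, `t`, `tz`. -/
theorem exists_cycle (T : TwoData G) :
    ∃ c : G, c ^ 3 = 1 ∧ c * T.z * c⁻¹ = T.t ∧ c * T.t * c⁻¹ = T.t * T.z ∧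
      c * (T.t * T.z) * c⁻¹ = T.z := by
  have ht2 : orderOf T.t = 2 := orderOf_eq_prime (p := 2) (by rw [pow_two, T.t_sq]) T.t_ne
  obtain ⟨g, hg⟩ := isConj_iff.1 (isConj_involution hG T ht2)
  set a := g * T.z * g⁻¹ with ha
  have ha2 : a * a = 1 := by
    rw [ha, show g * T.z * g⁻¹ * (g * T.z * g⁻¹) = g * (T.z * T.z) * g⁻¹ by group, T.z_sq, mul_one,
      mul_inv_cancel]
  have haz : a * T.z = T.z * a := by
    calc a * T.z = g * T.z * g⁻¹ * (g * T.t * g⁻¹) := by rw [hg]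
      _ = g * (T.z * T.t) * g⁻¹ := by group
      _ = g * (T.t * T.z) * g⁻¹ := by rw [T.tz_comm]
      _ = g * T.t * g⁻¹ * (g * T.z * g⁻¹) := by group
      _ = T.z * a := by rw [hg]
  have hao : orderOf a = 2 := ((MulAut.conj g).orderOf_eq T.z).trans (orderOf_z hG T)
  obtain ⟨x, hxz, hx⟩ := exists_conj_le hG T (Subgroup.zpowers a)
    (IsPGroup.of_card (n := 1) (by rw [Nat.card_zpowers, hao]; norm_num))
    (Subgroup.zpowers_le.2 (Subgroup.mem_centralizer_singleton_iff.2 haz))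
  have hxaS := hx a (Subgroup.mem_zpowers a)
  have hz' : x * T.z * x⁻¹ = T.z := by rw [hxz, mul_inv_cancel_right]
  obtain ⟨y, hy, hfy⟩ : ∃ y ∈ (T.S : Subgroup G),
      y * (x * a * x⁻¹) * y⁻¹ = T.t ∨ y * (x * a * x⁻¹) * y⁻¹ = T.t * T.z := by
    obtain ⟨s, hs, hn⟩ := T.exists_outside (card_sylow_two hG T.S)
    rcases T.invol _ hxaS
        (by rw [show x * a * x⁻¹ * (x * a * x⁻¹) = x * (a * a) * x⁻¹ by group, ha2, mul_one, mul_inv_cancel])
        (fun e => by
          rw [conj_eq_one_iff.1 e, orderOf_one] at hao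
          norm_num at hao) with e | e | e | e | e
    · exfalso
      have haz' : a = T.z := mul_left_cancel (mul_right_cancel (e.trans hz'.symm))
      apply T.t_ne_z
      have : g * T.z * g⁻¹ = g * T.t * g⁻¹ := by rw [hg, ← ha, haz']
      exact (mul_left_cancel (mul_right_cancel this)).symm
    · exact ⟨1, one_mem _, Or.inl (by rw [e, one_mul, inv_one, mul_one])⟩
    · exact ⟨1, one_mem _, Or.inr (by rw [e, one_mul, inv_one, mul_one])⟩
    · exact ⟨s, hs, e ▸ T.outside_v hs hn⟩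
    · refine ⟨s, hs, ?_⟩
      rcases T.outside_v hs hn with h | h <;> rw [e, T.conj_mul_z hs h]
      · exact Or.inr rfl
      · left; rw [mul_assoc, T.z_sq, mul_one]
  set m := y * x * g with hm
  have hmt : m * T.t * m⁻¹ = T.z := by
    calc m * T.t * m⁻¹ = y * (x * (g * T.t * g⁻¹) * x⁻¹) * y⁻¹ := by rw [hm]; group
      _ = T.z := by rw [hg, hz', T.z_comm y hy, mul_inv_cancel_right]
  have hmz : m * T.z * m⁻¹ = T.t ∨ m * T.z * m⁻¹ = T.t * T.z := by
    have e : m * T.z * m⁻¹ = y * (x * a * x⁻¹) * y⁻¹ := by rw [hm, ha]; group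
    rw [e]; exact hfy
  obtain ⟨n, hnt, hnz⟩ : ∃ n : G, n * T.t * n⁻¹ = T.z ∧ n * T.z * n⁻¹ = T.t * T.z := by
    rcases hmz with e | e
    · refine ⟨T.v * m, ?_, ?_⟩
      · calc T.v * m * T.t * (T.v * m)⁻¹ = T.v * (m * T.t * m⁻¹) * T.v⁻¹ := by group
          _ = T.z := by rw [hmt, T.vz_comm, mul_inv_cancel_right]
      · calc T.v * m * T.z * (T.v * m)⁻¹ = T.v * (m * T.z * m⁻¹) * T.v⁻¹ := by group
          _ = _ := by rw [e, T.vtv]
    · exact ⟨m, hmt, e⟩
  obtain ⟨d, d1, d2⟩ : ∃ d : G, d * T.z * d⁻¹ = T.t ∧ d * (T.t * T.z) * d⁻¹ = T.z :=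
    ⟨n⁻¹, by rw [← hnt]; group, by rw [← hnz]; group⟩
  have d3 : d * T.t * d⁻¹ = T.t * T.z := by
    have h : T.t = T.t * T.z * T.z := by rw [mul_assoc, T.z_sq, mul_one]
    calc d * T.t * d⁻¹ = d * (T.t * T.z * T.z) * d⁻¹ := by rw [← h]
      _ = d * (T.t * T.z) * d⁻¹ * (d * T.z * d⁻¹) := by group
      _ = T.z * T.t := by rw [d2, d1]
      _ = T.t * T.z := T.tz_comm.symm
  have h3z : d ^ 3 * T.z * (d ^ 3)⁻¹ = T.z := by
    calc d ^ 3 * T.z * (d ^ 3)⁻¹ = d * (d * (d * T.z * d⁻¹) * d⁻¹) * d⁻¹ := by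
          simp only [pow_succ, pow_zero, one_mul, mul_inv_rev, mul_assoc]
      _ = T.z := by rw [d1, d3, d2]
  have h3t : d ^ 3 * T.t * (d ^ 3)⁻¹ = T.t := by
    calc d ^ 3 * T.t * (d ^ 3)⁻¹ = d * (d * (d * T.t * d⁻¹) * d⁻¹) * d⁻¹ := by
          simp only [pow_succ, pow_zero, one_mul, mul_inv_rev, mul_assoc]
      _ = T.t := by rw [d3, d2, d1]
  have hsq : d ^ 3 * d ^ 3 = 1 := by
    rcases centralizer_four hG T (mul_inv_eq_iff_eq_mul.1 h3z) (mul_inv_eq_iff_eq_mul.1 h3t) with e | e | e | e <;>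
      rw [e]
    · rw [one_mul]
    · exact T.z_sq
    · exact T.t_sq
    · rw [mul_assoc, ← mul_assoc T.z, ← T.tz_comm, mul_assoc T.t T.z T.z, T.z_sq, mul_one, T.t_sq]
  have key : ∀ p q : G, d * p * d⁻¹ = q → d ^ 3 * q * (d ^ 3)⁻¹ = q → d ^ 4 * p * (d ^ 4)⁻¹ = q :=
    fun p q h1 h2 => by
    calc d ^ 4 * p * (d ^ 4)⁻¹ = d ^ 3 * (d * p * d⁻¹) * (d ^ 3)⁻¹ := by group
      _ = q := by rw [h1, h2]
  have h3tz : d ^ 3 * (T.t * T.z) * (d ^ 3)⁻¹ = T.t * T.z := by
    calc d ^ 3 * (T.t * T.z) * (d ^ 3)⁻¹ = d ^ 3 * T.t * (d ^ 3)⁻¹ * (d ^ 3 * T.z * (d ^ 3)⁻¹) := by group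
      _ = _ := by rw [h3t, h3z]
  refine ⟨d ^ 4, ?_, key _ _ d1 h3t, key _ _ d3 h3tz, key _ _ d2 h3z⟩
  calc (d ^ 4) ^ 3 = (d ^ 3 * d ^ 3) * (d ^ 3 * d ^ 3) := by simp only [← pow_mul, ← pow_add]
    _ = 1 := by rw [hsq, one_mul]

end Cfsg.Lib.MEleven
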