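import Mathlib

/-!
The permutations of the residues modulo 11 that can extend the translations and the multiplication by 3
to a group of order 7920.
-/

set_option autoImplicit false

namespace Cfsg.Lib.MEleven

/-- The only map with the values `a`, `b` at `1`, `-1` turning multiplication by 3 into that by 9. -/
def rFun (a b : ZMod 11) (i : ZMod 11) : ZMod 11 :=
  [0, a, 4 * b, 9 * a, 5 * a, 3 * a, 3 * b, 5 * b, 9 * b, 4 * a, b].getD i.val 0

/-- A word in the translation (`false`) and `rFun a b` (`true`), applied from the left. -/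
def runWord (a b : ZMod 11) (w : List Bool) (p : ZMod 11) : ZMod 11 :=
  w.foldl (fun q c => if c then rFun a b q else q + 1) p

/-- The words used to discard the wrong values. -/
def badWords : List (List Bool) :=
  [[false, false, false, true, false, true], [false, false, true, true, false, true],
    [false, false, false, false, true, false, true], [false, false, false, true, false, true, true],
    [false, false, true, true, true, false, true, true], [false, true, true, true],
    [false, false, true], [false, false, false, false, false, true]]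

theorem rFun_eq {r : ZMod 11 → ZMod 11} (h : ∀ i, r (3 * i) = 9 * r i) :
    ∀ i, r i = rFun (r 1) (r 10) i := by
  have h0 : r 0 = 0 := by
    have e := h 0
    rw [mul_zero] at e
    have e' : (8 : ZMod 11) * r 0 = 0 := by linear_combination -e
    calc r 0 = 7 * (8 * r 0) := by rw [← mul_assoc, show (7 : ZMod 11) * 8 = 1 by decide, one_mul]
      _ = 0 := by rw [e', mul_zero]
  have step : ∀ i j : ZMod 11, j = 3 * i → r j = 9 * r i := fun i j e => e ▸ h i
  have h3 : r 3 = 9 * r 1 := step 1 3 (by decide)
  have h9 : r 9 = 4 * r 1 := by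
    rw [step 3 9 (by decide), h3, ← mul_assoc, show (9 : ZMod 11) * 9 = 4 by decide]
  have h5 : r 5 = 3 * r 1 := by
    rw [step 9 5 (by decide), h9, ← mul_assoc, show (9 : ZMod 11) * 4 = 3 by decide]
  have h4 : r 4 = 5 * r 1 := by
    rw [step 5 4 (by decide), h5, ← mul_assoc, show (9 : ZMod 11) * 3 = 5 by decide]
  have h8 : r 8 = 9 * r 10 := step 10 8 (by decide)
  have h2 : r 2 = 4 * r 10 := by
    rw [step 8 2 (by decide), h8, ← mul_assoc, show (9 : ZMod 11) * 9 = 4 by decide]
  have h6 : r 6 = 3 * r 10 := by
    rw [step 2 6 (by decide), h2, ← mul_assoc, show (9 : ZMod 11) * 4 = 3 by decide]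
  have h7 : r 7 = 5 * r 10 := by
    rw [step 6 7 (by decide), h6, ← mul_assoc, show (9 : ZMod 11) * 3 = 5 by decide]
  intro i
  fin_cases i
  exacts [h0, rfl, h2, h3, h4, h5, h6, h7, h8, h9, rfl]

/-- Either the map is a multiple of the standard one, or of its mirror image, or some word has a 7-cycle. -/
theorem rFun_cases : ∀ a b : ZMod 11, Function.Injective (rFun a b) →
    (∃ j : Fin 5, ∀ i, rFun a b i = 3 ^ (j : ℕ) * rFun 1 7 i) ∨
    (∃ j : Fin 5, ∀ i, -rFun a b (-i) = 3 ^ (j : ℕ) * rFun 1 7 i) ∨
    ∃ w ∈ badWords, ∃ p : ZMod 11, (runWord a b w)^[7] p = p ∧ runWord a b w p ≠ p := by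
  unfold Function.Injective
  decide +kernel

/-- Translation by one. -/
def stdShift : Equiv.Perm (ZMod 11) := Equiv.addRight 1

/-- Multiplication by 3. -/
def stdMult : Equiv.Perm (ZMod 11) where
  toFun i := 3 * i
  invFun i := 4 * i
  left_inv i := by beta_reduce; rw [← mul_assoc, show (4 : ZMod 11) * 3 = 1 by decide, one_mul]
  right_inv i := by beta_reduce; rw [← mul_assoc, show (3 : ZMod 11) * 4 = 1 by decide, one_mul]

/-- The standard third generator. -/
def stdTwist : Equiv.Perm (ZMod 11) where
  toFun := rFun 1 7
  invFun i := [(0 : ZMod 11), 1, 7, 5, 9, 4, 2, 10, 8, 3, 6].getD i.val 0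
  left_inv i := by revert i; decide +kernel
  right_inv i := by revert i; decide +kernel

/-- The standard group of order 7920. -/
def stdGroup : Subgroup (Equiv.Perm (ZMod 11)) :=
  Subgroup.closure {stdShift, stdMult, stdTwist}

theorem stdMult_pow_apply (j : ℕ) (i : ZMod 11) : (stdMult ^ j) i = 3 ^ j * i := by
  induction j with
  | zero => simp
  | succ j ih => rw [pow_succ', Equiv.Perm.mul_apply, ih, pow_succ', mul_assoc]; rfl

/-- Negation. -/
def stdNeg : Equiv.Perm (ZMod 11) := Equiv.neg _

end Cfsg.Lib.MEleven
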