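import Cfsg.Agent.Lib.MEleven.IndexEleven
import Cfsg.Agent.Lib.MEleven.Model

/-!
Uniqueness of the simple group of order 7920: it is a fixed permutation group on the residues modulo 11.
-/

set_option autoImplicit false
set_option linter.style.haveILetI false
set_option linter.unusedSectionVars false

namespace Cfsg.Lib.MEleven

open Cfsg

universe u

noncomputable local instance (priority := high) fintypeSubgroupMElevenUnique {A : Type u}
    [Group A] [Fintype A] (H : Subgroup A) : Fintype H := Fintype.ofFinite H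

variable {G : Type u} [Group G] [Fintype G]
variable (hG : IsM11 G) [Fact (Nat.Prime 2)] [Fact (Nat.Prime 3)] [Fact (Nat.Prime 5)] [Fact (Nat.Prime 11)]

include hG

/-- Generation by an element of order 11, one normalising it of order 5 and one normalising that. -/
theorem closure_eq_top {x u r : G} (hx : orderOf x = 11) (hu : orderOf u = 5)
    (hux : u * x * u⁻¹ = x ^ 3) (hr : r * u * r⁻¹ = u ^ 2) :
    Subgroup.closure ({x, u, r} : Set G) = ⊤ := by
  set K := Subgroup.closure ({x, u, r} : Set G) with hKdef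
  by_contra hne
  have hxK : x ∈ K := Subgroup.subset_closure (Or.inl rfl)
  have huK : u ∈ K := Subgroup.subset_closure (Or.inr (Or.inl rfl))
  have hrK : r ∈ K := Subgroup.subset_closure (Or.inr (Or.inr rfl))
  have hle : Nat.card K ≤ 720 := card_le_of_ne_top hG hne
  have hd : Nat.card K ∣ 7920 := hG.2 ▸ Subgroup.card_subgroup_dvd_card K
  set N := Subgroup.normalizer ((Subgroup.zpowers u : Subgroup G) : Set G) with hNdef
  have hrN : r ∈ N := by
    refine Subgroup.mem_normalizer_fintype fun k hk => ?_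
    obtain ⟨i, rfl⟩ := Subgroup.mem_zpowers_iff.1 hk
    show r * u ^ i * r⁻¹ ∈ Subgroup.zpowers u
    rw [show r * u ^ i * r⁻¹ = (r * u * r⁻¹) ^ i from map_zpow (MulAut.conj r).toMonoidHom u i, hr]
    exact zpow_mem (pow_mem (Subgroup.mem_zpowers _) 2) i
  have huN : u ∈ N := Subgroup.le_normalizer (Subgroup.mem_zpowers u)
  have hu5 : u ^ 5 = 1 := hu ▸ pow_orderOf_eq_one u
  have h4 : 4 ∣ orderOf r := by
    have key : ∀ i : ℕ, r ^ i * u * (r ^ i)⁻¹ = u ^ 2 ^ i := by
      intro i
      induction i with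
      | zero => simp
      | succ i ih =>
        calc r ^ (i + 1) * u * (r ^ (i + 1))⁻¹ = r * (r ^ i * u * (r ^ i)⁻¹) * r⁻¹ := by
              rw [pow_succ']; group
          _ = (r * u * r⁻¹) ^ 2 ^ i := by
              rw [ih]; exact map_pow (MulAut.conj r).toMonoidHom u _
          _ = u ^ 2 ^ (i + 1) := by rw [hr, ← pow_mul, pow_succ']
    have h := key (orderOf r)
    rw [pow_orderOf_eq_one, one_mul, inv_one, mul_one] at h
    nth_rewrite 1 [← pow_one u] at h
    have hmod := pow_eq_pow_iff_modEq.1 h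
    rw [hu] at hmod
    have hcyc : ∀ n : ℕ, 2 ^ n % 5 = 2 ^ (n % 4) % 5 := fun n => by
      conv_lhs => rw [← Nat.div_add_mod n 4, pow_add, pow_mul, Nat.mul_mod, Nat.pow_mod]
      norm_num
    have hm : 2 ^ orderOf r % 5 = 1 := hmod.symm
    rw [hcyc] at hm
    have hlt : orderOf r % 4 < 4 := Nat.mod_lt _ (by norm_num)
    refine Nat.dvd_of_mod_eq_zero ?_
    interval_cases h : orderOf r % 4 <;> first | rfl | (norm_num at hm)
  have h220 : 220 ∣ Nat.card K := by
    have a : 11 ∣ Nat.card K := hx ▸ Subgroup.orderOf_dvd_natCard _ hxK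
    have b : 5 ∣ Nat.card K := hu ▸ Subgroup.orderOf_dvd_natCard _ huK
    have c : 4 ∣ Nat.card K := h4.trans (Subgroup.orderOf_dvd_natCard _ hrK)
    rw [show 220 = 11 * (5 * 4) by norm_num]
    exact Nat.Coprime.mul_dvd_of_dvd_of_dvd (by norm_num) a
      (Nat.Coprime.mul_dvd_of_dvd_of_dvd (by norm_num) b c)
  obtain ⟨k, hk⟩ := h220
  have hk' : k ∣ 36 := by
    rw [hk, show 7920 = 220 * 36 by norm_num] at hd
    exact Nat.dvd_of_mul_dvd_mul_left (by norm_num) hd
  have hk3 : k ≤ 3 := by omega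
  have hk0 : k ≠ 0 := fun e => by
    rw [e, mul_zero] at hk; exact Nat.card_pos.ne' hk
  have hk1 : 1 ≤ k := by omega
  -- Sylow 11
  have hx11 : Nat.card (Subgroup.zpowers (⟨x, hxK⟩ : K)) = 11 := by
    rw [Nat.card_zpowers, Subgroup.orderOf_mk, hx]
  have hu5' : Nat.card (Subgroup.zpowers (⟨u, huK⟩ : K)) = 5 := by
    rw [Nat.card_zpowers, Subgroup.orderOf_mk, hu]
  obtain ⟨P, hP⟩ := (IsPGroup.of_card (p := 11) (n := 1) (by rw [hx11]; norm_num)).exists_le_sylow
  obtain ⟨Q, hQ⟩ := (IsPGroup.of_card (p := 5) (n := 1) (by rw [hu5']; norm_num)).exists_le_sylow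
  have hPc : Nat.card (P : Subgroup K) = 11 := by
    rw [Small.card_sylow 1 (20 * k) (by rw [hk]; ring) (by interval_cases k <;> norm_num) P]
    norm_num
  have hQc : Nat.card (Q : Subgroup K) = 5 := by
    rw [Small.card_sylow 1 (44 * k) (by rw [hk]; ring) (by interval_cases k <;> norm_num) Q]
    norm_num
  have hQe : (Q : Subgroup K) = Subgroup.zpowers (⟨u, huK⟩ : K) :=
    (Subgroup.eq_of_le_of_card_ge hQ (by rw [hQc, hu5'])).symm
  have hPe : (P : Subgroup K) = Subgroup.zpowers (⟨x, hxK⟩ : K) :=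
    (Subgroup.eq_of_le_of_card_ge hP (by rw [hPc, hx11])).symm
  have hQmap : (Q : Subgroup K).map K.subtype = Subgroup.zpowers u := by
    rw [hQe, MonoidHom.map_zpowers]; rfl
  have hPmap : (P : Subgroup K).map K.subtype = Subgroup.zpowers x := by
    rw [hPe, MonoidHom.map_zpowers]; rfl
  obtain ⟨R⟩ : Nonempty (Sylow 11 G) := inferInstance
  have hPc' : Nat.card ((P : Subgroup K).map K.subtype) = 11 ^ (Nat.card G).factorization 11 := by
    rw [Subgroup.card_map_of_injective (Subgroup.subtype_injective _), hPc, ← R.card_eq_multiplicity,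
      card_sylow_eleven hG R]
  set P' : Sylow 11 G := Sylow.ofCard _ hPc'
  have hN55 : Nat.card (Subgroup.normalizer (((P : Subgroup K).map K.subtype : Subgroup G) : Set G)) = 55 :=
    card_normalizer_eleven hG P'
  have hNP := Subgroup.card_dvd_of_le (Subgroup.le_normalizer_map (H := (P : Subgroup K)) K.subtype)
  rw [Subgroup.card_map_of_injective (Subgroup.subtype_injective _), hN55] at hNP
  have hNQ := Subgroup.card_dvd_of_le (Subgroup.le_normalizer_map (H := (Q : Subgroup K)) K.subtype)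
  rw [Subgroup.card_map_of_injective (Subgroup.subtype_injective _), hQmap, card_normalizer_five hG hu] at hNQ
  have h55 : 55 ∣ Nat.card (Subgroup.normalizer ((P : Subgroup K) : Set K)) := by
    have a : 11 ∣ Nat.card (Subgroup.normalizer ((P : Subgroup K) : Set K)) :=
      (dvd_of_eq hPc.symm).trans (Subgroup.card_dvd_of_le Subgroup.le_normalizer)
    have hum : (⟨u, huK⟩ : K) ∈ Subgroup.normalizer ((P : Subgroup K) : Set K) := by
      rw [hPe]
      refine Subgroup.mem_normalizer_fintype fun w hw => ?_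
      obtain ⟨i, rfl⟩ := Subgroup.mem_zpowers_iff.1 hw
      show (⟨u, huK⟩ : K) * (⟨x, hxK⟩ : K) ^ i * (⟨u, huK⟩ : K)⁻¹ ∈ Subgroup.zpowers (⟨x, hxK⟩ : K)
      rw [show (⟨u, huK⟩ : K) * (⟨x, hxK⟩ : K) ^ i * (⟨u, huK⟩ : K)⁻¹ =
        ((⟨u, huK⟩ : K) * ⟨x, hxK⟩ * (⟨u, huK⟩ : K)⁻¹) ^ i from
          map_zpow (MulAut.conj (⟨u, huK⟩ : K)).toMonoidHom _ i,
        show (⟨u, huK⟩ : K) * ⟨x, hxK⟩ * (⟨u, huK⟩ : K)⁻¹ = (⟨x, hxK⟩ : K) ^ 3 from Subtype.ext hux]
      exact zpow_mem (pow_mem (Subgroup.mem_zpowers _) 3) i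
    have b : 5 ∣ Nat.card (Subgroup.normalizer ((P : Subgroup K) : Set K)) := by
      have := Subgroup.orderOf_dvd_natCard _ hum
      rwa [Subgroup.orderOf_mk, hu] at this
    rw [show 55 = 11 * 5 by norm_num]
    exact Nat.Coprime.mul_dvd_of_dvd_of_dvd (by norm_num) a b
  have h20 : 20 ∣ Nat.card (Subgroup.normalizer ((Q : Subgroup K) : Set K)) := by
    have a : 5 ∣ Nat.card (Subgroup.normalizer ((Q : Subgroup K) : Set K)) :=
      (dvd_of_eq hQc.symm).trans (Subgroup.card_dvd_of_le Subgroup.le_normalizer)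
    have hrm : (⟨r, hrK⟩ : K) ∈ Subgroup.normalizer ((Q : Subgroup K) : Set K) := by
      rw [hQe]
      refine Subgroup.mem_normalizer_fintype fun w hw => ?_
      obtain ⟨i, rfl⟩ := Subgroup.mem_zpowers_iff.1 hw
      show (⟨r, hrK⟩ : K) * (⟨u, huK⟩ : K) ^ i * (⟨r, hrK⟩ : K)⁻¹ ∈ Subgroup.zpowers (⟨u, huK⟩ : K)
      rw [show (⟨r, hrK⟩ : K) * (⟨u, huK⟩ : K) ^ i * (⟨r, hrK⟩ : K)⁻¹ =
        ((⟨r, hrK⟩ : K) * ⟨u, huK⟩ * (⟨r, hrK⟩ : K)⁻¹) ^ i from
          map_zpow (MulAut.conj (⟨r, hrK⟩ : K)).toMonoidHom _ i,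
        show (⟨r, hrK⟩ : K) * ⟨u, huK⟩ * (⟨r, hrK⟩ : K)⁻¹ = (⟨u, huK⟩ : K) ^ 2 from Subtype.ext hr]
      exact zpow_mem (pow_mem (Subgroup.mem_zpowers _) 2) i
    have b : 4 ∣ Nat.card (Subgroup.normalizer ((Q : Subgroup K) : Set K)) := by
      have := Subgroup.orderOf_dvd_natCard _ hrm
      rw [Subgroup.orderOf_mk] at this
      exact h4.trans this
    rw [show 20 = 5 * 4 by norm_num]
    exact Nat.Coprime.mul_dvd_of_dvd_of_dvd (by norm_num) a b
  have hmP := Small.card_normalizer_mul P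
  have hmQ := Small.card_normalizer_mul Q
  rw [Nat.dvd_antisymm hNP h55, hk] at hmP
  rw [Nat.dvd_antisymm hNQ h20, hk] at hmQ
  have h1 : Nat.card (Sylow 11 K) % 11 = 1 := card_sylow_modEq_one 11 K
  have h2 : Nat.card (Sylow 5 K) % 5 = 1 := card_sylow_modEq_one 5 K
  omega

/-- The action on the cosets of a subgroup of index 11 is the standard permutation group. -/
theorem exists_model_action (H : Subgroup G) (hH : H.index = 11) :
    ∃ (ψ : G →* Equiv.Perm (ZMod 11)) (b : G ⧸ H ≃ ZMod 11), Function.Injective ψ ∧ ψ.range = stdGroup ∧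
      ∀ (g : G) (p : G ⧸ H), ψ g (b p) = b (g • p) := by
  classical
  haveI := hG.1
  have hH720 : Nat.card H = 720 := by
    have h := H.card_mul_index
    rw [hH, hG.2] at h
    omega
  set φ₀ := MulAction.toPermHom G (G ⧸ H) with hφ₀
  have hker : φ₀.ker = ⊥ := by
    rcases φ₀.normal_ker.eq_bot_or_eq_top with h | h
    · exact h
    · exfalso
      have hle : (⊤ : Subgroup G) ≤ H := by
        rw [← h, hφ₀, ← Subgroup.normalCore_eq_ker]
        exact H.normalCore_le
      have := Subgroup.card_le_of_le hle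
      rw [Nat.card_congr Subgroup.topEquiv.toEquiv, hG.2, hH720] at this
      omega
  have hφinj : Function.Injective φ₀ := (MonoidHom.ker_eq_bot_iff φ₀).1 hker
  obtain ⟨x, hx⟩ := exists_orderOf_eleven hG
  obtain ⟨P⟩ : Nonempty (Sylow 11 G) := inferInstance
  -- an element of order 5 inducing multiplication by 3
  obtain ⟨Px, hPx⟩ := (IsPGroup.of_card (p := 11) (n := 1)
    (by rw [Nat.card_zpowers, hx]; norm_num : Nat.card (Subgroup.zpowers x) = 11 ^ 1)).exists_le_sylow
  have hPe : (Px : Subgroup G) = Subgroup.zpowers x :=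
    (Subgroup.eq_of_le_of_card_ge hPx (by rw [Nat.card_zpowers, hx, card_sylow_eleven hG])).symm
  have hN := card_normalizer_eleven hG Px
  obtain ⟨⟨u₁, hu₁N⟩, hu₁⟩ := exists_prime_orderOf_dvd_card' 5
    (show 5 ∣ Nat.card (Subgroup.normalizer ((Px : Subgroup G) : Set G)) by rw [hN]; norm_num)
  rw [Subgroup.orderOf_mk] at hu₁
  have hx11 : x ^ 11 = 1 := hx ▸ pow_orderOf_eq_one x
  obtain ⟨e, he⟩ : ∃ e : ℕ, u₁ * x * u₁⁻¹ = x ^ e := by
    have hm : u₁ * x * u₁⁻¹ ∈ (Px : Subgroup G) :=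
      (Subgroup.mem_normalizer_iff.1 hu₁N x).1 (hPe ▸ Subgroup.mem_zpowers x)
    rw [hPe, ← mem_powers_iff_mem_zpowers] at hm
    obtain ⟨e, he⟩ := hm
    exact ⟨e, he.symm⟩
  have hiter : ∀ i : ℕ, u₁ ^ i * x * (u₁ ^ i)⁻¹ = x ^ e ^ i := by
    intro i
    induction i with
    | zero => simp
    | succ i ih =>
      calc u₁ ^ (i + 1) * x * (u₁ ^ (i + 1))⁻¹ = u₁ * (u₁ ^ i * x * (u₁ ^ i)⁻¹) * u₁⁻¹ := by
            rw [pow_succ']; group
        _ = (u₁ * x * u₁⁻¹) ^ e ^ i := by rw [ih]; exact map_pow (MulAut.conj u₁).toMonoidHom x _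
        _ = x ^ e ^ (i + 1) := by rw [he, ← pow_mul, pow_succ']
  have hne1 : e % 11 ≠ 1 := fun h1 => by
    rw [← pow_mod_orderOf x e, hx, h1, pow_one] at he
    have hd := Subgroup.orderOf_dvd_natCard _ (Subgroup.mem_centralizer_singleton_iff.2
      (mul_inv_eq_iff_eq_mul.1 he) : u₁ ∈ Subgroup.centralizer ({x} : Set G))
    rw [hu₁, card_centralizer_eleven hG hx] at hd
    norm_num at hd
  have h5 : e ^ 5 % 11 = 1 := by
    have h := hiter 5
    rw [show u₁ ^ 5 = 1 from hu₁ ▸ pow_orderOf_eq_one u₁, one_mul, inv_one, mul_one] at h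
    nth_rewrite 1 [← pow_one x] at h
    have hmod := pow_eq_pow_iff_modEq.1 h
    rw [hx] at hmod
    exact hmod.symm
  obtain ⟨j, hj⟩ : ∃ j : ℕ, e ^ j % 11 = 3 := by
    rw [Nat.pow_mod] at h5
    have hlt : e % 11 < 11 := Nat.mod_lt _ (by norm_num)
    interval_cases hc : e % 11 <;> (try norm_num at h5) <;> (try norm_num at hne1)
    · exact ⟨1, by rw [pow_one, hc]⟩
    · exact ⟨4, by rw [Nat.pow_mod, hc]⟩
    · exact ⟨2, by rw [Nat.pow_mod, hc]⟩
    · exact ⟨3, by rw [Nat.pow_mod, hc]⟩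
  set u₂ := u₁ ^ j with hu₂def
  have hu₂x : u₂ * x * u₂⁻¹ = x ^ 3 := by
    rw [hiter j, ← pow_mod_orderOf, hx, hj]
  have hu₂5 : u₂ ^ 5 = 1 := by
    rw [hu₂def, ← pow_mul, mul_comm, pow_mul, show u₁ ^ 5 = 1 from hu₁ ▸ pow_orderOf_eq_one u₁, one_pow]
  have hu₂1 : u₂ ≠ 1 := fun h => by
    rw [h, one_mul, inv_one, mul_one] at hu₂x
    nth_rewrite 1 [← pow_one x] at hu₂x
    have := pow_eq_pow_iff_modEq.1 hu₂x
    rw [hx] at this
    exact absurd this (by decide)
  -- a point fixed by `u₂`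
  have hcard : Nat.card (G ⧸ H) = 11 := hH
  have hord2 : orderOf u₂ = 5 := orderOf_eq_prime hu₂5 hu₂1
  haveI : Fintype (G ⧸ H) := Fintype.ofFinite _
  obtain ⟨q, hq⟩ : ∃ q : G ⧸ H, u₂ • q = q := by
    have hp : IsPGroup 5 (Subgroup.zpowers u₂) :=
      IsPGroup.of_card (n := 1) (by rw [Nat.card_zpowers, hord2]; norm_num)
    have hmod := hp.card_modEq_card_fixedPoints (G ⧸ H)
    have hpos : 0 < Nat.card (MulAction.fixedPoints (Subgroup.zpowers u₂) (G ⧸ H)) := by
      rw [hcard] at hmod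
      rcases Nat.eq_zero_or_pos (Nat.card (MulAction.fixedPoints (Subgroup.zpowers u₂) (G ⧸ H))) with h | h
      · rw [h] at hmod; exact absurd hmod (by decide)
      · exact h
    obtain ⟨⟨q, hq⟩⟩ := (Nat.card_pos_iff.1 hpos).1
    exact ⟨q, hq ⟨u₂, Subgroup.mem_zpowers u₂⟩⟩
  have hxfix : ∀ k : ℕ, ¬ 11 ∣ k → ∀ p : G ⧸ H, x ^ k • p ≠ p := by
    intro k hk p
    induction p using QuotientGroup.induction_on with
    | H g =>
      intro h
      have h' : (x ^ k * g : G ⧸ H) = (g : G ⧸ H) := h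
      rw [QuotientGroup.eq] at h'
      have hd := Subgroup.orderOf_dvd_natCard _ h'
      rw [show (x ^ k * g)⁻¹ * g = (g⁻¹ * x ^ k * g⁻¹⁻¹)⁻¹ by group, orderOf_inv,
        show orderOf (g⁻¹ * x ^ k * g⁻¹⁻¹) = orderOf (x ^ k) from (MulAut.conj g⁻¹).orderOf_eq _,
        Nat.Coprime.orderOf_pow (by rw [hx]; exact (Nat.Prime.coprime_iff_not_dvd (by norm_num)).2 hk),
        hx, hH720] at hd
      norm_num at hd
  have hpow : ∀ a b : ZMod 11, x ^ (a + b).val = x ^ a.val * x ^ b.val := fun a b => by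
    rw [← pow_add, ← pow_mod_orderOf x (a.val + b.val), hx, ← ZMod.val_add]
  have hbij : Function.Bijective fun i : ZMod 11 => x ^ i.val • q := by
    refine (Nat.bijective_iff_injective_and_card _).2 ⟨fun a b h => ?_, by rw [Nat.card_zmod, hcard]⟩
    by_contra hne
    refine hxfix (a - b).val (fun h11 => hne ?_) (x ^ b.val • q) ?_
    · exact sub_eq_zero.1 ((ZMod.val_eq_zero _).1 (Nat.eq_zero_of_dvd_of_lt h11 (ZMod.val_lt _)))
    · rw [← mul_smul, ← hpow, sub_add_cancel]
      exact h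
  let β : ZMod 11 ≃ G ⧸ H := Equiv.ofBijective _ hbij
  let φ : G →* Equiv.Perm (ZMod 11) :=
    { toFun := fun g => β.trans ((φ₀ g).trans β.symm)
      map_one' := by ext i; simp
      map_mul' := fun a b => by ext i; simp [mul_smul, φ₀] }
  have hφi : Function.Injective φ := fun a b h => hφinj (by
    ext p
    have := congrArg (fun σ : Equiv.Perm (ZMod 11) => σ (β.symm p)) h
    simpa [φ] using this)
  have hval : ∀ (g : G) (i j : ZMod 11), g • (x ^ i.val • q) = x ^ j.val • q → φ g i = j := fun g i j h => by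
    show β.symm (g • β i) = j
    rw [Equiv.symm_apply_eq]
    exact h
  have hφx : ∀ i, φ x i = i + 1 := fun i => by
    refine hval x i (i + 1) ?_
    rw [hpow, ← mul_smul]
    congr 1
    rw [show (1 : ZMod 11).val = 1 from rfl, pow_one]
    exact ((Commute.refl x).pow_right _).eq
  have hφu : ∀ i, φ u₂ i = 3 * i := fun i => by
    refine hval u₂ i (3 * i) ?_
    have h3 : x ^ (3 * i).val = (x ^ 3) ^ i.val := by
      rw [← pow_mul, ← pow_mod_orderOf x (3 * i.val), hx, ZMod.val_mul]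
      rfl
    calc u₂ • (x ^ i.val • q) = (u₂ * x * u₂⁻¹) ^ i.val • (u₂ • q) := by
          rw [show (u₂ * x * u₂⁻¹) ^ i.val = u₂ * x ^ i.val * u₂⁻¹ from
            (map_pow (MulAut.conj u₂).toMonoidHom x _).symm, ← mul_smul, ← mul_smul]
          group
      _ = x ^ (3 * i).val • q := by rw [hq, hu₂x, h3]
  -- the normalising element
  obtain ⟨r, hr⟩ : ∃ r : G, r * u₂ * r⁻¹ = u₂ ^ 2 :=
    isConj_iff.1 (isConj_pow_five_of_twenty hG hord2 (card_centralizer_five hG hord2) (card_normalizer_five hG hord2)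
      (by norm_num))
  set f := fun i => φ r i with hfdef
  have hf : ∀ i, f (3 * i) = 9 * f i := fun i => by
    have h : φ r * φ u₂ = φ u₂ * φ u₂ * φ r := by
      rw [← map_mul, ← map_mul, ← map_mul, ← pow_two, ← hr]
      congr 1
      group
    have h' := DFunLike.congr_fun h i
    simp only [Equiv.Perm.mul_apply, hφu] at h'
    show φ r (3 * i) = 9 * φ r i
    rw [h', ← mul_assoc, show (3 : ZMod 11) * 3 = 9 by norm_num]
  have hfe := rFun_eq hf
  have hinj : Function.Injective (rFun (f 1) (f 10)) := fun a b h =>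
    (φ r).injective ((hfe a).trans (h.trans (hfe b).symm))
  have hgen := closure_eq_top hG hx hord2 hu₂x hr
  -- the range of a homomorphism sending the generators correctly
  have hrange : ∀ (ψ : G →* Equiv.Perm (ZMod 11)) (σ : Equiv.Perm (ZMod 11)) (j : ℕ),
      (σ = stdShift ∨ σ = stdShift⁻¹) → ψ x = σ → ψ u₂ = stdMult → ψ r = stdMult ^ j * stdTwist →
      ψ.range = stdGroup := by
    intro ψ σ j hσ hψx hψu hψr
    rw [MonoidHom.range_eq_map, ← hgen, MonoidHom.map_closure, stdGroup, Set.image_insert_eq,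
      Set.image_insert_eq, Set.image_singleton, hψx, hψu, hψr]
    apply le_antisymm <;> rw [Subgroup.closure_le]
    · have m1 : stdShift ∈ Subgroup.closure ({stdShift, stdMult, stdTwist} : Set (Equiv.Perm (ZMod 11))) :=
        Subgroup.subset_closure (Or.inl rfl)
      have m2 : stdMult ∈ Subgroup.closure ({stdShift, stdMult, stdTwist} : Set (Equiv.Perm (ZMod 11))) :=
        Subgroup.subset_closure (Or.inr (Or.inl rfl))
      have m3 : stdTwist ∈ Subgroup.closure ({stdShift, stdMult, stdTwist} : Set (Equiv.Perm (ZMod 11))) :=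
        Subgroup.subset_closure (Or.inr (Or.inr rfl))
      rintro p (rfl | rfl | rfl)
      · rcases hσ with rfl | rfl
        exacts [m1, inv_mem m1]
      · exact m2
      · exact mul_mem (pow_mem m2 j) m3
    · set S : Set (Equiv.Perm (ZMod 11)) := {σ, stdMult, stdMult ^ j * stdTwist}
      have m1 : σ ∈ Subgroup.closure S := Subgroup.subset_closure (Or.inl rfl)
      have m2 : stdMult ∈ Subgroup.closure S := Subgroup.subset_closure (Or.inr (Or.inl rfl))
      have m3 : stdMult ^ j * stdTwist ∈ Subgroup.closure S := Subgroup.subset_closure (Or.inr (Or.inr rfl))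
      rintro p (rfl | rfl | rfl)
      · rcases hσ with e | e
        · exact e ▸ m1
        · rw [← inv_inv stdShift, ← e]; exact inv_mem m1
      · exact m2
      · have h := mul_mem (inv_mem (pow_mem m2 j)) m3
        rwa [inv_mul_cancel_left] at h
  rcases rFun_cases (f 1) (f 10) hinj with ⟨j, hj⟩ | ⟨j, hj⟩ | ⟨w, -, p, hp7, hp1⟩
  · refine ⟨φ, β.symm, hφi, hrange φ _ j (Or.inl rfl) ?_ ?_ ?_,
      fun g p => hval g _ _ (by show g • β (β.symm p) = β (β.symm (g • p)); simp)⟩
    · ext i; simp [hφx, stdShift]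
    · ext i; simp [hφu, stdMult]
    · refine Equiv.ext fun i => ?_
      rw [Equiv.Perm.mul_apply, stdMult_pow_apply]
      exact (hfe i).trans (hj i)
  · refine ⟨(MulAut.conj stdNeg).toMonoidHom.comp φ, β.symm.trans stdNeg,
      (MulAut.conj stdNeg).injective.comp hφi, hrange _ _ j (Or.inr rfl) ?_ ?_ ?_, fun g p => ?_⟩
    rotate_left 3
    · show stdNeg (φ g (stdNeg.symm (stdNeg (β.symm p)))) = stdNeg (β.symm (g • p))
      rw [Equiv.symm_apply_apply]
      exact congrArg stdNeg (hval g _ _ (by show g • β (β.symm p) = β (β.symm (g • p)); simp))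
    all_goals refine Equiv.ext fun i => ?_
    all_goals simp only [MonoidHom.comp_apply, MulEquiv.coe_toMonoidHom, MulAut.conj_apply,
      Equiv.Perm.mul_apply]
    · show -(φ x (-i)) = _
      rw [hφx, Equiv.Perm.inv_def, eq_comm, Equiv.symm_apply_eq]
      simp [stdShift]
    · show -(φ u₂ (-i)) = _
      rw [hφu]
      show -(3 * -i) = 3 * i
      ring
    · show -(φ r (-i)) = _
      rw [stdMult_pow_apply]
      show -(f (-i)) = _
      rw [hfe]
      exact hj i
  · exfalso
    have key : ∀ (w : List Bool) (g : G) (p : ZMod 11),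
        φ (w.foldl (fun acc c => (if c then r else x) * acc) g) p = runWord (f 1) (f 10) w (φ g p) := by
      intro w
      induction w with
      | nil => intros; rfl
      | cons c w ih =>
        intro g p
        simp only [List.foldl_cons, runWord]
        rw [ih]
        show runWord _ _ w _ = runWord _ _ w _
        congr 1
        rw [map_mul, Equiv.Perm.mul_apply]
        cases c
        · exact hφx _
        · exact hfe _
    set g := w.foldl (fun acc c => (if c then r else x) * acc) (1 : G)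
    have hg : ∀ p, φ g p = runWord (f 1) (f 10) w p := fun p => by
      rw [key w 1 p, map_one, Equiv.Perm.one_apply]
    have hfun : (φ g : ZMod 11 → ZMod 11) = runWord (f 1) (f 10) w := funext hg
    have hit : Function.IsPeriodicPt (runWord (f 1) (f 10) w) 7 p := hp7
    have h7920 : Function.IsPeriodicPt (runWord (f 1) (f 10) w) 7920 p := by
      show (runWord (f 1) (f 10) w)^[7920] p = p
      rw [← hfun, ← Equiv.Perm.coe_pow, ← map_pow,
        show g ^ 7920 = 1 by rw [← hG.2]; exact pow_card_eq_one', map_one, Equiv.Perm.one_apply]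
    have h1 : Function.IsPeriodicPt (runWord (f 1) (f 10) w) 1 p := by
      have := hit.gcd h7920
      rwa [show Nat.gcd 7 7920 = 1 by norm_num] at this
    exact hp1 h1

/-- An embedding into the permutations of the residues modulo 11 with the standard image. -/
theorem exists_model_hom :
    ∃ ψ : G →* Equiv.Perm (ZMod 11), Function.Injective ψ ∧ ψ.range = stdGroup := by
  obtain ⟨H, hH⟩ := exists_index_eleven hG
  obtain ⟨ψ, -, hi, hr, -⟩ := exists_model_action hG H hH
  exact ⟨ψ, hi, hr⟩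

omit [Fact (Nat.Prime 2)] [Fact (Nat.Prime 3)] [Fact (Nat.Prime 5)] [Fact (Nat.Prime 11)] in
/-- A simple group of order 7920 is the standard permutation group. -/
theorem nonempty_mulEquiv_std : Nonempty (G ≃* stdGroup) := by
  haveI : Fact (Nat.Prime 2) := ⟨by norm_num⟩
  haveI : Fact (Nat.Prime 3) := ⟨by norm_num⟩
  haveI : Fact (Nat.Prime 5) := ⟨by norm_num⟩
  haveI : Fact (Nat.Prime 11) := ⟨by norm_num⟩
  obtain ⟨ψ, hi, hr⟩ := exists_model_hom hG
  exact ⟨(MonoidHom.ofInjective hi).trans (MulEquiv.subgroupCongr hr)⟩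

end Cfsg.Lib.MEleven

namespace Cfsg.Lib.MEleven

universe v w

/-- Simple groups of order 7920 are isomorphic. -/
theorem nonempty_mulEquiv {G : Type v} [Group G] [Finite G] {G' : Type w} [Group G'] [Finite G']
    (hG : Cfsg.IsM11 G) (hG' : Cfsg.IsM11 G') : Nonempty (G ≃* G') := by
  haveI := Fintype.ofFinite G
  haveI := Fintype.ofFinite G'
  obtain ⟨e⟩ := nonempty_mulEquiv_std hG
  obtain ⟨e'⟩ := nonempty_mulEquiv_std hG'
  exact ⟨e.trans e'.symm⟩

end Cfsg.Lib.MEleven
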