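import Cfsg.Agent.Lib.MEleven.Spor
import Cfsg.Agent.Lib.Small.SimpleOrder

/-!
A group of order 7920 with self-centralising elements of order 11 is simple; centraliser and counting
facts in the simple group of that order.
-/

set_option autoImplicit false
set_option linter.style.haveILetI false
set_option linter.unusedSectionVars false

namespace Cfsg.Lib.MEleven

open Cfsg

universe u

variable {G : Type u} [Group G] [Finite G]

/-- A Sylow subgroup of a normal subgroup is normalised by an element of order 11 when 11 is prime to the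
order of the normal subgroup. -/
theorem exists_normalizing_eleven (N : Subgroup G) [N.Normal] (h11G : 11 ∣ Nat.card G)
    (h11N : ¬ 11 ∣ Nat.card N) {r : ℕ} [Fact r.Prime] (R : Sylow r N) :
    ∃ x : G, orderOf x = 11 ∧
      x ∈ Subgroup.normalizer (((R : Subgroup N).map N.subtype : Subgroup G) : Set G) := by
  haveI : Fact (Nat.Prime 11) := ⟨by norm_num⟩
  have htop := Sylow.normalizer_sup_eq_top R
  set M := Subgroup.normalizer (((R : Subgroup N).map N.subtype : Subgroup G) : Set G) with hM
  have hsurj : Function.Surjective ((QuotientGroup.mk' N).comp M.subtype) := by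
    intro q
    induction q using QuotientGroup.induction_on with
    | H g =>
      have hg : g ∈ M ⊔ N := htop ▸ Subgroup.mem_top g
      obtain ⟨m, hm, n, hn, rfl⟩ := Subgroup.mem_sup_of_normal_right.1 hg
      exact ⟨⟨m, hm⟩, (QuotientGroup.mk_mul_of_mem m hn).symm⟩
  have hd : 11 ∣ Nat.card (G ⧸ N) := by
    have h := Subgroup.card_eq_card_quotient_mul_card_subgroup N
    rw [h] at h11G
    exact ((Nat.Prime.dvd_mul (by norm_num)).1 h11G).resolve_right h11N
  have hM11 : 11 ∣ Nat.card M := hd.trans (Subgroup.card_dvd_of_surjective _ hsurj)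
  obtain ⟨⟨x, hxM⟩, hx⟩ := exists_prime_orderOf_dvd_card' 11 hM11
  rw [Subgroup.orderOf_mk] at hx
  exact ⟨x, hx, hxM⟩

/-- An element of order 11 with centraliser of order 11 moves everything outside its subgroup. -/
theorem modEq_one_of_fixed {x : G} (hx : orderOf x = 11)
    (hC : Nat.card (Subgroup.centralizer ({x} : Set G)) = 11) (K : Subgroup G)
    (hK : ∀ k ∈ K, x * k * x⁻¹ ∈ K) (h11 : ¬ 11 ∣ Nat.card K) : Nat.card K % 11 = 1 := by
  haveI : Fact (Nat.Prime 11) := ⟨by norm_num⟩
  have hn : x ∈ Subgroup.normalizer (K : Set G) := by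
    haveI : Finite (K : Set G) := Set.toFinite _
    exact Subgroup.mem_normalizer_fintype hK
  set A := Subgroup.zpowers x
  have hA : IsPGroup 11 A := IsPGroup.of_card (n := 1) (by rw [Nat.card_zpowers, hx]; norm_num)
  let act : MulAction A K :=
    { smul := fun a k => ⟨(a : G) * k * (a : G)⁻¹,
        (Subgroup.mem_normalizer_iff.1 ((Subgroup.zpowers_le.2 hn) a.2) k).1 k.2⟩
      one_smul := fun k => Subtype.ext (show (1 : G) * k * (1 : G)⁻¹ = k by group)
      mul_smul := fun a b k => Subtype.ext (by
        show ((a * b : A) : G) * k * ((a * b : A) : G)⁻¹ = (a : G) * ((b : G) * k * (b : G)⁻¹) * (a : G)⁻¹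
        rw [Subgroup.coe_mul]; group) }
  have h := hA.card_modEq_card_fixedPoints K
  have hfix : ∀ k : K, k ∈ MulAction.fixedPoints A K → k = 1 := by
    intro k hk
    have hkx : x * (k : G) * x⁻¹ = k := congrArg Subtype.val (hk ⟨x, Subgroup.mem_zpowers x⟩)
    have hm : (k : G) ∈ Subgroup.centralizer ({x} : Set G) :=
      Subgroup.mem_centralizer_singleton_iff.2 (mul_inv_eq_iff_eq_mul.1 hkx).symm
    have h1 : orderOf (k : G) ∣ 11 := hC ▸ Subgroup.orderOf_dvd_natCard _ hm
    have h2 : orderOf (k : G) ∣ Nat.card K := Subgroup.orderOf_dvd_natCard _ k.2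
    rcases (Nat.dvd_prime (by norm_num)).1 h1 with e | e
    · exact Subtype.ext (orderOf_eq_one_iff.1 e)
    · exact absurd (e ▸ h2) h11
  have hone : (1 : K) ∈ MulAction.fixedPoints A K := fun a =>
    Subtype.ext (show (a : G) * 1 * (a : G)⁻¹ = 1 by group)
  have hcard : Nat.card (MulAction.fixedPoints A K) = 1 := by
    rw [Nat.card_eq_one_iff_unique]
    exact ⟨⟨fun a b => Subtype.ext ((hfix a a.2).trans (hfix b b.2).symm)⟩, ⟨⟨1, hone⟩⟩⟩
  rw [hcard] at h
  exact h

theorem eq_bot_of_not_eleven_dvd (hord : Nat.card G = 7920)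
    (hC : ∀ x : G, orderOf x = 11 → Nat.card (Subgroup.centralizer ({x} : Set G)) = 11)
    (N : Subgroup G) [N.Normal] (h11 : ¬ 11 ∣ Nat.card N) : N = ⊥ := by
  rw [Subgroup.eq_bot_iff_card]
  by_contra hne
  obtain ⟨r, hr, hrN⟩ := Nat.exists_prime_and_dvd hne
  haveI := Fact.mk hr
  have hr7920 : r ∣ 7920 := hord ▸ hrN.trans (Subgroup.card_subgroup_dvd_card N)
  obtain ⟨R⟩ : Nonempty (Sylow r N) := inferInstance
  obtain ⟨x, hx, hxR⟩ := exists_normalizing_eleven N (by rw [hord]; norm_num) h11 R
  set K := (R : Subgroup N).map N.subtype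
  have hKc : Nat.card K = r ^ (Nat.card N).factorization r := by
    rw [Subgroup.card_map_of_injective (Subgroup.subtype_injective _), R.card_eq_multiplicity]
  have h11K : ¬ 11 ∣ Nat.card K := fun h => h11 (h.trans (Subgroup.card_dvd_of_le (Subgroup.map_subtype_le _)))
  have hmod := modEq_one_of_fixed hx (hC x hx) K (fun k hk => (Subgroup.mem_normalizer_iff.1 hxR k).1 hk) h11K
  have hpos : 0 < (Nat.card N).factorization r := hr.factorization_pos_of_dvd Nat.card_pos.ne' hrN
  have hle : r ^ (Nat.card N).factorization r ∣ 7920 :=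
    hord ▸ (Nat.ordProj_dvd _ _).trans (Subgroup.card_subgroup_dvd_card N)
  rw [hKc] at hmod
  set e := (Nat.card N).factorization r
  have hmem : r ∈ Nat.primeFactors 7920 := Nat.mem_primeFactors.2 ⟨hr, hr7920, by norm_num⟩
  rw [show Nat.primeFactors 7920 = {2, 3, 5, 11} by decide +kernel] at hmem
  have hee : ∀ b, ¬ r ^ (b + 1) ∣ 7920 → e ≤ b := fun b hb => by
    by_contra hlt
    exact hb ((pow_dvd_pow r (by omega : b + 1 ≤ e)).trans hle)
  simp only [Finset.mem_insert, Finset.mem_singleton] at hmem
  rcases hmem with rfl | rfl | rfl | rfl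
  · have := hee 4 (by norm_num)
    interval_cases e <;> norm_num at hmod
  · have := hee 2 (by norm_num)
    interval_cases e <;> norm_num at hmod
  · have := hee 1 (by norm_num)
    interval_cases e
    norm_num at hmod
  · exact h11 hrN

theorem card_sylow_eleven_of_centralizer (hord : Nat.card G = 7920)
    (hC : ∀ x : G, orderOf x = 11 → Nat.card (Subgroup.centralizer ({x} : Set G)) = 11) [Fact (Nat.Prime 11)]
    (P : Sylow 11 G) :
    Nat.card (Sylow 11 G) = 144 ∧ Nat.card (P : Subgroup G) = 11 ∧
      Subgroup.centralizer ((P : Subgroup G) : Set G) = P := by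
  have hP : Nat.card (P : Subgroup G) = 11 := by
    rw [Small.card_sylow 1 720 (by rw [hord]; norm_num) (by decide) P]; norm_num
  obtain ⟨⟨x, hxP⟩, hx⟩ := exists_prime_orderOf_dvd_card' 11 (dvd_of_eq hP.symm)
  rw [Subgroup.orderOf_mk] at hx
  have hCP : Subgroup.centralizer ((P : Subgroup G) : Set G) = P := by
    refine (Subgroup.eq_of_le_of_card_ge (fun a ha => ?_) ?_).symm
    · have hPe : (P : Subgroup G) = Subgroup.zpowers x := by
        refine (Subgroup.eq_of_le_of_card_ge (Subgroup.zpowers_le.2 hxP) ?_).symm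
        rw [Nat.card_zpowers, hx, hP]
      rw [hPe] at ha ⊢
      refine Subgroup.mem_centralizer_iff.2 fun b hb => ?_
      obtain ⟨i, rfl⟩ := Subgroup.mem_zpowers_iff.1 ha
      obtain ⟨j, rfl⟩ := Subgroup.mem_zpowers_iff.1 hb
      exact (zpow_mul_comm x i j).symm
    · have hle : Subgroup.centralizer ((P : Subgroup G) : Set G) ≤ Subgroup.centralizer ({x} : Set G) :=
        fun a ha => Subgroup.mem_centralizer_singleton_iff.2 (Subgroup.mem_centralizer_iff.1 ha x hxP).symm
      have h := Subgroup.card_le_of_le hle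
      rw [hC x hx] at h
      rw [hP]
      exact h
  refine ⟨?_, hP, hCP⟩
  have hm := Small.card_normalizer_mul P
  have hd : Nat.card (Subgroup.normalizer ((P : Subgroup G) : Set G)) ∣ 110 := by
    have h1 := Small.relIndex_centralizer_dvd (P : Subgroup G) hP
    rw [hCP] at h1
    have h2 := Subgroup.relIndex_mul_index (Subgroup.le_normalizer (H := (P : Subgroup G)))
    have h3 := (P : Subgroup G).card_mul_index
    have h4 := (Subgroup.normalizer ((P : Subgroup G) : Set G)).card_mul_index
    rw [← h2, hP] at h3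
    have hpos : 0 < (Subgroup.normalizer ((P : Subgroup G) : Set G)).index := Nat.pos_of_ne_zero
      Subgroup.index_ne_zero_of_finite
    have h5 : Nat.card (Subgroup.normalizer ((P : Subgroup G) : Set G)) =
        11 * (P : Subgroup G).relIndex (Subgroup.normalizer ((P : Subgroup G) : Set G)) := by
      refine Nat.eq_of_mul_eq_mul_right hpos ?_
      rw [h4, mul_assoc, h3]
    rw [h5, show 110 = 11 * 10 by norm_num]
    exact Nat.mul_dvd_mul_left 11 h1
  rw [hord] at hm
  have hmod : Nat.card (Sylow 11 G) % 11 = 1 := card_sylow_modEq_one 11 G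
  set n := Nat.card (Subgroup.normalizer ((P : Subgroup G) : Set G))
  have hn : n ∈ Nat.divisors 110 := Nat.mem_divisors.2 ⟨hd, by norm_num⟩
  rw [show Nat.divisors 110 = {1, 2, 5, 10, 11, 22, 55, 110} by decide] at hn
  simp only [Finset.mem_insert, Finset.mem_singleton] at hn
  rcases hn with h | h | h | h | h | h | h | h <;> rw [h] at hm <;> omega

/-- Self-centralising elements of order 11 force simplicity. -/
theorem isM11_of_centralizer (hord : Nat.card G = 7920)
    (hC : ∀ x : G, orderOf x = 11 → Nat.card (Subgroup.centralizer ({x} : Set G)) = 11) : IsM11 G := by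
  haveI : Fact (Nat.Prime 11) := ⟨by norm_num⟩
  haveI : Nontrivial G := Finite.one_lt_card_iff_nontrivial.1 (by rw [hord]; norm_num)
  refine ⟨⟨fun N hN => ?_⟩, hord⟩
  haveI := hN
  by_cases h11 : 11 ∣ Nat.card N
  swap
  · exact Or.inl (eq_bot_of_not_eleven_dvd hord hC N h11)
  right
  obtain ⟨P⟩ : Nonempty (Sylow 11 N) := inferInstance
  obtain ⟨Q⟩ : Nonempty (Sylow 11 G) := inferInstance
  obtain ⟨h144, hQ, hCQ⟩ := card_sylow_eleven_of_centralizer hord hC Q
  have hNd : Nat.card N ∣ 7920 := hord ▸ Subgroup.card_subgroup_dvd_card N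
  obtain ⟨b, hb⟩ := h11
  have hb720 : b ∣ 720 := by
    rw [hb, show 7920 = 11 * 720 by norm_num] at hNd
    exact Nat.dvd_of_mul_dvd_mul_left (by norm_num) hNd
  have hb11 : ¬ 11 ∣ b := fun h => by
    have := h.trans hb720
    norm_num at this
  have hP : Nat.card (P : Subgroup N) = 11 := by
    rw [Small.card_sylow 1 b (by rw [hb]; ring) hb11 P]; norm_num
  -- all the Sylow 11-subgroups lie in `N`
  have hQN : ∀ R : Sylow 11 G, (R : Subgroup G) ≤ N := by
    intro R
    have hc : Nat.card ((P : Subgroup N).map N.subtype) = 11 ^ (Nat.card G).factorization 11 := by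
      rw [Subgroup.card_map_of_injective (Subgroup.subtype_injective _), hP, ← Q.card_eq_multiplicity, hQ]
    obtain ⟨g, hg⟩ := MulAction.exists_smul_eq G (Sylow.ofCard _ hc : Sylow 11 G) R
    intro a ha
    rw [← hg, Sylow.coe_subgroup_smul] at ha
    obtain ⟨p, hp, rfl⟩ := ha
    exact hN.conj_mem _ (Subgroup.map_subtype_le _ hp) g
  have hsyl : Nat.card (Sylow 11 G) ≤ Nat.card (Sylow 11 N) := by
    refine Nat.card_le_card_of_injective (fun R : Sylow 11 G => R.subtype (hQN R)) fun R R' h => ?_
    apply Sylow.ext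
    ext a
    constructor <;> intro ha
    · have h1 : (⟨a, hQN R ha⟩ : N) ∈ ((R.subtype (hQN R) : Sylow 11 N) : Subgroup N) := ha
      rw [show (R.subtype (hQN R) : Sylow 11 N) = R'.subtype (hQN R') from h] at h1
      exact h1
    · have h1 : (⟨a, hQN R' ha⟩ : N) ∈ ((R'.subtype (hQN R') : Sylow 11 N) : Subgroup N) := ha
      rw [← show (R.subtype (hQN R) : Sylow 11 N) = R'.subtype (hQN R') from h] at h1
      exact h1
  have hm := Small.card_normalizer_mul P
  have hmod : Nat.card (Sylow 11 N) % 11 = 1 := card_sylow_modEq_one 11 N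
  rw [hb] at hm
  obtain ⟨c, hc⟩ : 11 ∣ Nat.card (Subgroup.normalizer ((P : Subgroup N) : Set N)) :=
    (dvd_of_eq hP.symm).trans (Subgroup.card_dvd_of_le Subgroup.le_normalizer)
  rw [hc] at hm
  have hm' : c * Nat.card (Sylow 11 N) = b := by linarith
  have hle : Nat.card (Sylow 11 N) ∣ 720 := (Dvd.intro_left c hm').trans hb720
  have hn144 : Nat.card (Sylow 11 N) = 144 := by
    have := Nat.le_of_dvd (by norm_num) hle
    obtain ⟨m, hm⟩ := hle
    rcases m with _ | _ | _ | _ | _ | _ | m <;> [omega; omega; omega; omega; omega; omega; nlinarith]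
  have hc1 : c ≠ 0 := fun e => by
    rw [e, zero_mul] at hm'
    rw [← hm', mul_zero] at hb
    exact Nat.card_pos.ne' hb
  have hcd : c ∣ 5 := by
    rw [hn144] at hm'
    rw [← hm', show 720 = 5 * 144 by norm_num] at hb720
    exact Nat.dvd_of_mul_dvd_mul_right (by norm_num) hb720
  rcases (Nat.dvd_prime Nat.prime_five).1 hcd with rfl | rfl
  swap
  · refine Subgroup.eq_top_of_card_eq _ ?_
    rw [hord, hb, ← hm', hn144]
  -- a normal complement
  exfalso
  have hNC : Subgroup.normalizer ((P : Subgroup N) : Set N) ≤ Subgroup.centralizer ((P : Subgroup N) : Set N) := by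
    intro a ha
    have heq : (P : Subgroup N) = Subgroup.normalizer ((P : Subgroup N) : Set N) :=
      Subgroup.eq_of_le_of_card_ge Subgroup.le_normalizer (by rw [hc, hP, mul_one])
    rw [← heq] at ha
    haveI : IsCyclic (P : Subgroup N) := isCyclic_of_prime_card hP
    refine Subgroup.mem_centralizer_iff.2 fun p hp => ?_
    letI := IsCyclic.commGroup (α := (P : Subgroup N))
    exact congrArg Subtype.val (mul_comm (⟨p, hp⟩ : (P : Subgroup N)) ⟨a, ha⟩)
  have hcompl := MonoidHom.ker_transferSylow_isComplement' P hNC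
  set K := (MonoidHom.transferSylow P hNC).ker
  have hK144 : Nat.card K = 144 := by
    have h := hcompl.card_mul
    rw [hP, hb, ← hm', hn144] at h
    omega
  -- the complement is characteristic
  have hchar : K.Characteristic := by
    refine Subgroup.characteristic_iff_map_le.2 fun φ => ?_
    intro a ha
    obtain ⟨k, hk, rfl⟩ := Subgroup.mem_map.1 ha
    have hd : orderOf (φ.toMonoidHom k) ∣ 144 := by
      rw [show orderOf (φ.toMonoidHom k) = orderOf k from φ.orderOf_eq k, ← hK144]
      exact Subgroup.orderOf_dvd_natCard _ hk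
    by_contra hnot
    have hker : K.index = 11 := by
      have h := K.card_mul_index
      rw [hK144, hb, ← hm', hn144] at h
      omega
    haveI : K.Normal := MonoidHom.normal_ker _
    have h1 : orderOf ((φ.toMonoidHom k : N) : N ⧸ K) ∣ 144 :=
      (orderOf_map_dvd (QuotientGroup.mk' K) _).trans hd
    have h2 : orderOf ((φ.toMonoidHom k : N) : N ⧸ K) ∣ 11 := hker ▸ orderOf_dvd_natCard _
    exact hnot ((QuotientGroup.eq_one_iff _).1 (orderOf_eq_one_iff.1 (Nat.dvd_one.1
      (by simpa using Nat.dvd_gcd h1 h2))))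
  haveI : (K.map N.subtype).Normal := ConjAct.normal_of_characteristic_of_normal
  have hbot := eq_bot_of_not_eleven_dvd hord hC (K.map N.subtype) (by
    rw [Subgroup.card_map_of_injective (Subgroup.subtype_injective _), hK144]; norm_num)
  have h : Nat.card (K.map N.subtype) = Nat.card K :=
    Subgroup.card_map_of_injective (Subgroup.subtype_injective N)
  rw [hbot, Subgroup.card_bot, hK144] at h
  omega

end Cfsg.Lib.MEleven
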