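import Cfsg.Agent.Lib.MEleven.Sums

/-!
The sum of a character over the normaliser of the four-group, a quaternion group acting on a Sylow
3-subgroup, and the resulting bound for the value at an element of order 4.
-/

set_option autoImplicit false
set_option linter.style.haveILetI false
set_option linter.unusedSectionVars false

namespace Cfsg.Lib.MEleven

open Cfsg Cfsg.Lib.Char Cfsg.Lib.Block

universe u

noncomputable local instance (priority := high) fintypeSubgroupMElevenBounds {A : Type u}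
    [Group A] [Fintype A] (H : Subgroup A) : Fintype H := Fintype.ofFinite H

variable {G : Type u} [Group G] [Fintype G]
variable (hG : IsM11 G) [Fact (Nat.Prime 2)] [Fact (Nat.Prime 3)] [Fact (Nat.Prime 5)] [Fact (Nat.Prime 11)]

include hG

/-- The value at `w` is an integer. -/
theorem int_value_w (T : TwoData G) (χ : IrrCharacter G) : ∃ m : ℤ, (χ : G → ℂ) T.w = m := by
  refine exists_int_value χ fun k hk => ?_
  have hk2 : ¬ 2 ∣ k := fun h => by
    have h' := Nat.dvd_gcd h (show 2 ∣ Nat.card G by rw [hG.2]; norm_num)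
    rw [hk.gcd_eq_one] at h'
    omega
  rw [← pow_mod_orderOf T.w k, orderOf_w hG T]
  have h4 : k % 4 = 1 ∨ k % 4 = 3 := by omega
  rcases h4 with e | e <;> rw [e]
  · rw [pow_one]
  · have h3 : T.w ^ 3 = T.w * T.z := by rw [pow_succ', pow_two, T.w_sq]
    rw [h3, T.wz_eq_inv]
    exact isConj_iff.2 ⟨T.t, T.t_conj_w⟩

/-- The sum over the normaliser of the four-group. -/
theorem sum_B (T : TwoData G) (χ : IrrCharacter G) (h3 : ∀ g : G, orderOf g = 3 → (χ : G → ℂ) g = 1) :
    Nat.card T.B = 24 ∧ ∑ g : T.B, (χ : G → ℂ) g =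
      (χ : G → ℂ) 1 + 9 * (χ : G → ℂ) T.z + 6 * (χ : G → ℂ) T.w + 8 := by
  classical
  obtain ⟨c, hc3, cz, ct, ctz⟩ := exists_cycle hG T
  have hcinv : c⁻¹ = c * c := inv_eq_of_mul_eq_one_right (by rw [← mul_assoc, ← pow_two, ← pow_succ]; exact hc3)
  have ciz : c⁻¹ * T.z * c = T.t * T.z := by
    calc c⁻¹ * T.z * c = c⁻¹ * (c * (T.t * T.z) * c⁻¹) * c := by rw [ctz]
      _ = T.t * T.z := by group
  have cit : c⁻¹ * T.t * c = T.z := by rw [← cz]; group
  have hcB : c ∈ T.B := mem_B_of hG T (Or.inr (Or.inl cz)) (Or.inr (Or.inr ct))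
  have hVB : ∀ h ∈ T.fV, h * T.z * h⁻¹ = T.z ∧ h * T.t * h⁻¹ = T.t := fun h hh => by
    have hh' := (mem_V hG T).2 hh
    constructor
    · rw [Subgroup.mem_centralizer_singleton_iff.1 hh'.1, mul_inv_cancel_right]
    · rw [Subgroup.mem_centralizer_singleton_iff.1 hh'.2, mul_inv_cancel_right]
  set F1 := T.fD.map (mulLeftEmbedding c)
  set F2 := T.fD.map (mulLeftEmbedding (c * c))
  have hzD : ∀ d ∈ T.fD, d * T.z * d⁻¹ = T.z := fun d hd => by
    rw [T.z_comm d (fD_mem hG T hd).1, mul_inv_cancel_right]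
  have m0 : ∀ g ∈ T.fD, g * T.z * g⁻¹ = T.z := hzD
  have m1 : ∀ g ∈ F1, g * T.z * g⁻¹ = T.t := fun g hg => by
    obtain ⟨d, hd, rfl⟩ := Finset.mem_map.1 hg
    calc c * d * T.z * (c * d)⁻¹ = c * (d * T.z * d⁻¹) * c⁻¹ := by group
      _ = T.t := by rw [hzD d hd, cz]
  have m2 : ∀ g ∈ F2, g * T.z * g⁻¹ = T.t * T.z := fun g hg => by
    obtain ⟨d, hd, rfl⟩ := Finset.mem_map.1 hg
    calc c * c * d * T.z * (c * c * d)⁻¹ = c * (c * (d * T.z * d⁻¹) * c⁻¹) * c⁻¹ := by group
      _ = T.t * T.z := by rw [hzD d hd, cz, ct]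
  have d01 : Disjoint T.fD F1 := Finset.disjoint_left.2 fun g h h' => T.t_ne_z ((m1 g h').symm.trans (m0 g h))
  have d012 : Disjoint (T.fD ∪ F1) F2 := by
    rw [Finset.disjoint_left]
    intro g h h'
    rcases Finset.mem_union.1 h with h | h
    · exact T.tz_ne_z ((m2 g h').symm.trans (m0 g h))
    · exact T.t_ne_tz ((m1 g h).symm.trans (m2 g h'))
  have hDB : ∀ d ∈ T.fD, d ∈ T.B := fun d hd => ((mem_inf_B hG T).2 hd).2
  have hBz : ∀ g ∈ T.B, g * T.z * g⁻¹ = T.z → g ∈ T.fD := fun g hg hz => by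
    rcases (of_mem_B hG T hg).2 with e | e | e
    · exact absurd (mul_left_cancel (mul_right_cancel (e.trans hz.symm))) T.t_ne_z
    · exact Finset.mem_union_left _ ((mem_V hG T).1
        ⟨Subgroup.mem_centralizer_singleton_iff.2 (mul_inv_eq_iff_eq_mul.1 hz),
          Subgroup.mem_centralizer_singleton_iff.2 (mul_inv_eq_iff_eq_mul.1 e)⟩)
    · exact Finset.mem_union_right _ (mem_fW_of hG T hz e)
  have hmem : ∀ g, g ∈ T.fD ∪ F1 ∪ F2 ↔ g ∈ T.B := by
    intro g
    constructor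
    · intro h
      rcases Finset.mem_union.1 h with h | h
      · rcases Finset.mem_union.1 h with h | h
        · exact hDB g h
        · obtain ⟨d, hd, rfl⟩ := Finset.mem_map.1 h
          exact mul_mem hcB (hDB d hd)
      · obtain ⟨d, hd, rfl⟩ := Finset.mem_map.1 h
        exact mul_mem (mul_mem hcB hcB) (hDB d hd)
    · intro hg
      rcases (of_mem_B hG T hg).1 with e | e | e
      · exact Finset.mem_union_left _ (Finset.mem_union_left _ (hBz g hg e))
      · refine Finset.mem_union_left _ (Finset.mem_union_right _ (Finset.mem_map.2 ⟨c⁻¹ * g,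
          hBz _ (mul_mem (inv_mem hcB) hg) ?_, mul_inv_cancel_left _ _⟩))
        calc c⁻¹ * g * T.z * (c⁻¹ * g)⁻¹ = c⁻¹ * (g * T.z * g⁻¹) * c := by group
          _ = T.z := by rw [e, cit]
      · refine Finset.mem_union_right _ (Finset.mem_map.2 ⟨c * g,
          hBz _ (mul_mem hcB hg) ?_, ?_⟩)
        · calc c * g * T.z * (c * g)⁻¹ = c * (g * T.z * g⁻¹) * c⁻¹ := by group
            _ = T.z := by rw [e, ctz]
        · rw [mulLeftEmbedding_apply, ← mul_assoc, show c * c * c = 1 by rw [← hcinv, inv_mul_cancel], one_mul]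
  refine ⟨?_, ?_⟩
  · rw [Nat.card_eq_fintype_card, Fintype.card_of_subtype _ hmem, Finset.card_union_of_disjoint d012,
      Finset.card_union_of_disjoint d01, Finset.card_map, Finset.card_map, card_fD hG T]
  -- elements of order 3
  have hord : ∀ h ∈ T.fV, orderOf (c * h) = 3 := by
    intro h hh
    set g := c * h with hgdef
    have gz : g * T.z * g⁻¹ = T.t := by
      calc g * T.z * g⁻¹ = c * (h * T.z * h⁻¹) * c⁻¹ := by rw [hgdef]; group
        _ = T.t := by rw [(hVB h hh).1, cz]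
    have gt : g * T.t * g⁻¹ = T.t * T.z := by
      calc g * T.t * g⁻¹ = c * (h * T.t * h⁻¹) * c⁻¹ := by rw [hgdef]; group
        _ = T.t * T.z := by rw [(hVB h hh).2, ct]
    have gtz : g * (T.t * T.z) * g⁻¹ = T.z := by
      calc g * (T.t * T.z) * g⁻¹ = g * T.t * g⁻¹ * (g * T.z * g⁻¹) := by group
        _ = T.z := by
          rw [gt, gz, mul_assoc, ← T.tz_comm, ← mul_assoc, T.t_sq, one_mul]
    have hcomm : ∀ p, g ^ 3 = p → g * p * g⁻¹ = p := fun p e => by
      rw [← e, ← pow_succ', pow_succ, mul_inv_cancel_right]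
    have e1 : g ^ 3 * T.z * (g ^ 3)⁻¹ = T.z := by
      calc g ^ 3 * T.z * (g ^ 3)⁻¹ = g * (g * (g * T.z * g⁻¹) * g⁻¹) * g⁻¹ := by
            simp only [pow_succ, pow_zero, one_mul, mul_inv_rev, mul_assoc]
        _ = T.z := by rw [gz, gt, gtz]
    have e2 : g ^ 3 * T.t * (g ^ 3)⁻¹ = T.t := by
      calc g ^ 3 * T.t * (g ^ 3)⁻¹ = g * (g * (g * T.t * g⁻¹) * g⁻¹) * g⁻¹ := by
            simp only [pow_succ, pow_zero, one_mul, mul_inv_rev, mul_assoc]
        _ = T.t := by rw [gt, gtz, gz]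
    refine orderOf_eq_prime ?_ fun e => T.t_ne_z (by rw [← gz, e]; simp)
    rcases centralizer_four hG T (mul_inv_eq_iff_eq_mul.1 e1) (mul_inv_eq_iff_eq_mul.1 e2) with e | e | e | e
    · exact e
    · exact absurd (gz.symm.trans (hcomm _ e)) T.t_ne_z
    · exact absurd (gt.symm.trans (hcomm _ e)).symm T.t_ne_tz
    · exact absurd (gtz.symm.trans (hcomm _ e)).symm T.tz_ne_z
  have v1 : ∀ h ∈ T.fV, (χ : G → ℂ) (c * h) = 1 := fun h hh => h3 _ (hord h hh)
  have v2 : ∀ h ∈ T.fV, (χ : G → ℂ) (c * c * h) = 1 := by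
    intro h hh
    refine h3 _ ?_
    have hm : c⁻¹ * h⁻¹ * c ∈ T.fV := by
      refine (mem_V hG T).1 ?_
      have h' := (Subgroup.mem_normalizer_iff.1 (inv_mem hcB : c⁻¹ ∈ T.B) h⁻¹).1
        (inv_mem ((mem_V hG T).2 hh))
      rwa [inv_inv] at h'
    rw [← orderOf_inv, mul_inv_rev, ← hcinv, inv_inv,
      show h⁻¹ * c = c * (c⁻¹ * h⁻¹ * c) by group]
    exact hord _ hm
  have w1 : ∑ g ∈ T.fW, (χ : G → ℂ) (c * g) = ∑ g ∈ T.fW, (χ : G → ℂ) g := by
    have hmap : ∀ g ∈ T.fW, c * c * g * c⁻¹ ∈ T.fW := by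
      intro g hg
      have hgz := hzD g (Finset.mem_union_right _ hg)
      have hgt := fW_not_mem_V hG T hg
      have hgtz : g * (T.t * T.z) * g⁻¹ = T.t := by
        calc g * (T.t * T.z) * g⁻¹ = g * T.t * g⁻¹ * (g * T.z * g⁻¹) := by group
          _ = T.t := by rw [hgt, hgz, mul_assoc, T.z_sq, mul_one]
      refine mem_fW_of hG T ?_ ?_
      · calc c * c * g * c⁻¹ * T.z * (c * c * g * c⁻¹)⁻¹ = c * (c * (g * (c⁻¹ * T.z * c) * g⁻¹) * c⁻¹) * c⁻¹ := by
              group
          _ = T.z := by rw [ciz, hgtz, ct, ctz]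
      · calc c * c * g * c⁻¹ * T.t * (c * c * g * c⁻¹)⁻¹ = c * (c * (g * (c⁻¹ * T.t * c) * g⁻¹) * c⁻¹) * c⁻¹ := by
              group
          _ = T.t * T.z := by rw [cit, hgz, cz, ct]
    refine Finset.sum_bij (fun g _ => c * c * g * c⁻¹) hmap
      (fun a _ b _ e => mul_left_cancel (mul_right_cancel e)) ?_ ?_
    · intro b hb
      have heq := Finset.eq_of_subset_of_card_le
        (show T.fW.image (fun g => c * c * g * c⁻¹) ⊆ T.fW from Finset.image_subset_iff.2 hmap)
        (by rw [Finset.card_image_of_injective _ fun a b e => mul_left_cancel (mul_right_cancel e)])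
      rw [← heq] at hb
      obtain ⟨a, ha, rfl⟩ := Finset.mem_image.1 hb
      exact ⟨a, ha, rfl⟩
    · intro g _
      rw [show c * c * g * c⁻¹ = c * (c * g) * c⁻¹ by group, χ.2.isClassFunction]
  have w2 : ∑ g ∈ T.fW, (χ : G → ℂ) (c * c * g) = ∑ g ∈ T.fW, (χ : G → ℂ) g := by
    have hmap : ∀ g ∈ T.fW, c * g * c ∈ T.fW := by
      intro g hg
      have hgz := hzD g (Finset.mem_union_right _ hg)
      have hgt := fW_not_mem_V hG T hg
      have hgtz : g * (T.t * T.z) * g⁻¹ = T.t := by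
        calc g * (T.t * T.z) * g⁻¹ = g * T.t * g⁻¹ * (g * T.z * g⁻¹) := by group
          _ = T.t := by rw [hgt, hgz, mul_assoc, T.z_sq, mul_one]
      refine mem_fW_of hG T ?_ ?_
      · calc c * g * c * T.z * (c * g * c)⁻¹ = c * (g * (c * T.z * c⁻¹) * g⁻¹) * c⁻¹ := by group
          _ = T.z := by rw [cz, hgt, ctz]
      · calc c * g * c * T.t * (c * g * c)⁻¹ = c * (g * (c * T.t * c⁻¹) * g⁻¹) * c⁻¹ := by group
          _ = T.t * T.z := by rw [ct, hgtz, ct]
    refine Finset.sum_bij (fun g _ => c * g * c) hmap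
      (fun a _ b _ e => mul_left_cancel (mul_right_cancel e)) ?_ ?_
    · intro b hb
      have heq := Finset.eq_of_subset_of_card_le
        (show T.fW.image (fun g => c * g * c) ⊆ T.fW from Finset.image_subset_iff.2 hmap)
        (by rw [Finset.card_image_of_injective _ fun a b e => mul_left_cancel (mul_right_cancel e)])
      rw [← heq] at hb
      obtain ⟨a, ha, rfl⟩ := Finset.mem_image.1 hb
      exact ⟨a, ha, rfl⟩
    · intro g _
      rw [show c * g * c = c⁻¹ * (c * c * g) * c⁻¹⁻¹ by group, χ.2.isClassFunction]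
  rw [sum_subgroup_eq hmem, Finset.sum_union d012, Finset.sum_union d01, Finset.sum_map, Finset.sum_map,
    sum_fD hG T]
  simp only [mulLeftEmbedding_apply, TwoData.fD, Finset.sum_union (disjoint_fV_fW hG T)]
  rw [w1, w2, Finset.sum_congr rfl v1, Finset.sum_congr rfl v2, Finset.sum_const, card_fV hG T, sum_fW hG T]
  simp only [nsmul_eq_mul]
  push_cast
  ring

end Cfsg.Lib.MEleven
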