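import Cfsg.Agent.Lib.MEleven.Classes

/-!
The character degrees of the simple group of order 7920.
-/

set_option autoImplicit false
set_option linter.style.haveILetI false
set_option linter.unusedSectionVars false

namespace Cfsg.Lib.MEleven

open Cfsg Cfsg.Lib.Char Cfsg.Lib.Block

universe u

variable {G : Type u} [Group G] [Fintype G]
variable (hG : IsM11 G) [Fact (Nat.Prime 2)] [Fact (Nat.Prime 3)] [Fact (Nat.Prime 5)] [Fact (Nat.Prime 11)]

include hG

/-- There are ten irreducible characters, of degrees 1, 10, 10, 10, 11, 16, 16, 44, 45, 55. -/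
theorem degrees_eq : Nat.card (IrrCharacter G) = 10 ∧
    (Finset.univ : Finset (IrrCharacter G)).val.map deg = {1, 10, 10, 10, 11, 16, 16, 44, 45, 55} := by
  classical
  have h10 : Nat.card (IrrCharacter G) = 10 := by rw [card_irr_eq_card_conjClasses, card_conjClasses_eq hG]
  refine ⟨h10, ?_⟩
  obtain ⟨D⟩ := nonempty_chars hG
  obtain ⟨n0, n1, n2, n3⟩ := chars_ne hG D
  set B := insert D.E.y₁ (insert D.E.y₂ D.E.X) with hB
  have hy1 : D.E.y₁ ∉ insert D.E.y₂ D.E.X := by simp [D.E.ne, D.E.y₁_notMem]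
  have hy2 : deg D.E.y₂ = 16 := (ElevenBlock.deg_y_eq hG D.E).trans D.deg_y
  have hB7 : B.card = 7 := by
    rw [hB, Finset.card_insert_of_notMem hy1, Finset.card_insert_of_notMem D.E.y₂_notMem, D.E.card_X]
  have hBv : B.val.map deg = {16, 16, 1, 45, 10, 10, 10} := by
    rw [hB, Finset.insert_val_of_notMem hy1, Multiset.map_cons, Finset.insert_val_of_notMem D.E.y₂_notMem,
      Multiset.map_cons, D.eq_X, Finset.insert_val_of_notMem n0, Multiset.map_cons,
      Finset.insert_val_of_notMem n1, Multiset.map_cons, Finset.insert_val_of_notMem n2, Multiset.map_cons,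
      Finset.insert_val_of_notMem (by simpa using n3), Multiset.map_cons, Finset.singleton_val,
      Multiset.map_singleton, D.deg_y, hy2, deg_trivChar, D.deg_f, D.deg_t₁, D.deg_t₂, D.deg_t₃]
    rfl
  set O := Finset.univ \ B with hO
  have hO3 : O.card = 3 := by
    rw [hO, Finset.card_sdiff_of_subset (Finset.subset_univ _), Finset.card_univ, ← Nat.card_eq_fintype_card,
      h10, hB7]
  obtain ⟨a, b, c, hab, hac, hbc, habc⟩ := Finset.card_eq_three.1 hO3
  have hdvd : ∀ χ ∈ O, 11 ∣ deg χ := fun χ hχ => by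
    have h := (Finset.mem_sdiff.1 hχ).2
    simp only [hB, Finset.mem_insert, not_or] at h
    exact ((eleven_values hG D).1 χ h.2.2 h.1 h.2.1).2
  obtain ⟨x, hx⟩ := hdvd a (by simp [habc])
  obtain ⟨y, hy⟩ := hdvd b (by simp [habc])
  obtain ⟨w, hw⟩ := hdvd c (by simp [habc])
  have hsq : ∑ χ : IrrCharacter G, deg χ ^ 2 = 7920 := by
    have h := sum_column_normSq (1 : G)
    simp only [apply_one, Complex.norm_natCast] at h
    rw [show Subgroup.centralizer ({(1 : G)} : Set G) = ⊤ from
      top_le_iff.1 fun a _ => Subgroup.mem_centralizer_singleton_iff.2 (by rw [mul_one, one_mul]),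
      Nat.card_congr Subgroup.topEquiv.toEquiv, hG.2] at h
    exact_mod_cast h
  rw [← Finset.sum_sdiff (Finset.subset_univ B), ← hO, habc, Finset.sum_insert (by simp [hab, hac]),
    Finset.sum_insert (by simp [hbc]), Finset.sum_singleton, hx, hy, hw,
    show ∑ χ ∈ B, deg χ ^ 2 = ((B.val.map deg).map (· ^ 2)).sum by rw [Multiset.map_map]; rfl, hBv,
    show (({16, 16, 1, 45, 10, 10, 10} : Multiset ℕ).map (· ^ 2)).sum = 2838 by rfl] at hsq
  have h42 : x ^ 2 + y ^ 2 + w ^ 2 = 42 := by nlinarith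
  have hpos : ∀ χ : IrrCharacter G, deg χ ≠ 0 := fun χ e => χ.2.apply_one_ne_zero (by rw [apply_one, e, Nat.cast_zero])
  have x0 : 1 ≤ x := by have := hpos a; omega
  have y0 : 1 ≤ y := by have := hpos b; omega
  have w0 : 1 ≤ w := by have := hpos c; omega
  have x6 : x ≤ 6 := by nlinarith
  have y6 : y ≤ 6 := by nlinarith
  have w6 : w ≤ 6 := by nlinarith
  have hperm : ∀ x y w : ℕ, x ≤ 6 → y ≤ 6 → w ≤ 6 → 1 ≤ x → 1 ≤ y → 1 ≤ w → x ^ 2 + y ^ 2 + w ^ 2 = 42 →
      (({11 * x, 11 * y, 11 * w} : Multiset ℕ) + {16, 16, 1, 45, 10, 10, 10}) =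
        {1, 10, 10, 10, 11, 16, 16, 44, 45, 55} := by
    intro x y w hx hy hw
    interval_cases x <;> interval_cases y <;> interval_cases w <;> intro _ _ _ h <;>
      first | (exfalso; norm_num at h; done) | decide
  rw [← Finset.union_sdiff_of_subset (Finset.subset_univ B), ← hO, Finset.union_comm,
    ← Finset.disjUnion_eq_union _ _ Finset.sdiff_disjoint, Finset.disjUnion_val, Multiset.map_add, hBv,
    ← hperm x y w x6 y6 w6 x0 y0 w0 h42, show (Finset.univ \ B) = {a, b, c} from habc, Finset.insert_val_of_notMem (by simp [hab, hac]),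
    Multiset.map_cons, Finset.insert_val_of_notMem (by simp [hbc]), Multiset.map_cons, Finset.singleton_val,
    Multiset.map_singleton, hx, hy, hw]
  rfl

theorem card_of_degree (n : ℕ) : Nat.card {χ : IrrCharacter G // deg χ = n} =
    Multiset.count n ({1, 10, 10, 10, 11, 16, 16, 44, 45, 55} : Multiset ℕ) := by
  classical
  rw [← (degrees_eq hG).2, Multiset.count_map, Nat.card_eq_fintype_card, Fintype.card_subtype]
  show Multiset.card (Multiset.filter _ _) = _
  exact congrArg Multiset.card (Multiset.filter_congr fun χ _ => eq_comm)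

end Cfsg.Lib.MEleven
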