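import Cfsg.Agent.Lib.MEleven.Quaternion
import Mathlib.GroupTheory.GroupAction.CardCommute

/-!
Element orders, centralisers and the ten conjugacy classes of the simple group of order 7920.
-/

set_option autoImplicit false
set_option linter.style.haveILetI false
set_option linter.unusedSectionVars false

namespace Cfsg.Lib.MEleven

open Cfsg Cfsg.Lib.Char Cfsg.Lib.Block

universe u

noncomputable local instance (priority := high) fintypeSubgroupMElevenClasses {A : Type u}
    [Group A] [Fintype A] (H : Subgroup A) : Fintype H := Fintype.ofFinite H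

variable {G : Type u} [Group G] [Fintype G]
variable (hG : IsM11 G) [Fact (Nat.Prime 2)] [Fact (Nat.Prime 3)] [Fact (Nat.Prime 5)] [Fact (Nat.Prime 11)]

include hG

theorem card_centralizer_w (T : TwoData G) : Nat.card (Subgroup.centralizer ({T.w} : Set G)) = 8 := by
  classical
  set C := Subgroup.centralizer ({T.w} : Set G)
  have hle : C ≤ Subgroup.centralizer ({T.z} : Set G) := fun g hg => by
    have h := Subgroup.mem_centralizer_singleton_iff.1 hg
    refine Subgroup.mem_centralizer_singleton_iff.2 ?_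
    rw [← T.w_sq, ← mul_assoc, h, mul_assoc, h, mul_assoc]
  have hd48 : Nat.card C ∣ 48 := card_centralizer_z hG T ▸ Subgroup.card_dvd_of_le hle
  have h3 : ¬ 3 ∣ Nat.card C := fun h => by
    obtain ⟨⟨c, hcC⟩, hc⟩ := exists_prime_orderOf_dvd_card' 3 h
    rw [Subgroup.orderOf_mk] at hc
    have hd := Subgroup.orderOf_dvd_natCard _ (Subgroup.mem_centralizer_singleton_iff.2
      (Subgroup.mem_centralizer_singleton_iff.1 hcC).symm : T.w ∈ Subgroup.centralizer ({c} : Set G))
    rw [card_centralizer_three hG (by rw [hc]) (by rw [hc]; norm_num), orderOf_w hG T] at hd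
    norm_num at hd
  have h16 : Nat.card C ∣ 2 ^ 4 := by
    have hco : Nat.Coprime (Nat.card C) 3 := (Nat.prime_three.coprime_iff_not_dvd.2 h3).symm
    exact hco.dvd_of_dvd_mul_left (by simpa using hd48)
  obtain ⟨s, hs, hsw, hs8⟩ := exists_sqrt_w hG T
  have h8 : 8 ∣ Nat.card C := hs8 ▸ Subgroup.orderOf_dvd_natCard _
    (Subgroup.mem_centralizer_singleton_iff.2 (by rw [← hsw, mul_assoc]))
  obtain ⟨i, hi, hiC⟩ := (Nat.dvd_prime_pow Nat.prime_two).1 h16
  have hi' : i = 3 ∨ i = 4 := by
    rw [hiC] at h8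
    interval_cases i <;> norm_num at h8 <;> omega
  rcases hi' with rfl | rfl
  · rw [hiC]; norm_num
  exfalso
  have hc : Nat.card C = 2 ^ (Nat.card G).factorization 2 := by
    rw [hiC, ← T.S.card_eq_multiplicity, card_sylow_two hG T.S]
    norm_num
  obtain ⟨g, hg⟩ := MulAction.exists_smul_eq G (Sylow.ofCard C hc : Sylow 2 G) T.S
  have hmem : ∀ a, a ∈ C → g * a * g⁻¹ ∈ (T.S : Subgroup G) := fun a ha => by
    rw [← hg, Sylow.coe_subgroup_smul]
    exact ⟨a, ha, rfl⟩
  have hwS := hmem T.w (Subgroup.mem_centralizer_singleton_iff.2 rfl)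
  have hcent : ∀ x ∈ (T.S : Subgroup G), x * (g * T.w * g⁻¹) = g * T.w * g⁻¹ * x := by
    intro x hx
    rw [← hg, Sylow.coe_subgroup_smul] at hx
    obtain ⟨a, ha, rfl⟩ := hx
    show g * a * g⁻¹ * (g * T.w * g⁻¹) = g * T.w * g⁻¹ * (g * a * g⁻¹)
    have h := Subgroup.mem_centralizer_singleton_iff.1 ha
    calc g * a * g⁻¹ * (g * T.w * g⁻¹) = g * (a * T.w) * g⁻¹ := by group
      _ = g * (T.w * a) * g⁻¹ := by rw [h]
      _ = g * T.w * g⁻¹ * (g * a * g⁻¹) := by group
  have ho : orderOf (g * T.w * g⁻¹) = 4 := ((MulAut.conj g).orderOf_eq T.w).trans (orderOf_w hG T)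
  rcases T.comm_t _ hwS (hcent T.t T.t_mem).symm with e | e | e | e <;> rw [e] at ho
  · rw [orderOf_one] at ho; norm_num at ho
  · rw [orderOf_z hG T] at ho; norm_num at ho
  · rw [orderOf_eq_prime (p := 2) (by rw [pow_two, T.t_sq]) T.t_ne] at ho; norm_num at ho
  · have h2 : (T.t * T.z) ^ 2 = 1 := by
      rw [pow_two, mul_assoc, ← mul_assoc T.z, ← T.tz_comm, mul_assoc T.t T.z T.z, T.z_sq, mul_one, T.t_sq]
    have h4 := Nat.le_of_dvd (by norm_num) (orderOf_dvd_of_pow_eq_one h2)
    omega

/-- An element of 2-power order at least 4 is conjugate to `w` or to a square root of `w` or its inverse. -/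
theorem two_power_cases (T : TwoData G) {g : G} {k : ℕ} (hg : orderOf g = 2 ^ k) (hk : 2 ≤ k) :
    (k = 2 ∧ IsConj T.w g) ∨
      (k = 3 ∧ ∃ a : G, a * a = T.w ∨ a * a = T.w * T.z) ∧ Nat.card (Subgroup.centralizer ({g} : Set G)) = 8 := by
  classical
  obtain ⟨Q, hQ⟩ := (IsPGroup.of_card (p := 2) (n := k) (by rw [Nat.card_zpowers, hg] :
    Nat.card (Subgroup.zpowers g) = 2 ^ k)).exists_le_sylow
  obtain ⟨h, hh⟩ := MulAction.exists_smul_eq G Q T.S
  set x := h * g * h⁻¹ with hxdef
  have hxS : x ∈ (T.S : Subgroup G) := by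
    rw [← hh, Sylow.coe_subgroup_smul]
    exact ⟨g, hQ (Subgroup.mem_zpowers g), rfl⟩
  have hxo : orderOf x = 2 ^ k := ((MulAut.conj h).orderOf_eq g).trans hg
  have hconj : IsConj g x := isConj_iff.2 ⟨h, rfl⟩
  have h4le : 4 ≤ 2 ^ k := le_trans (by norm_num) (Nat.pow_le_pow_right (by norm_num : 0 < 2) hk)
  have hsq : ∀ y : G, y * y = 1 → x ≠ y := fun y hy e => by
    have h2 : orderOf x ∣ 2 := orderOf_dvd_of_pow_eq_one (by rw [e, pow_two, hy])
    have := Nat.le_of_dvd (by norm_num) h2
    omega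
  have k2 : ∀ y : G, orderOf y = 4 → orderOf y = 2 ^ k → k = 2 := fun y h1 h2 => by
    rw [h1] at h2
    exact (Nat.pow_right_injective le_rfl (show 2 ^ k = 2 ^ 2 by rw [← h2]))
  obtain ⟨U, -, hU, hUc⟩ := exists_square_z hG T
  by_cases hD : T.InD x
  · have hw1 := orderOf_w hG T
    have hwz1 : orderOf (T.w * T.z) = 4 := by rw [T.wz_eq_inv, orderOf_inv, hw1]
    rcases T.inD_cases hxS hD with e | e | e | e | e | e | e | e
    · exact absurd e (hsq 1 (one_mul _))
    · exact absurd e (hsq _ T.z_sq)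
    · exact absurd e (hsq _ T.t_sq)
    · exact absurd e (hsq _ (by
        rw [mul_assoc, ← mul_assoc T.z, ← T.tz_comm, mul_assoc T.t T.z T.z, T.z_sq, mul_one, T.t_sq]))
    · exact absurd e (hsq _ T.v_sq)
    · exact absurd e (hsq _ (by
        rw [mul_assoc, ← mul_assoc T.z, ← T.vz_comm, mul_assoc T.v T.z T.z, T.z_sq, mul_one, T.v_sq]))
    · exact Or.inl ⟨k2 x (e ▸ hw1) hxo, (e ▸ hconj).symm⟩
    · refine Or.inl ⟨k2 x (e ▸ hwz1) hxo, IsConj.trans (isConj_iff.2 ⟨T.t, ?_⟩) (e ▸ hconj).symm⟩
      rw [T.t_conj_w, T.wz_eq_inv]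
  · rcases T.outside_sq hxS hD with e | e
    · have hwx := hUc x ((hU x).2 ⟨hxS, hD, e⟩)
      obtain ⟨p, hp⟩ := isConj_iff.1 hwx
      have ho4 : orderOf x = 4 := by
        rw [← hp]; exact ((MulAut.conj p).orderOf_eq T.w).trans (orderOf_w hG T)
      exact Or.inl ⟨k2 x ho4 hxo, hwx.trans hconj.symm⟩
    · have h8 : orderOf x = 8 := by
        have hx4 : x ^ 4 = T.z := by
          rw [show (4 : ℕ) = 2 * 2 by norm_num, pow_mul, pow_two x, pow_two]
          rcases e with e | e <;> rw [e]
          · exact T.w_sq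
          · rw [mul_assoc, ← mul_assoc T.z, ← T.z_comm T.w T.w_mem, mul_assoc T.w T.z T.z, T.z_sq, mul_one, T.w_sq]
        rw [orderOf_eq_prime_pow (p := 2) (n := 2) (x := x)
          (by rw [show (2 : ℕ) ^ 2 = 4 by norm_num, hx4]; exact T.z_ne)
          (by rw [show (2 : ℕ) ^ (2 + 1) = 4 * 2 by norm_num, pow_mul, hx4, pow_two, T.z_sq])]
        norm_num
      have hk3 : k = 3 := Nat.pow_right_injective le_rfl (show 2 ^ k = 2 ^ 3 by rw [← hxo, h8])
      refine Or.inr ⟨⟨hk3, x, e⟩, ?_⟩
      rw [← card_centralizer_conj g h, ← hxdef]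
      set C := Subgroup.centralizer ({x} : Set G)
      have hle : C ≤ Subgroup.centralizer ({T.w} : Set G) := fun a ha => by
        have h1 := Subgroup.mem_centralizer_singleton_iff.1 ha
        have hxx : Commute a (x * x) := (show Commute a x from h1).mul_right h1
        refine Subgroup.mem_centralizer_singleton_iff.2 ?_
        rcases e with e | e <;> rw [e] at hxx
        · exact hxx.eq
        · rw [T.wz_eq_inv] at hxx
          exact (Commute.inv_right_iff.1 hxx).eq
      have h1 := Subgroup.card_dvd_of_le hle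
      rw [card_centralizer_w hG T] at h1
      exact Nat.dvd_antisymm h1 (h8 ▸ Subgroup.orderOf_dvd_natCard _
        (Subgroup.mem_centralizer_singleton_iff.2 rfl))

/-- Involutions in the centraliser of an element of order 3. -/
theorem involutions_centralizer_three {c : G} (hc : orderOf c = 3) :
    Nat.card {i : G // orderOf i = 2 ∧ i * c = c * i} = 3 ∧
      ∀ i : G, orderOf i = 2 → i * c = c * i → Nat.card (Subgroup.centralizer ({i * c} : Set G)) = 6 := by
  classical
  set C := Subgroup.centralizer ({c} : Set G) with hCdef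
  have hC : Nat.card C = 18 := card_centralizer_three hG (by rw [hc]) (by rw [hc]; norm_num)
  have key : ∀ i : G, orderOf i = 2 → i * c = c * i →
      Nat.card ↥(Subgroup.centralizer ({i} : Set G) ⊓ C) = 6 := by
    intro i hi hic
    set K := Subgroup.centralizer ({i} : Set G) ⊓ C
    have hiK : i ∈ K := ⟨Subgroup.mem_centralizer_singleton_iff.2 rfl,
      Subgroup.mem_centralizer_singleton_iff.2 hic⟩
    have hcK : c ∈ K := ⟨Subgroup.mem_centralizer_singleton_iff.2 hic.symm,
      Subgroup.mem_centralizer_singleton_iff.2 rfl⟩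
    have h2 : 2 ∣ Nat.card K := hi ▸ Subgroup.orderOf_dvd_natCard _ hiK
    have h3 : 3 ∣ Nat.card K := hc ▸ Subgroup.orderOf_dvd_natCard _ hcK
    have h18 : Nat.card K ∣ 18 := hC ▸ Subgroup.card_dvd_of_le inf_le_right
    obtain ⟨m, hm⟩ : 6 ∣ Nat.card K := Nat.Coprime.mul_dvd_of_dvd_of_dvd (by norm_num : Nat.Coprime 2 3) h2 h3
    have hm3 : m ∣ 3 := by
      rw [hm, show 18 = 6 * 3 by norm_num] at h18
      exact Nat.dvd_of_mul_dvd_mul_left (by norm_num) h18
    rcases (Nat.dvd_prime Nat.prime_three).1 hm3 with rfl | rfl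
    · exact hm
    exfalso
    have hd : 3 ^ 2 ∣ Nat.card (Subgroup.centralizer ({i} : Set G)) := by
      have := Subgroup.card_dvd_of_le (inf_le_left : K ≤ Subgroup.centralizer ({i} : Set G))
      rw [hm] at this
      exact (by norm_num : 3 ^ 2 ∣ 6 * 3).trans this
    rw [card_centralizer_involution hG hi] at hd
    norm_num at hd
  refine ⟨?_, fun i hi hic => ?_⟩
  · have hP2 : ∀ P : Sylow 2 C, Nat.card (P : Subgroup C) = 2 := fun P => by
      rw [Small.card_sylow 1 9 (by rw [hC]; norm_num) (by decide) P]; norm_num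
    have hcount := Small.card_orderOf_eq hP2
    have e : {i : C // orderOf i = 2} ≃ {i : G // orderOf i = 2 ∧ i * c = c * i} :=
      { toFun := fun i => ⟨i.1.1, (Subgroup.orderOf_coe i.1).trans i.2,
          Subgroup.mem_centralizer_singleton_iff.1 i.1.2⟩
        invFun := fun i => ⟨⟨i.1, Subgroup.mem_centralizer_singleton_iff.2 i.2.2⟩, by
          rw [Subgroup.orderOf_mk]; exact i.2.1⟩
        left_inv := fun _ => rfl
        right_inv := fun _ => rfl }
    rw [← Nat.card_congr e, hcount]
    obtain ⟨P⟩ : Nonempty (Sylow 2 C) := inferInstance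
    obtain ⟨⟨i, hiP⟩, hi⟩ := exists_prime_orderOf_dvd_card' 2 (dvd_of_eq (hP2 P).symm)
    rw [Subgroup.orderOf_mk] at hi
    have hm := Small.card_normalizer_mul P
    have hN : Subgroup.normalizer ((P : Subgroup C) : Set C) =
        (Subgroup.centralizer ({(i : G)} : Set G) ⊓ C).subgroupOf C := by
      have hPe : (P : Subgroup C) = Subgroup.zpowers i :=
        (Small.zpowers_eq_of_prime_card (hP2 P) hiP fun e => by rw [e, orderOf_one] at hi; norm_num at hi).symm
      ext a
      rw [Subgroup.mem_subgroupOf]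
      have hz : ∀ k ∈ Subgroup.zpowers i, k = 1 ∨ k = i := fun k hk => by
        obtain ⟨n, rfl⟩ := Subgroup.mem_zpowers_iff.1 hk
        have hi2 : i ^ (2 : ℤ) = 1 := by
          rw [zpow_ofNat]; exact orderOf_dvd_iff_pow_eq_one.1 (dvd_of_eq hi)
        rcases Int.even_or_odd' n with ⟨j, rfl | rfl⟩
        · left; rw [zpow_mul, hi2, one_zpow]
        · right; rw [zpow_add, zpow_mul, hi2, one_zpow, one_mul, zpow_one]
      constructor
      · intro ha
        have h1 := (Subgroup.mem_normalizer_iff.1 ha i).1 hiP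
        rw [hPe] at h1
        refine ⟨Subgroup.mem_centralizer_singleton_iff.2 ?_, a.2⟩
        rcases hz _ h1 with e | e
        · rw [conj_eq_one_iff.1 e, orderOf_one] at hi; norm_num at hi
        · exact congrArg Subtype.val (mul_inv_eq_iff_eq_mul.1 e)
      · rintro ⟨ha, -⟩
        rw [hPe]
        refine Subgroup.mem_normalizer_fintype fun k hk => ?_
        show a * k * a⁻¹ ∈ Subgroup.zpowers i
        rcases hz k hk with e | e <;> rw [e]
        · rw [mul_one, mul_inv_cancel]; exact one_mem _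
        · have hcm : a * i = i * a := Subtype.ext (Subgroup.mem_centralizer_singleton_iff.1 ha)
          rw [hcm, mul_inv_cancel_right]
          exact Subgroup.mem_zpowers i
    rw [hN, Nat.card_congr (Subgroup.subgroupOfEquivOfLe inf_le_right).toEquiv,
      key i ((Subgroup.orderOf_coe i).trans hi) (Subgroup.mem_centralizer_singleton_iff.1 i.2), hC] at hm
    omega
  · have hco : (orderOf i).Coprime (orderOf c) := by rw [hi, hc]; norm_num
    have hi2 : i ^ 2 = 1 := hi ▸ pow_orderOf_eq_one i
    have hc3 : c ^ 3 = 1 := hc ▸ pow_orderOf_eq_one c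
    have e : Subgroup.centralizer ({i * c} : Set G) = Subgroup.centralizer ({i} : Set G) ⊓ C := by
      ext a
      rw [Subgroup.mem_inf, hCdef, Subgroup.mem_centralizer_singleton_iff,
        Subgroup.mem_centralizer_singleton_iff, Subgroup.mem_centralizer_singleton_iff]
      have hcm : Commute i c := hic
      constructor
      · intro ha
        have h3 : (i * c) ^ 3 = i := by rw [hcm.mul_pow, hc3, mul_one, pow_succ, hi2, one_mul]
        have h4 : (i * c) ^ 4 = c := by
          rw [hcm.mul_pow, pow_succ c, hc3, one_mul, show (4 : ℕ) = 2 * 2 by norm_num, pow_mul, hi2, one_pow, one_mul]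
        exact ⟨h3 ▸ ((show Commute a (i * c) from ha).pow_right 3).eq,
          h4 ▸ ((show Commute a (i * c) from ha).pow_right 4).eq⟩
      · rintro ⟨h1, h2⟩
        exact ((show Commute a i from h1).mul_right h2).eq
    rw [e, key i hi hic]

theorem orderOf_six_of {g : G} (h2 : 2 ∣ orderOf g) (h3 : 3 ∣ orderOf g) : orderOf g = 6 := by
  set c := g ^ (orderOf g / 3)
  have hc : orderOf c = 3 := orderOf_pow_orderOf_div (orderOf_pos g).ne' h3
  set i := g ^ (orderOf g / 2)
  have hi : orderOf i = 2 := orderOf_pow_orderOf_div (orderOf_pos g).ne' h2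
  have hic : i * c = c * i := (Commute.pow_pow_self g _ _).eq
  have hgC : g ∈ Subgroup.centralizer ({i * c} : Set G) :=
    Subgroup.mem_centralizer_singleton_iff.2 (((Commute.refl g).pow_right _).mul_right ((Commute.refl g).pow_right _)).eq
  have hd := Subgroup.orderOf_dvd_natCard _ hgC
  rw [(involutions_centralizer_three hG hc).2 i hi hic] at hd
  exact Nat.dvd_antisymm hd (Nat.Coprime.mul_dvd_of_dvd_of_dvd (by norm_num : Nat.Coprime 2 3) h2 h3)

/-- The element orders and the orders of the centralisers. -/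
theorem element_cases (T : TwoData G) (g : G) :
    (orderOf g = 1 ∧ Nat.card (Subgroup.centralizer ({g} : Set G)) = 7920) ∨
    (orderOf g = 2 ∧ Nat.card (Subgroup.centralizer ({g} : Set G)) = 48) ∨
    (orderOf g = 3 ∧ Nat.card (Subgroup.centralizer ({g} : Set G)) = 18) ∨
    (orderOf g = 5 ∧ Nat.card (Subgroup.centralizer ({g} : Set G)) = 5) ∨
    (orderOf g = 6 ∧ Nat.card (Subgroup.centralizer ({g} : Set G)) = 6) ∨
    (orderOf g = 11 ∧ Nat.card (Subgroup.centralizer ({g} : Set G)) = 11) ∨
    ((orderOf g = 4 ∨ orderOf g = 8) ∧ Nat.card (Subgroup.centralizer ({g} : Set G)) = 8) := by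
  classical
  by_cases h5 : 5 ∣ orderOf g
  · have := orderOf_eq_five hG h5
    exact Or.inr (Or.inr (Or.inr (Or.inl ⟨this, card_centralizer_five hG this⟩)))
  by_cases h11 : 11 ∣ orderOf g
  · have := orderOf_eq_eleven hG h11
    exact Or.inr (Or.inr (Or.inr (Or.inr (Or.inr (Or.inl ⟨this, card_centralizer_eleven hG this⟩)))))
  by_cases h2 : 2 ∣ orderOf g
  · by_cases h3 : 3 ∣ orderOf g
    · have h6 := orderOf_six_of hG h2 h3
      have hc : orderOf (g ^ 4) = 3 := by rw [orderOf_pow' g (by norm_num : (4 : ℕ) ≠ 0), h6]; rfl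
      have hi : orderOf (g ^ 3) = 2 := by rw [orderOf_pow' g (by norm_num : (3 : ℕ) ≠ 0), h6]; rfl
      have hg : g ^ 3 * g ^ 4 = g := by
        rw [← pow_add, show 3 + 4 = 6 + 1 by norm_num, pow_succ,
          show g ^ 6 = 1 from h6 ▸ pow_orderOf_eq_one g, one_mul]
      have hC := (involutions_centralizer_three hG hc).2 _ hi ((Commute.pow_pow_self g 3 4).eq)
      rw [hg] at hC
      exact Or.inr (Or.inr (Or.inr (Or.inr (Or.inl ⟨h6, hC⟩))))
    · have hd : orderOf g ∣ 7920 := hG.2 ▸ orderOf_dvd_natCard g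
      have hco3 : (orderOf g).Coprime 9 := by
        rw [show (9 : ℕ) = 3 ^ 2 by norm_num]
        exact Nat.Coprime.pow_right _ (Nat.prime_three.coprime_iff_not_dvd.2 h3).symm
      have hco5 : (orderOf g).Coprime 5 := (Nat.prime_five.coprime_iff_not_dvd.2 h5).symm
      have hco11 : (orderOf g).Coprime 11 :=
        ((by norm_num : Nat.Prime 11).coprime_iff_not_dvd.2 h11).symm
      have hd16 : orderOf g ∣ 2 ^ 4 :=
        hco11.dvd_of_dvd_mul_right (hco5.dvd_of_dvd_mul_right (hco3.dvd_of_dvd_mul_right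
          (show orderOf g ∣ 2 ^ 4 * 11 * 5 * 9 by norm_num; exact hd)))
      obtain ⟨k, hk, e⟩ := (Nat.dvd_prime_pow Nat.prime_two).1 hd16
      rcases Nat.lt_or_ge k 2 with hk2 | hk2
      · have hk1 : k = 1 := by
          rcases k with _ | _ | k
          · rw [e] at h2; norm_num at h2
          · rfl
          · omega
        rw [hk1, pow_one] at e
        exact Or.inr (Or.inl ⟨e, card_centralizer_involution hG e⟩)
      · refine Or.inr (Or.inr (Or.inr (Or.inr (Or.inr (Or.inr ?_)))))
        rcases two_power_cases hG T e hk2 with ⟨rfl, hc⟩ | ⟨⟨rfl, -⟩, hc⟩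
        · obtain ⟨p, hp⟩ := isConj_iff.1 hc
          exact ⟨Or.inl (by rw [e]; norm_num), by rw [← hp, card_centralizer_conj, card_centralizer_w hG T]⟩
        · exact ⟨Or.inr (by rw [e]; norm_num), hc⟩
  · by_cases h3 : 3 ∣ orderOf g
    · exact Or.inr (Or.inr (Or.inl ⟨orderOf_eq_three hG h3 h2, card_centralizer_three hG h3 h2⟩))
    · left
      have h1 : orderOf g = 1 := by
        by_contra hne
        obtain ⟨r, hr, hrd⟩ := Nat.exists_prime_and_dvd hne
        have hr' : r ∣ 7920 := hG.2 ▸ hrd.trans (orderOf_dvd_natCard g)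
        have : r ∈ Nat.primeFactors 7920 := Nat.mem_primeFactors.2 ⟨hr, hr', by norm_num⟩
        rw [show Nat.primeFactors 7920 = {2, 3, 5, 11} by decide +kernel] at this
        simp only [Finset.mem_insert, Finset.mem_singleton] at this
        rcases this with rfl | rfl | rfl | rfl
        exacts [h2 hrd, h3 hrd, h5 hrd, h11 hrd]
      refine ⟨h1, ?_⟩
      rw [orderOf_eq_one_iff.1 h1,
        show Subgroup.centralizer ({(1 : G)} : Set G) = ⊤ from
          top_le_iff.1 fun a _ => Subgroup.mem_centralizer_singleton_iff.2 (by rw [mul_one, one_mul]),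
        Nat.card_congr Subgroup.topEquiv.toEquiv, hG.2]

/-- There are ten conjugacy classes. -/
theorem card_conjClasses_eq : Nat.card (ConjClasses G) = 10 := by
  classical
  obtain ⟨T⟩ := nonempty_twoData hG
  obtain ⟨D⟩ := nonempty_chars hG
  have h := card_comm_eq_card_conjClasses_mul_card G
  have e : {p : G × G // Commute p.1 p.2} ≃ Σ g : G, Subgroup.centralizer ({g} : Set G) :=
    { toFun := fun p => ⟨p.1.1, p.1.2, Subgroup.mem_centralizer_singleton_iff.2 p.2.eq.symm⟩
      invFun := fun p => ⟨(p.1, p.2.1), (Subgroup.mem_centralizer_singleton_iff.1 p.2.2).symm⟩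
      left_inv := fun _ => rfl
      right_inv := fun _ => rfl }
  rw [Nat.card_congr e, Nat.card_sigma, hG.2] at h
  set cnt := fun n : ℕ => (Finset.univ.filter fun g : G => orderOf g = n).card with hcnt
  have n1 : cnt 1 = 1 := by
    rw [hcnt]
    simp only [orderOf_eq_one_iff]
    rw [Finset.card_eq_one]
    exact ⟨1, by ext x; simp⟩
  have n2 : cnt 2 = 165 := by
    have hz := orderOf_z hG T
    have hc := card_conjClass_mul T.z
    rw [card_centralizer_z hG T, hG.2, Nat.card_eq_fintype_card, Fintype.card_subtype] at hc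
    have heq : (Finset.univ.filter fun x => IsConj T.z x) = Finset.univ.filter fun g : G => orderOf g = 2 := by
      ext x
      simp only [Finset.mem_filter, Finset.mem_univ, true_and]
      constructor
      · intro hx
        obtain ⟨a, rfl⟩ := isConj_iff.1 hx
        rw [show orderOf (a * T.z * a⁻¹) = orderOf T.z from (MulAut.conj a).orderOf_eq _, hz]
      · exact fun hx => (isConj_involution hG T hx).symm
    rw [heq] at hc
    simp only [hcnt]
    omega
  have n3 : cnt 3 = 440 := by
    rw [← (three_facts hG D).2.1]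
    refine congrArg Finset.card (Finset.filter_congr fun g _ => ?_)
    constructor
    · intro hg; rw [hg]; norm_num
    · exact fun hg => orderOf_eq_three hG hg.1 hg.2
  have n5 : cnt 5 = 1584 := card_order_five hG
  have n11 : cnt 11 = 1440 := by
    simp only [hcnt]
    rw [← Fintype.card_subtype, ← Nat.card_eq_fintype_card,
      Small.card_orderOf_eq fun P => card_sylow_eleven hG P, card_sylow_eleven_eq hG]
  have n6 : cnt 6 = 1320 := by
    let f : (Σ c : {c : G // orderOf c = 3}, {i : G // orderOf i = 2 ∧ i * c.1 = c.1 * i}) →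
        {g : G // orderOf g = 6} := fun p => ⟨p.2.1 * p.1.1, by
      rw [(show Commute p.2.1 p.1.1 from p.2.2.2).orderOf_mul_eq_mul_orderOf_of_coprime
        (by rw [p.2.2.1, p.1.2]; norm_num), p.2.2.1, p.1.2]⟩
    have hb : Function.Bijective f := by
      constructor
      · rintro ⟨⟨c, hc⟩, ⟨i, hi, hic⟩⟩ ⟨⟨c', hc'⟩, ⟨i', hi', hic'⟩⟩ hfe
        have he : i * c = i' * c' := congrArg Subtype.val hfe
        have h4 : ∀ i c : G, orderOf i = 2 → orderOf c = 3 → i * c = c * i → (i * c) ^ 4 = c := by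
          intro i c hi hc hcm
          have h2 : i ^ 2 = 1 := hi ▸ pow_orderOf_eq_one i
          have h3 : c ^ 3 = 1 := hc ▸ pow_orderOf_eq_one c
          rw [(show Commute i c from hcm).mul_pow, pow_succ c, h3, one_mul, show (4 : ℕ) = 2 * 2 by norm_num,
            pow_mul, h2, one_pow, one_mul]
        obtain rfl : c = c' := by rw [← h4 i c hi hc hic, he, h4 i' c' hi' hc' hic']
        obtain rfl : i = i' := mul_right_cancel he
        rfl
      · rintro ⟨g, hg⟩
        refine ⟨⟨⟨g ^ 4, by rw [orderOf_pow' g (by norm_num : (4 : ℕ) ≠ 0), hg]; rfl⟩,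
          ⟨g ^ 3, by rw [orderOf_pow' g (by norm_num : (3 : ℕ) ≠ 0), hg]; rfl, (Commute.pow_pow_self g 3 4).eq⟩⟩, ?_⟩
        apply Subtype.ext
        show g ^ 3 * g ^ 4 = g
        rw [← pow_add, show 3 + 4 = 6 + 1 by norm_num, pow_succ,
          show g ^ 6 = 1 from hg ▸ pow_orderOf_eq_one g, one_mul]
    have h' := Nat.card_eq_of_bijective f hb
    rw [Nat.card_sigma, Finset.sum_congr rfl fun c _ => (involutions_centralizer_three hG c.2).1,
      Finset.sum_const, Finset.card_univ, Fintype.card_subtype, smul_eq_mul, Nat.card_eq_fintype_card,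
      Fintype.card_subtype] at h'
    simp only [hcnt] at n3 ⊢
    omega
  -- the weights
  have hterm : ∀ g : G, Nat.card (Subgroup.centralizer ({g} : Set G)) =
      8 + (if orderOf g = 1 then 7912 else 0) + (if orderOf g = 2 then 40 else 0) +
      (if orderOf g = 3 then 10 else 0) + (if orderOf g = 11 then 3 else 0) -
      ((if orderOf g = 5 then 3 else 0) + (if orderOf g = 6 then 2 else 0)) := by
    intro g
    rcases element_cases hG T g with ⟨h, hc⟩ | ⟨h, hc⟩ | ⟨h, hc⟩ | ⟨h, hc⟩ | ⟨h, hc⟩ | ⟨h, hc⟩ | ⟨h, hc⟩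
    iterate 6 (rw [hc, h]; norm_num)
    rcases h with h | h <;> rw [hc, h] <;> norm_num
  have hsum : ∑ g : G, Nat.card (Subgroup.centralizer ({g} : Set G)) +
      (3 * cnt 5 + 2 * cnt 6) = 8 * 7920 + 7912 * cnt 1 + 40 * cnt 2 + 10 * cnt 3 + 3 * cnt 11 := by
    have hk : ∀ (n k : ℕ), ∑ g : G, (if orderOf g = n then k else 0) = k * cnt n := fun n k => by
      rw [Finset.sum_ite, Finset.sum_const_zero, add_zero, Finset.sum_const, smul_eq_mul, mul_comm]
    have hcard : Fintype.card G = 7920 := by rw [← Nat.card_eq_fintype_card, hG.2]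
    rw [← hk 5 3, ← hk 6 2, ← hk 1, ← hk 2, ← hk 3, ← hk 11, show 8 * 7920 = ∑ _g : G, 8 by
      rw [Finset.sum_const, Finset.card_univ, hcard, smul_eq_mul, mul_comm], ← Finset.sum_add_distrib,
      ← Finset.sum_add_distrib, ← Finset.sum_add_distrib, ← Finset.sum_add_distrib, ← Finset.sum_add_distrib,
      ← Finset.sum_add_distrib]
    refine Finset.sum_congr rfl fun g _ => ?_
    rw [hterm g]
    split_ifs <;> omega
  rw [n1, n2, n3, n5, n6, n11, h] at hsum
  omega

end Cfsg.Lib.MEleven
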