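import Cfsg.Agent.Lib.MEleven.SylowEleven
import Cfsg.Agent.Lib.Block.CyclicPrimeApps
import Cfsg.Agent.Lib.Block.CyclicPrimeValues
import Cfsg.Agent.Lib.Char.Linear

/-!
The characters of degree prime to 11 of a simple group of order 7920.
-/

set_option autoImplicit false
set_option linter.style.haveILetI false
set_option linter.unusedSectionVars false

namespace Cfsg.Lib.MEleven

open Cfsg Cfsg.Lib.Char Cfsg.Lib.Block

universe u

noncomputable local instance (priority := high) fintypeSubgroupMElevenDegrees {A : Type u}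
    [Group A] [Fintype A] (H : Subgroup A) : Fintype H := Fintype.ofFinite H

variable {G : Type u} [Group G] [Fintype G] (hG : IsM11 G)

/-- The five non-exceptional and the two exceptional characters at the prime 11. -/
structure ElevenBlock (G : Type u) [Group G] [Fintype G] where
  /-- the non-exceptional characters -/
  X : Finset (IrrCharacter G)
  /-- the first exceptional character -/
  y₁ : IrrCharacter G
  /-- the second exceptional character -/
  y₂ : IrrCharacter G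
  /-- the values of the non-exceptional characters on elements of order 11 -/
  σ : IrrCharacter G → ℤ
  /-- the sign of the exceptional pair -/
  ρ : ℤ
  card_X : X.card = 5
  triv_mem : trivChar G ∈ X
  ne : y₁ ≠ y₂
  y₁_notMem : y₁ ∉ X
  y₂_notMem : y₂ ∉ X
  sign_σ : ∀ χ ∈ X, σ χ = 1 ∨ σ χ = -1
  σ_triv : σ (trivChar G) = 1
  sign_ρ : ρ = 1 ∨ ρ = -1
  value : ∀ χ ∈ X, ∀ x : G, orderOf x = 11 → (χ : G → ℂ) x = (σ χ : ℂ)
  regular : ∀ g : G, ¬ 11 ∣ orderOf g → (y₁ : G → ℂ) g = (y₂ : G → ℂ) g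
  relation : ∀ g : G, ¬ 11 ∣ orderOf g →
    (ρ : ℂ) * (y₁ : G → ℂ) g + ∑ χ ∈ X, (σ χ : ℂ) * (χ : G → ℂ) g = 0
  dvd_deg_y : (11 : ℤ) ∣ (deg y₁ : ℤ) + 5 * ρ

include hG in
theorem deg_ne_one {χ : IrrCharacter G} (hχ : χ ≠ trivChar G) : deg χ ≠ 1 := by
  intro h
  haveI := hG.1
  obtain ⟨φ, hφ⟩ := exists_hom_of_degree_one χ.2.isCharacter (by rw [apply_one, h, Nat.cast_one])
  rcases φ.normal_ker.eq_bot_or_eq_top with hk | hk
  · refine not_cyclic hG ?_
    let _ : CommGroup G := { (inferInstance : Group G) with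
      mul_comm := fun a b => (MonoidHom.ker_eq_bot_iff φ).1 hk (by rw [map_mul, map_mul, mul_comm]) }
    exact IsSimpleGroup.isCyclic
  · refine hχ (Subtype.ext (funext fun g => ?_))
    have h1 : φ g = 1 := MonoidHom.mem_ker.1 (hk ▸ Subgroup.mem_top g)
    rw [hφ, trivChar_coe]
    simp [h1]

include hG in
theorem nonempty_elevenBlock [Fact (Nat.Prime 11)] : Nonempty (ElevenBlock G) := by
  classical
  obtain ⟨M, hM⟩ := exists_isPModular (Fact.out : Nat.Prime 11)
  obtain ⟨P⟩ : Nonempty (Sylow 11 G) := inferInstance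
  set C := Subgroup.centralizer ((P : Subgroup G) : Set G) with hC
  set N := Subgroup.normalizer ((P : Subgroup G) : Set G) with hN
  have hcard := card_sylow_eleven hG P
  have hB : IsPBlock M (principalBlock M G) := isPBlock_principal
  have hD := isDefectGroup_principal_sylow hM P
  obtain ⟨hind, -⟩ := principal_root (G := G) (P := (P : Subgroup G)) hM P.2 (le_centralizer_self hcard)
  have hθ : trivChar C ∈ principalBlock M C := trivChar_mem_principal hM
  have hθP : ∀ z : C, (z : G) ∈ (P : Subgroup G) →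
      ((trivChar C : IrrCharacter C) : C → ℂ) z = ((trivChar C : IrrCharacter C) : C → ℂ) 1 :=
    fun _ _ => rfl
  have hT : ∀ g : G, g ∈ N ↔ g ∈ N ∧ StabilizesBlock C (principalBlock M C) g := fun g =>
    ⟨fun h => ⟨h, (stabilizes_iff_fix hM hB hD hcard hind hθ hθP h).2 fun _ _ _ => rfl⟩, fun h => h.1⟩
  obtain ⟨X, Y, δ, δ₀, -, hBXY, hdis, hX, hY, -, -, hδ, hδ₀, hYreg, hrel, -, hcong, hval, -, -⟩ :=
    prime_structure hM hB hD hcard hind hθ hθP N hT
  have hN55 : Nat.card N = 55 := card_normalizer_eleven hG P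
  have hC11 : Nat.card C = 11 :=
    (congrArg (fun H : Subgroup G => Nat.card H) (centralizer_sylow_eleven hG P)).trans hcard
  have he : C.relIndex N = 5 := by
    have h2 := Subgroup.index_mul_card (C.subgroupOf N)
    have h3 : Nat.card (C.subgroupOf N) = 11 :=
      (Nat.card_congr (Subgroup.subgroupOfEquivOfLe (Subgroup.centralizer_le_normalizer _)).toEquiv).trans hC11
    rw [hN55, h3] at h2
    show (C.subgroupOf N).index = 5
    omega
  replace hX : Nat.card X = 5 := hX.trans he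
  replace hY : Nat.card Y = 2 := hY.trans (by rw [show (Subgroup.centralizer ((P : Subgroup G) : Set G)).relIndex N = 5 from he])
  replace hcong : ∀ ψ ∈ Y, ∀ χ ∈ X, (11 : ℤ) ^ (Nat.card G).factorization 11 ∣
      (charDegree (ψ : G → ℂ) : ℤ) + 5 * δ₀ * δ χ * (charDegree (χ : G → ℂ) : ℤ) := fun ψ hψ χ hχ => by
    have h := hcong ψ hψ χ hχ
    rw [show (Subgroup.centralizer ((P : Subgroup G) : Set G)).relIndex N = 5 from he] at h
    exact_mod_cast h
  -- every character of the centraliser lies in the principal block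
  have hall : ∀ η : IrrCharacter C, η ∈ principalBlock M C := by
    have hb := root_card hM hB hD hcard hind
    have hirr : Nat.card (IrrCharacter C) ≤ 11 := by
      have h1 := Char.card_irr_eq_card_conjClasses (G := C)
      rw [h1, ← hC11]
      exact Nat.card_le_card_of_surjective _ ConjClasses.mk_surjective
    have hu : principalBlock M C = Set.univ := Set.eq_of_subset_of_ncard_le (Set.subset_univ _)
      (by rw [Set.ncard_univ, ← Nat.card_coe_set_eq, hb]; exact hirr) (Set.toFinite _)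
    intro η
    rw [hu]
    exact Set.mem_univ η
  have hmemB : ∀ χ ∈ X, χ ∈ principalBlock M G := fun χ h => hBXY ▸ Or.inl h
  -- values on the elements of order 11
  have hv : ∀ χ ∈ X, ∀ x : G, orderOf x = 11 → (χ : G → ℂ) x = -(δ χ : ℂ) := by
    intro χ hχ x hx
    have hc11 : Nat.card (Subgroup.zpowers x) = 11 ^ (Nat.card G).factorization 11 := by
      rw [Nat.card_zpowers, hx]
      exact hcard.symm.trans P.card_eq_multiplicity
    obtain ⟨a, ha⟩ := MulAction.exists_smul_eq G (Sylow.ofCard _ hc11) P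
    have hmem : a * x * a⁻¹ ∈ (P : Subgroup G) := by
      rw [← ha, Sylow.coe_subgroup_smul]
      exact ⟨x, Subgroup.mem_zpowers x, rfl⟩
    rw [← χ.2.isClassFunction x a]
    set k : C := ⟨a * x * a⁻¹, le_centralizer_self hcard hmem⟩
    have hord : orderOf (k : G) = 11 := ((MulAut.conj a).orderOf_eq x).trans hx
    have h := apply_section_single hM hB hD hcard hind hθ (fun η _ => hall η) (hmemB χ hχ)
      (d := (δ χ : ℂ)) (fun ξ hξ hne => hval χ hχ ξ hξ hne) k
      (by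
        rw [← eq_pPt (p := 11) (mul_one (k : G)) (Commute.one_right _) (k := 1) (by simpa using hord)
          (by simp)]
        exact hmem)
      (fun hreg => hreg (by rw [hord]))
    rw [h, trivChar_coe, mul_one]
  obtain ⟨a', b', hab, huniv⟩ := Nat.card_eq_two_iff.1 hY
  obtain ⟨y₁, y₂, hne, hy₁, hy₂, hYonly⟩ : ∃ y₁ y₂ : IrrCharacter G, y₁ ≠ y₂ ∧ y₁ ∈ Y ∧ y₂ ∈ Y ∧
      ∀ y ∈ Y, y = y₁ ∨ y = y₂ := by
    refine ⟨a', b', fun e => hab (Subtype.ext e), a'.2, b'.2, fun y hy => ?_⟩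
    have h : (⟨y, hy⟩ : Y) ∈ ({a', b'} : Set Y) := huniv ▸ Set.mem_univ _
    rcases h with h | h
    · exact Or.inl (congrArg Subtype.val h)
    · exact Or.inr (congrArg Subtype.val (Set.mem_singleton_iff.1 h))
  have htriv : trivChar G ∈ X := by
    have h : trivChar G ∈ X ∪ Y := hBXY ▸ trivChar_mem_principal hM
    refine h.resolve_right fun hY' => ?_
    have key : ∀ y ∈ Y, y = trivChar G := fun y hy => by
      by_contra hne'
      refine deg_ne_one hG hne' ?_
      have h1 := hYreg y hy _ hY' 1 (by rw [IsPRegular, orderOf_one]; norm_num)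
      rw [apply_one] at h1
      have h2 : ((deg y : ℕ) : ℂ) = ((1 : ℕ) : ℂ) := by rw [h1, trivChar_coe, Nat.cast_one]
      exact_mod_cast h2
    exact hne ((key y₁ hy₁).trans (key y₂ hy₂).symm)
  have hδ1 : δ (trivChar G) = -1 := by
    obtain ⟨x, hx⟩ := exists_prime_orderOf_dvd_card' (G := G) 11 (by rw [hG.2]; norm_num)
    have h := hv _ htriv x hx
    rw [trivChar_coe] at h
    have : ((δ (trivChar G) : ℤ) : ℂ) = ((-1 : ℤ) : ℂ) := by push_cast; linear_combination h
    exact_mod_cast this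
  refine ⟨⟨X.toFinset, y₁, y₂, fun χ => -δ χ, -δ₀, ?_, Set.mem_toFinset.2 htriv, hne, ?_, ?_, ?_, ?_, ?_,
    fun χ hχ x hx => ?_, fun g hg => ?_, fun g hg => ?_, ?_⟩⟩
  · rw [Set.toFinset_card, ← Nat.card_eq_fintype_card, hX]
  · exact fun h => Set.disjoint_left.1 hdis (Set.mem_toFinset.1 h) hy₁
  · exact fun h => Set.disjoint_left.1 hdis (Set.mem_toFinset.1 h) hy₂
  · intro χ hχ
    rcases hδ χ (Set.mem_toFinset.1 hχ) with h | h <;> simp [h]
  · simp [hδ1]
  · rcases hδ₀ with h | h <;> simp [h]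
  · rw [hv χ (Set.mem_toFinset.1 hχ) x hx]; push_cast; rfl
  · exact hYreg y₁ hy₁ y₂ hy₂ g hg
  · have h := hrel y₁ hy₁ g hg
    rw [finsum_mem_eq_toFinset_sum] at h
    push_cast
    rw [neg_mul, Finset.sum_congr rfl fun χ _ => neg_mul (δ χ : ℂ) _, Finset.sum_neg_distrib, ← neg_add,
      neg_eq_zero]
    exact h
  · have h := hcong y₁ hy₁ _ htriv
    rw [hG.2, show 7920 = 11 ^ 1 * 720 from rfl, Nat.factorization_mul (by norm_num) (by norm_num),
      (Fact.out : Nat.Prime 11).factorization_pow, Finsupp.add_apply, Finsupp.single_eq_same,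
      Nat.factorization_eq_zero_of_not_dvd (by norm_num : ¬ 11 ∣ 720), add_zero, pow_one, hδ1,
      charDegree_eq_of_apply_one (χ := ((trivChar G : IrrCharacter G) : G → ℂ)) (n := 1)
        (by rw [trivChar_coe, Nat.cast_one])] at h
    push_cast at h ⊢
    convert h using 1
    ring


namespace ElevenBlock

variable (E : ElevenBlock G)

include hG

theorem dvd_deg [Fact (Nat.Prime 11)] {χ : IrrCharacter G} (hχ : χ ∈ E.X) :
    (11 : ℤ) ∣ E.σ χ - (deg χ : ℤ) := by
  obtain ⟨x, hx⟩ := exists_prime_orderOf_dvd_card' (G := G) 11 (by rw [hG.2]; norm_num)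
  exact int_modEq_deg (p := 11) χ (k := 1) (by rw [hx, pow_one]) (E.value χ hχ x hx)

theorem sum_deg : E.ρ * (deg E.y₁ : ℤ) + ∑ χ ∈ E.X, E.σ χ * (deg χ : ℤ) = 0 := by
  have h := E.relation 1 (by rw [orderOf_one]; norm_num)
  simp only [apply_one] at h
  exact_mod_cast h

theorem deg_y_eq : deg E.y₂ = deg E.y₁ := by
  have h := E.regular 1 (by rw [orderOf_one]; norm_num)
  rw [apply_one, apply_one] at h
  exact_mod_cast h.symm

theorem deg_X_mem [Fact (Nat.Prime 11)] {χ : IrrCharacter G} (hχ : χ ∈ E.X) (h1 : χ ≠ trivChar G) :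
    (deg χ = 10 ∧ E.σ χ = -1) ∨ (deg χ = 12 ∧ E.σ χ = 1) ∨ (deg χ = 45 ∧ E.σ χ = 1) := by
  have hd : deg χ ∣ 7920 := hG.2 ▸ charDegree_dvd_card χ.2
  have hsq := sum_sq_deg_le ({χ} : Finset (IrrCharacter G))
  rw [Finset.sum_singleton, hG.2] at hsq
  have hle : deg χ ≤ 88 := by nlinarith
  have hne := deg_ne_one hG h1
  have hc := dvd_deg hG E hχ
  have key : ∀ d : ℕ, d < 89 → d ∣ 7920 → d ≠ 1 →
      (d % 11 = 1 → d = 12 ∨ d = 45) ∧ (d % 11 = 10 → d = 10) := by decide +kernel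
  obtain ⟨k1, k2⟩ := key (deg χ) (by omega) hd hne
  rcases E.sign_σ χ hχ with hs | hs <;> rw [hs] at hc
  · rcases k1 (by omega) with h | h
    · exact Or.inr (Or.inl ⟨h, hs⟩)
    · exact Or.inr (Or.inr ⟨h, hs⟩)
  · exact Or.inl ⟨k2 (by omega), hs⟩

theorem deg_y_mem [Fact (Nat.Prime 11)] :
    (E.ρ = 1 ∧ deg E.y₁ = 6) ∨ (E.ρ = -1 ∧ (deg E.y₁ = 5 ∨ deg E.y₁ = 16 ∨ deg E.y₁ = 60)) := by
  classical
  have hd : deg E.y₁ ∣ 7920 := hG.2 ▸ charDegree_dvd_card E.y₁.2
  have hsq := sum_sq_deg_le ({E.y₁, E.y₂} : Finset (IrrCharacter G))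
  rw [Finset.sum_pair E.ne, hG.2, deg_y_eq hG E] at hsq
  have hle : deg E.y₁ ≤ 62 := by nlinarith
  have hc := E.dvd_deg_y
  have key : ∀ d : ℕ, d < 63 → d ∣ 7920 →
      (d % 11 = 6 → d = 6) ∧ (d % 11 = 5 → d = 5 ∨ d = 16 ∨ d = 60) := by decide +kernel
  obtain ⟨k1, k2⟩ := key (deg E.y₁) (by omega) hd
  rcases E.sign_ρ with hs | hs <;> rw [hs] at hc
  · exact Or.inl ⟨hs, k1 (by omega)⟩
  · exact Or.inr ⟨hs, k2 (by omega)⟩

/-- The two possibilities for the degrees. -/
theorem degree_cases [Fact (Nat.Prime 11)] :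
    E.ρ = -1 ∧
    ((deg E.y₁ = 5 ∧ ∃ a b c d, a ≠ b ∧ c ≠ d ∧ E.X = {trivChar G, a, b, c, d} ∧
        deg a = 12 ∧ deg b = 12 ∧ deg c = 10 ∧ deg d = 10) ∨
      (deg E.y₁ = 16 ∧ ∃ f t₁ t₂ t₃, E.X = {trivChar G, f, t₁, t₂, t₃} ∧
        deg f = 45 ∧ deg t₁ = 10 ∧ deg t₂ = 10 ∧ deg t₃ = 10)) := by
  classical
  obtain ⟨a, ha⟩ : ∃ l : List (IrrCharacter G), l.Nodup ∧ l.toFinset = E.X.erase (trivChar G) :=
    ⟨_, Finset.nodup_toList _, Finset.toList_toFinset _⟩
  obtain ⟨hnd, hl⟩ := ha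
  have hlen : a.length = 4 := by
    rw [← List.toFinset_card_of_nodup hnd, hl, Finset.card_erase_of_mem E.triv_mem, E.card_X]
  match a, hlen with
  | [p, q, r, s], _ =>
    have hXeq : E.X = {trivChar G, p, q, r, s} := by
      rw [← Finset.insert_erase E.triv_mem, ← hl]
      simp
    simp only [List.nodup_cons, List.mem_cons, List.not_mem_nil, or_false, not_or, List.nodup_nil,
      and_true, not_false_eq_true] at hnd
    obtain ⟨⟨hpq, hpr, hps⟩, ⟨hqr, hqs⟩, hrs⟩ := hnd
    have hne : ∀ z ∈ ([p, q, r, s] : List (IrrCharacter G)), z ∈ E.X ∧ z ≠ trivChar G := fun z hz => by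
      have h : z ∈ E.X.erase (trivChar G) := hl ▸ List.mem_toFinset.2 hz
      exact ⟨(Finset.mem_erase.1 h).2, (Finset.mem_erase.1 h).1⟩
    have hsum := sum_deg hG E
    have hp := hne p (by simp)
    have hq := hne q (by simp)
    have hr := hne r (by simp)
    have hs := hne s (by simp)
    have htd : deg (trivChar G) = 1 :=
      charDegree_eq_of_apply_one (χ := ((trivChar G : IrrCharacter G) : G → ℂ)) (n := 1)
        (by rw [trivChar_coe, Nat.cast_one])
    rw [hXeq, Finset.sum_insert (by simp [hp.2.symm, hq.2.symm, hr.2.symm, hs.2.symm]),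
      Finset.sum_insert (by simp [hpq, hpr, hps]), Finset.sum_insert (by simp [hqr, hqs]),
      Finset.sum_pair hrs, E.σ_triv, htd] at hsum
    have hy1 : E.y₁ ∉ ({trivChar G, p, q, r, s} : Finset _) := hXeq ▸ E.y₁_notMem
    have hsq := sum_sq_deg_le ({E.y₁, E.y₂, p, q, r, s} : Finset (IrrCharacter G))
    have hy2 : E.y₂ ∉ ({trivChar G, p, q, r, s} : Finset _) := hXeq ▸ E.y₂_notMem
    simp only [Finset.mem_insert, Finset.mem_singleton, not_or] at hy1 hy2
    rw [Finset.sum_insert (by simp [E.ne, hy1.2.1, hy1.2.2.1, hy1.2.2.2.1, hy1.2.2.2.2]),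
      Finset.sum_insert (by simp [hy2.2.1, hy2.2.2.1, hy2.2.2.2.1, hy2.2.2.2.2]),
      Finset.sum_insert (by simp [hpq, hpr, hps]), Finset.sum_insert (by simp [hqr, hqs]),
      Finset.sum_pair hrs, deg_y_eq hG E, hG.2] at hsq
    have fp := deg_X_mem hG E hp.1 hp.2
    have fq := deg_X_mem hG E hq.1 hq.2
    have fr := deg_X_mem hG E hr.1 hr.2
    have fs := deg_X_mem hG E hs.1 hs.2
    rcases deg_y_mem hG E with ⟨hρ, hy⟩ | ⟨hρ, hy⟩
    · exfalso
      rw [hρ, hy] at hsum
      rcases fp with ⟨e, e'⟩ | ⟨e, e'⟩ | ⟨e, e'⟩ <;> rw [e, e'] at hsum <;>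
        rcases fq with ⟨e, e'⟩ | ⟨e, e'⟩ | ⟨e, e'⟩ <;> rw [e, e'] at hsum <;>
          rcases fr with ⟨e, e'⟩ | ⟨e, e'⟩ | ⟨e, e'⟩ <;> rw [e, e'] at hsum <;>
            rcases fs with ⟨e, e'⟩ | ⟨e, e'⟩ | ⟨e, e'⟩ <;> rw [e, e'] at hsum <;> norm_num at hsum
    · refine ⟨hρ, ?_⟩
      rw [hρ] at hsum
      rcases hy with hy | hy | hy <;> rw [hy] at hsum hsq <;>
        rcases fp with ⟨ep, e'⟩ | ⟨ep, e'⟩ | ⟨ep, e'⟩ <;> rw [ep, e'] at hsum <;>
          rcases fq with ⟨eq', e'⟩ | ⟨eq', e'⟩ | ⟨eq', e'⟩ <;> rw [eq', e'] at hsum <;>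
            rcases fr with ⟨er, e'⟩ | ⟨er, e'⟩ | ⟨er, e'⟩ <;> rw [er, e'] at hsum <;>
              rcases fs with ⟨es, e'⟩ | ⟨es, e'⟩ | ⟨es, e'⟩ <;> rw [es, e'] at hsum <;>
                norm_num at hsum <;>
                first
                | (rw [ep, eq', er, es] at hsq; norm_num at hsq; done)
                | exact Or.inl ⟨hy, p, q, r, s, hpq, hrs, hXeq, ep, eq', er, es⟩
                | exact Or.inl ⟨hy, p, r, q, s, hpr, hqs, by rw [hXeq]; grind, ep, er, eq', es⟩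
                | exact Or.inl ⟨hy, p, s, q, r, hps, hqr, by rw [hXeq]; grind, ep, es, eq', er⟩
                | exact Or.inl ⟨hy, q, r, p, s, hqr, hps, by rw [hXeq]; grind, eq', er, ep, es⟩
                | exact Or.inl ⟨hy, q, s, p, r, hqs, hpr, by rw [hXeq]; grind, eq', es, ep, er⟩
                | exact Or.inl ⟨hy, r, s, p, q, hrs, hpq, by rw [hXeq]; grind, er, es, ep, eq'⟩
                | exact Or.inr ⟨hy, p, q, r, s, hXeq, ep, eq', er, es⟩
                | exact Or.inr ⟨hy, q, p, r, s, by rw [hXeq]; grind, eq', ep, er, es⟩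
                | exact Or.inr ⟨hy, r, p, q, s, by rw [hXeq]; grind, er, ep, eq', es⟩
                | exact Or.inr ⟨hy, s, p, q, r, by rw [hXeq]; grind, es, ep, eq', er⟩

end ElevenBlock

end Cfsg.Lib.MEleven
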