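import Cfsg.Agent.Lib.MEleven.Five
import Cfsg.Agent.Lib.Block.GaloisTwist
import Mathlib.GroupTheory.PGroup

/-!
The elements of a simple group of order 7920 and the values of the exceptional character at 11.
-/

set_option autoImplicit false
set_option linter.style.haveILetI false
set_option linter.unusedSectionVars false

namespace Cfsg.Lib.MEleven

open Cfsg Cfsg.Lib.Char Cfsg.Lib.Block
open scoped ComplexConjugate

universe u

noncomputable local instance (priority := high) fintypeSubgroupMElevenElements {A : Type u}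
    [Group A] [Fintype A] (H : Subgroup A) : Fintype H := Fintype.ofFinite H

variable {G : Type u} [Group G] [Fintype G]

theorem deg_trivChar : deg (trivChar G) = 1 :=
  charDegree_eq_of_apply_one (χ := ((trivChar G : IrrCharacter G) : G → ℂ)) (n := 1)
    (by rw [trivChar_coe, Nat.cast_one])

/-- Summing a class function over the elements of prime order `p`, when the Sylow subgroups have
order `p`. -/
theorem sum_prime_order {p : ℕ} [Fact p.Prime] (f : G → ℂ) (hf : ∀ g h, f (h * g * h⁻¹) = f g)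
    (P : Sylow p G) (hP : Nat.card (P : Subgroup G) = p) {x : G} (hx : orderOf x = p) :
    ∑ g ∈ Finset.univ.filter (fun g : G => orderOf g = p), f g =
      (Nat.card (Sylow p G) : ℂ) * ∑ k ∈ Finset.univ.erase (0 : ZMod p), f (x ^ k.val) := by
  classical
  have hp := (Fact.out : p.Prime)
  haveI : NeZero p := ⟨hp.ne_zero⟩
  have hsylow : ∀ g : G, orderOf g = p → ∃ Q : Sylow p G, (Q : Subgroup G) = Subgroup.zpowers g := fun g hg => by
    have h : Nat.card (Subgroup.zpowers g) = p ^ (Nat.card G).factorization p := by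
      rw [Nat.card_zpowers, hg, ← P.card_eq_multiplicity, hP]
    exact ⟨Sylow.ofCard _ h, rfl⟩
  obtain ⟨Q₀, hQ₀⟩ := hsylow x hx
  choose a ha using fun Q : Sylow p G => MulAction.exists_smul_eq G Q₀ Q
  have hmem : ∀ (Q : Sylow p G) (k : ZMod p), a Q * x ^ k.val * (a Q)⁻¹ ∈ (Q : Subgroup G) := fun Q k => by
    have h : a Q * x ^ k.val * (a Q)⁻¹ ∈ ((a Q • Q₀ : Sylow p G) : Subgroup G) := by
      rw [Sylow.coe_subgroup_smul]
      exact ⟨x ^ k.val, hQ₀ ▸ Subgroup.npow_mem_zpowers x _, rfl⟩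
    rwa [ha] at h
  have hxp : x ^ p = 1 := hx ▸ pow_orderOf_eq_one x
  have hne : ∀ k : ZMod p, k ≠ 0 → orderOf (x ^ k.val) = p := fun k hk => by
    refine orderOf_eq_prime (by rw [← pow_mul, mul_comm, pow_mul, hxp, one_pow]) fun e => hk ?_
    have h := orderOf_dvd_of_pow_eq_one e
    rw [hx] at h
    exact (ZMod.val_eq_zero k).1 (Nat.eq_zero_of_dvd_of_lt h k.val_lt)
  rw [Finset.mul_sum, Nat.card_eq_fintype_card]
  symm
  calc ∑ k ∈ Finset.univ.erase (0 : ZMod p), (Fintype.card (Sylow p G) : ℂ) * f (x ^ k.val)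
      = ∑ k ∈ Finset.univ.erase (0 : ZMod p), ∑ Q : Sylow p G, f (a Q * x ^ k.val * (a Q)⁻¹) := by
        refine Finset.sum_congr rfl fun k _ => ?_
        simp only [hf, Finset.sum_const, Finset.card_univ, nsmul_eq_mul]
    _ = ∑ r ∈ (Finset.univ.erase (0 : ZMod p)) ×ˢ (Finset.univ : Finset (Sylow p G)),
          f (a r.2 * x ^ r.1.val * (a r.2)⁻¹) := by rw [Finset.sum_product]
    _ = ∑ g ∈ Finset.univ.filter (fun g : G => orderOf g = p), f g := by
      refine Finset.sum_bij (fun r _ => a r.2 * x ^ r.1.val * (a r.2)⁻¹) (fun r hr => ?_) ?_ ?_ fun _ _ => rfl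
      · refine Finset.mem_filter.2 ⟨Finset.mem_univ _, ?_⟩
        exact ((MulAut.conj (a r.2)).orderOf_eq _).trans (hne _ (Finset.mem_erase.1 (Finset.mem_product.1 hr).1).1)
      · rintro ⟨k, Q⟩ hr ⟨k', Q'⟩ hr' e
        have hk := hne _ (Finset.mem_erase.1 (Finset.mem_product.1 hr).1).1
        have hk' := hne _ (Finset.mem_erase.1 (Finset.mem_product.1 hr').1).1
        have hcardQ : ∀ R : Sylow p G, Nat.card (R : Subgroup G) = p := fun R => by
          rw [R.card_eq_multiplicity, ← P.card_eq_multiplicity, hP]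
        have h1 : a Q * x ^ k.val * (a Q)⁻¹ ≠ 1 := fun h => by
          rw [conj_eq_one_iff.1 h, orderOf_one] at hk
          exact hp.ne_one hk.symm
        have z1 := Block.zpowers_eq_of_mem (hcardQ Q) (hmem Q k) h1
        have z2 := Block.zpowers_eq_of_mem (hcardQ Q') (hmem Q' k') (e ▸ h1)
        obtain rfl : Q = Q' := Sylow.ext (by rw [← z1, ← z2, e])
        have e' : x ^ k.val = x ^ k'.val := mul_left_cancel (mul_right_cancel e)
        rw [pow_inj_mod, hx, Nat.mod_eq_of_lt k.val_lt, Nat.mod_eq_of_lt k'.val_lt] at e'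
        rw [ZMod.val_injective p e']
      · intro g hg
        have hg' := (Finset.mem_filter.1 hg).2
        obtain ⟨Q, hQ⟩ := hsylow g hg'
        have hgQ : (a Q)⁻¹ * g * a Q ∈ (Q₀ : Subgroup G) := by
          have h : g ∈ ((a Q • Q₀ : Sylow p G) : Subgroup G) := by
            rw [ha, hQ]; exact Subgroup.mem_zpowers g
          rw [Sylow.coe_subgroup_smul] at h
          obtain ⟨w, hw, rfl⟩ := h
          have e : (a Q)⁻¹ * (MulAut.conj (a Q) • w) * a Q = w := by simp [MulAut.smul_def, mul_assoc]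
          exact e.symm ▸ hw
        rw [hQ₀] at hgQ
        obtain ⟨m, hm⟩ := mem_powers_iff_mem_zpowers.2 hgQ
        have hm' : x ^ m = (a Q)⁻¹ * g * a Q := hm
        refine ⟨((m : ZMod p), Q), Finset.mem_product.2 ⟨Finset.mem_erase.2 ⟨fun h0 => ?_, Finset.mem_univ _⟩,
          Finset.mem_univ _⟩, ?_⟩
        · have hmod : m % p = 0 := by rw [← ZMod.val_natCast p m, show (m : ZMod p) = 0 from h0, ZMod.val_zero]
          obtain ⟨j, rfl⟩ := Nat.dvd_of_mod_eq_zero hmod
          rw [pow_mul, ← hx, pow_orderOf_eq_one, one_pow, eq_comm, mul_assoc, inv_mul_eq_one] at hm'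
          have : g = 1 := mul_eq_right.1 hm'.symm
          rw [this, orderOf_one] at hg'
          exact hp.ne_one hg'.symm
        · show a Q * x ^ (m : ZMod p).val * (a Q)⁻¹ = g
          rw [ZMod.val_natCast, ← hx, pow_mod_orderOf, hm']
          group

theorem card_prime_order {p : ℕ} [Fact p.Prime] (P : Sylow p G) (hP : Nat.card (P : Subgroup G) = p)
    {x : G} (hx : orderOf x = p) :
    (Finset.univ.filter (fun g : G => orderOf g = p)).card = Nat.card (Sylow p G) * (p - 1) := by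
  haveI : NeZero p := ⟨(Fact.out : p.Prime).ne_zero⟩
  have h := sum_prime_order (fun _ => (1 : ℂ)) (fun _ _ => rfl) P hP hx
  simp only [Finset.sum_const, nsmul_eq_mul, mul_one, Finset.card_erase_of_mem (Finset.mem_univ _),
    Finset.card_univ, ZMod.card] at h
  exact_mod_cast h

variable (hG : IsM11 G) [Fact (Nat.Prime 5)] [Fact (Nat.Prime 11)]

/-- The degrees of the characters of degree prime to 11. -/
structure Chars (G : Type u) [Group G] [Fintype G] where
  /-- the block at 11 -/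
  E : ElevenBlock G
  /-- the character of degree 45 -/
  f : IrrCharacter G
  /-- the first character of degree 10 -/
  t₁ : IrrCharacter G
  /-- the second character of degree 10 -/
  t₂ : IrrCharacter G
  /-- the third character of degree 10 -/
  t₃ : IrrCharacter G
  eq_X : E.X = {trivChar G, f, t₁, t₂, t₃}
  deg_y : deg E.y₁ = 16
  deg_f : deg f = 45
  deg_t₁ : deg t₁ = 10
  deg_t₂ : deg t₂ = 10
  deg_t₃ : deg t₃ = 10
  rho : E.ρ = -1

include hG

omit [Fact (Nat.Prime 5)] in
theorem exists_orderOf_eleven : ∃ x : G, orderOf x = 11 :=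
  exists_prime_orderOf_dvd_card' 11 (by rw [hG.2]; norm_num)

omit [Fact (Nat.Prime 11)] in
theorem exists_orderOf_five : ∃ x : G, orderOf x = 5 :=
  exists_prime_orderOf_dvd_card' 5 (by rw [hG.2]; norm_num)

theorem nonempty_chars : Nonempty (Chars G) := by
  obtain ⟨E⟩ := nonempty_elevenBlock hG
  obtain ⟨q, hq⟩ := exists_orderOf_five hG
  have h16 := (five_facts hG E hq).2.2
  obtain ⟨hρ, ⟨hy, -⟩ | ⟨hy, f, t₁, t₂, t₃, hX, hf, h1, h2, h3⟩⟩ := ElevenBlock.degree_cases hG E
  · omega
  · exact ⟨⟨E, f, t₁, t₂, t₃, hX, hy, hf, h1, h2, h3, hρ⟩⟩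

theorem card_centralizer_five {q : G} (hq : orderOf q = 5) :
    Nat.card (Subgroup.centralizer ({q} : Set G)) = 5 := by
  obtain ⟨E⟩ := nonempty_elevenBlock hG
  exact (five_facts hG E hq).1

theorem card_normalizer_five {q : G} (hq : orderOf q = 5) :
    Nat.card (Subgroup.normalizer ((Subgroup.zpowers q : Subgroup G) : Set G)) = 20 := by
  obtain ⟨E⟩ := nonempty_elevenBlock hG
  exact (five_facts hG E hq).2.1

theorem orderOf_eq_five {g : G} (h : 5 ∣ orderOf g) : orderOf g = 5 := by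
  set x := g ^ (orderOf g / 5) with hxdef
  have hx : orderOf x = 5 := orderOf_pow_orderOf_div (orderOf_pos g).ne' h
  have hmem : g ∈ Subgroup.centralizer ({x} : Set G) :=
    Subgroup.mem_centralizer_singleton_iff.2 ((Commute.refl g).pow_right _).eq
  have hdvd := Subgroup.orderOf_dvd_natCard _ hmem
  rw [card_centralizer_five hG hx] at hdvd
  exact Nat.dvd_antisymm hdvd h

theorem card_sylow_five_eq : Nat.card (Sylow 5 G) = 396 := by
  obtain ⟨q, hq⟩ := exists_orderOf_five hG
  obtain ⟨Q, hQ⟩ := zpowers_five hG hq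
  have h := Small.card_normalizer_mul Q
  rw [hQ, card_normalizer_five hG hq, hG.2] at h
  omega

theorem card_order_five : (Finset.univ.filter (fun g : G => orderOf g = 5)).card = 1584 := by
  obtain ⟨q, hq⟩ := exists_orderOf_five hG
  obtain ⟨Q, hQ⟩ := zpowers_five hG hq
  rw [card_prime_order Q (card_sylow_five hG Q) hq, card_sylow_five_eq hG]

theorem trivial_five_value (D : Chars G) {g : G} (hg : orderOf g = 5) : (D.E.y₁ : G → ℂ) g = 1 := by
  classical
  have h11 : ¬ 11 ∣ orderOf g := by rw [hg]; norm_num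
  have h := D.E.relation g h11
  have hz : ∀ χ : IrrCharacter G, 5 ∣ deg χ → (χ : G → ℂ) g = 0 := fun χ h =>
    apply_eq_zero_five hG h (by rw [hg])
  have hrest : ∀ χ ∈ ({D.f, D.t₁, D.t₂, D.t₃} : Finset (IrrCharacter G)), (χ : G → ℂ) g = 0 := by
    intro χ hχ
    simp only [Finset.mem_insert, Finset.mem_singleton] at hχ
    rcases hχ with rfl | rfl | rfl | rfl <;> apply hz
    · rw [D.deg_f]; norm_num
    · rw [D.deg_t₁]; norm_num
    · rw [D.deg_t₂]; norm_num
    · rw [D.deg_t₃]; norm_num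
  have htne : trivChar G ∉ ({D.f, D.t₁, D.t₂, D.t₃} : Finset (IrrCharacter G)) := fun h => by
    have := hrest _ h
    rw [trivChar_coe] at this
    exact one_ne_zero this
  rw [D.eq_X, Finset.sum_insert htne, Finset.sum_eq_zero (fun χ hχ => by rw [hrest χ hχ, mul_zero]),
    trivChar_coe, D.E.σ_triv, D.rho] at h
  push_cast at h
  linear_combination -h

theorem even_value (D : Chars G) {g : G} (hg : 2 ∣ orderOf g) : (D.E.y₁ : G → ℂ) g = 0 := by
  haveI : Fact (Nat.Prime 2) := ⟨Nat.prime_two⟩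
  refine apply_eq_zero_of_defectZero (p := 2) D.E.y₁ ?_ hg
  rw [D.deg_y, hG.2, show 7920 = 2 ^ 4 * 495 from rfl, Nat.factorization_mul (by norm_num) (by norm_num),
    Finsupp.add_apply, Nat.factorization_eq_zero_of_not_dvd (by norm_num : ¬ 2 ∣ 495), add_zero,
    show (16 : ℕ) = 2 ^ 4 from rfl]

/-- The characters outside the block at 11 vanish on the elements of order 11, and the values of the
exceptional characters there. -/
theorem eleven_values (D : Chars G) :
    (∀ χ : IrrCharacter G, χ ∉ D.E.X → χ ≠ D.E.y₁ → χ ≠ D.E.y₂ →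
      (∀ x : G, orderOf x = 11 → (χ : G → ℂ) x = 0) ∧ 11 ∣ deg χ) ∧
    ∀ x : G, orderOf x = 11 →
      ∑ k ∈ Finset.univ.erase (0 : ZMod 11), ‖(D.E.y₁ : G → ℂ) (x ^ k.val)‖ ^ 2 = 30 := by
  classical
  haveI : NeZero 11 := ⟨by norm_num⟩
  set E := D.E
  have hy2 : deg E.y₂ = 16 := (ElevenBlock.deg_y_eq hG E).trans D.deg_y
  have key : ∀ x : G, orderOf x = 11 →
      (∀ χ : IrrCharacter G, χ ∉ E.X → χ ≠ E.y₁ → χ ≠ E.y₂ → (χ : G → ℂ) x = 0) ∧
        ∑ k ∈ Finset.univ.erase (0 : ZMod 11), ‖(E.y₁ : G → ℂ) (x ^ k.val)‖ ^ 2 = 30 := by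
    intro x hx
    have hx11 : x ^ 11 = 1 := hx ▸ pow_orderOf_eq_one x
    have hlb : ∀ y : IrrCharacter G, deg y = 16 →
        (30 : ℝ) ≤ ∑ k ∈ Finset.univ.erase (0 : ZMod 11), ‖(y : G → ℂ) (x ^ k.val)‖ ^ 2 := by
      intro y hy
      have h := MathieuBlock.le_sum_norm_sq (r := 11) y.2.isCharacter (d := 16) (by rw [apply_one, hy]) hx11 ⊥
        (fun v hv => by rw [Subgroup.mem_bot.1 hv]; exact Commute.one_right _)
        (fun k v hv hv1 => absurd (Subgroup.mem_bot.1 hv) hv1) Subgroup.card_bot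
      exact le_of_eq_of_le (by norm_num) h
    have hord : ∀ k : ZMod 11, k ≠ 0 → orderOf (x ^ k.val) = 11 := fun k hk => by
      refine orderOf_eq_prime (by rw [← pow_mul, mul_comm, pow_mul, hx11, one_pow]) fun e => hk ?_
      have h := orderOf_dvd_of_pow_eq_one e
      rw [hx] at h
      exact (ZMod.val_eq_zero k).1 (Nat.eq_zero_of_dvd_of_lt h k.val_lt)
    have hcol : ∀ k ∈ Finset.univ.erase (0 : ZMod 11),
        ‖(E.y₁ : G → ℂ) (x ^ k.val)‖ ^ 2 + ‖(E.y₂ : G → ℂ) (x ^ k.val)‖ ^ 2 +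
          ∑ χ ∈ (Finset.univ \ (insert E.y₁ (insert E.y₂ E.X))), ‖(χ : G → ℂ) (x ^ k.val)‖ ^ 2 = 6 := by
      intro k hk
      have ho := hord k (Finset.mem_erase.1 hk).1
      have h := sum_column_normSq (x ^ k.val)
      rw [card_centralizer_eleven hG ho, ← Finset.sum_sdiff (Finset.subset_univ (insert E.y₁ (insert E.y₂ E.X))),
        Finset.sum_insert (by simp [E.ne, E.y₁_notMem]), Finset.sum_insert E.y₂_notMem] at h
      have hX : ∑ χ ∈ E.X, ‖(χ : G → ℂ) (x ^ k.val)‖ ^ 2 = (5 : ℝ) := by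
        have h1 : ∀ χ ∈ E.X, ‖(χ : G → ℂ) (x ^ k.val)‖ ^ 2 = (1 : ℝ) := fun χ hχ => by
          rw [E.value χ hχ _ ho]
          rcases E.sign_σ χ hχ with e | e <;> simp [e]
        rw [Finset.sum_congr rfl h1, Finset.sum_const, E.card_X]
        norm_num
      rw [hX] at h
      push_cast at h
      linarith
    have htot := Finset.sum_congr rfl hcol
    rw [Finset.sum_add_distrib, Finset.sum_add_distrib, Finset.sum_const,
      Finset.card_erase_of_mem (Finset.mem_univ _), Finset.card_univ, ZMod.card, nsmul_eq_mul] at htot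
    rw [show ((11 - 1 : ℕ) : ℝ) * 6 = 60 by norm_num] at htot
    have h1 := hlb E.y₁ D.deg_y
    have h2 := hlb E.y₂ hy2
    have h3 : (0 : ℝ) ≤ ∑ k ∈ Finset.univ.erase (0 : ZMod 11),
        ∑ χ ∈ (Finset.univ \ (insert E.y₁ (insert E.y₂ E.X))), ‖(χ : G → ℂ) (x ^ k.val)‖ ^ 2 :=
      Finset.sum_nonneg fun _ _ => Finset.sum_nonneg fun _ _ => sq_nonneg _
    refine ⟨fun χ hX hy hy' => ?_, by linarith⟩
    have h0 : ∑ k ∈ Finset.univ.erase (0 : ZMod 11),
        ∑ χ ∈ (Finset.univ \ (insert E.y₁ (insert E.y₂ E.X))), ‖(χ : G → ℂ) (x ^ k.val)‖ ^ 2 = 0 := by linarith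
    have h1' := (Finset.sum_eq_zero_iff_of_nonneg fun _ _ => Finset.sum_nonneg fun _ _ => sq_nonneg _).1 h0 1
      (Finset.mem_erase.2 ⟨one_ne_zero, Finset.mem_univ _⟩)
    have h2' := (Finset.sum_eq_zero_iff_of_nonneg fun _ _ => sq_nonneg _).1 h1' χ
      (Finset.mem_sdiff.2 ⟨Finset.mem_univ _, by simp [hy, hy', hX]⟩)
    rwa [sq_eq_zero_iff, norm_eq_zero, ZMod.val_one, pow_one] at h2'
  refine ⟨fun χ hX hy hy' => ⟨fun x hx => (key x hx).1 χ hX hy hy', ?_⟩, fun x hx => (key x hx).2⟩
  obtain ⟨x, hx⟩ := exists_orderOf_eleven hG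
  obtain ⟨n, hn⟩ := exists_nat_sum χ (Subgroup.zpowers x)
  rw [Finset.sum_eq_single (1 : Subgroup.zpowers x) (fun g _ hg => (key g ?_).1 χ hX hy hy') (by simp),
    OneMemClass.coe_one, apply_one, Nat.card_zpowers, hx] at hn
  · exact ⟨n, by exact_mod_cast hn⟩
  · have hz : Nat.card (Subgroup.zpowers x) = 11 := (Nat.card_zpowers x).trans hx
    have hd : orderOf (g : G) ∣ 11 := (Subgroup.orderOf_dvd_natCard _ g.2).trans hz.dvd
    exact ((Nat.dvd_prime (Fact.out : Nat.Prime 11)).1 hd).resolve_left fun e =>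
      hg (Subtype.ext (orderOf_eq_one_iff.1 e))

/-- The exceptional character of degree 16 takes rational values on the 11-regular elements. -/
theorem value_int (D : Chars G) {g : G} (hg : ¬ 11 ∣ orderOf g) : ∃ m : ℤ, (D.E.y₁ : G → ℂ) g = m := by
  refine exists_int_of_pow_invariant D.E.y₁.2.isCharacter g fun k hk => ?_
  have hdeg : deg (Block.powTwist k hk D.E.y₁) = 16 := by
    refine charDegree_eq_of_apply_one ?_
    rw [Block.powTwist_apply, one_pow, apply_one, D.deg_y]
  have hmem : Block.powTwist k hk D.E.y₁ = D.E.y₁ ∨ Block.powTwist k hk D.E.y₁ = D.E.y₂ := by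
    by_contra hno
    push Not at hno
    have hX : Block.powTwist k hk D.E.y₁ ∉ D.E.X := by
      intro h
      rw [D.eq_X] at h
      simp only [Finset.mem_insert, Finset.mem_singleton] at h
      have := hdeg
      rcases h with e | e | e | e | e <;> rw [e] at this
      · rw [deg_trivChar] at this; omega
      · rw [D.deg_f] at this; omega
      · rw [D.deg_t₁] at this; omega
      · rw [D.deg_t₂] at this; omega
      · rw [D.deg_t₃] at this; omega
    have h11 := ((eleven_values hG D).1 _ hX hno.1 hno.2).2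
    rw [hdeg] at h11
    omega
  have h := Block.powTwist_apply k hk D.E.y₁ g
  rcases hmem with e | e <;> rw [e] at h
  · exact h.symm
  · rw [← h, ← D.E.regular g hg]

/-- The sum of the values and of their squares over the elements with order a power of 3. -/
theorem three_sums (D : Chars G) :
    ∑ g ∈ Finset.univ.filter (fun g : G => 3 ∣ orderOf g ∧ ¬ 2 ∣ orderOf g), (D.E.y₁ : G → ℂ) g = -880 ∧
    ∑ g ∈ Finset.univ.filter (fun g : G => 3 ∣ orderOf g ∧ ¬ 2 ∣ orderOf g),
      ‖(D.E.y₁ : G → ℂ) g‖ ^ 2 = (1760 : ℝ) := by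
  classical
  haveI : NeZero 11 := ⟨by norm_num⟩
  set y := D.E.y₁
  set T := Finset.univ.filter (fun g : G => 3 ∣ orderOf g ∧ ¬ 2 ∣ orderOf g) with hT
  obtain ⟨x, hx⟩ := exists_orderOf_eleven hG
  obtain ⟨P⟩ : Nonempty (Sylow 11 G) := inferInstance
  set A := Finset.univ.filter (fun g : G => orderOf g = 11) with hA
  set F := Finset.univ.filter (fun g : G => orderOf g = 5) with hF
  have hsplit : ∀ f : G → ℂ, (∀ g, 2 ∣ orderOf g → f g = 0) →
      ∑ g, f g = f 1 + ∑ g ∈ A, f g + ∑ g ∈ F, f g + ∑ g ∈ T, f g := by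
    intro f hev
    have hdisj : ∀ g : G, g = 1 ∨ g ∈ A ∨ g ∈ F ∨ g ∈ T ∨ 2 ∣ orderOf g := by
      intro g
      simp only [hA, hF, hT, Finset.mem_filter, Finset.mem_univ, true_and]
      by_cases h2 : 2 ∣ orderOf g
      · tauto
      by_cases h5 : 5 ∣ orderOf g
      · exact Or.inr (Or.inr (Or.inl (orderOf_eq_five hG h5)))
      by_cases h11 : 11 ∣ orderOf g
      · exact Or.inr (Or.inl (orderOf_eq_eleven hG h11))
      by_cases h3 : 3 ∣ orderOf g
      · tauto
      left
      rw [← orderOf_eq_one_iff]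
      by_contra hne
      obtain ⟨r, hr, hrd⟩ := Nat.exists_prime_and_dvd hne
      have hr' : r ∣ 7920 := hG.2 ▸ hrd.trans (orderOf_dvd_natCard g)
      have : r ∈ Nat.primeFactors 7920 := Nat.mem_primeFactors.2 ⟨hr, hr', by norm_num⟩
      rw [show Nat.primeFactors 7920 = {2, 3, 5, 11} by decide +kernel] at this
      simp only [Finset.mem_insert, Finset.mem_singleton] at this
      rcases this with rfl | rfl | rfl | rfl
      exacts [h2 hrd, h3 hrd, h5 hrd, h11 hrd]
    have h1A : (1 : G) ∉ A := by simp [hA]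
    have h1F : (1 : G) ∉ F := by simp [hF]
    have h1T : (1 : G) ∉ T := by simp [hT]
    have hAF : Disjoint A F := Finset.disjoint_filter.2 fun g _ h1 h2 => by omega
    have hAT : Disjoint A T := Finset.disjoint_filter.2 fun g _ h1 h2 => by rw [h1] at h2; norm_num at h2
    have hFT : Disjoint F T := Finset.disjoint_filter.2 fun g _ h1 h2 => by rw [h1] at h2; norm_num at h2
    rw [← Finset.sum_subset (Finset.subset_univ (insert 1 (A ∪ F ∪ T))) fun g _ hg => by
      simp only [Finset.mem_insert, Finset.mem_union, not_or] at hg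
      rcases hdisj g with h | h | h | h | h
      exacts [absurd h hg.1, absurd h hg.2.1.1, absurd h hg.2.1.2, absurd h hg.2.2, hev g h]]
    rw [Finset.sum_insert (by simp [h1A, h1F, h1T]),
      Finset.sum_union (Finset.disjoint_union_left.2 ⟨hAT, hFT⟩), Finset.sum_union hAF]
    ring
  have hF1 : ∀ g ∈ F, (y : G → ℂ) g = 1 := fun g hg => trivial_five_value hG D (Finset.mem_filter.1 hg).2
  have hcf : ∀ (χ : IrrCharacter G) (g h : G), (χ : G → ℂ) (h * g * h⁻¹) = (χ : G → ℂ) g := fun χ g h =>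
    χ.2.isClassFunction g h
  have hA1 : ∀ χ : IrrCharacter G, ∑ g ∈ A, (χ : G → ℂ) g =
      144 * ∑ k ∈ Finset.univ.erase (0 : ZMod 11), (χ : G → ℂ) (x ^ k.val) := fun χ => by
    rw [hA, sum_prime_order _ (hcf χ) P (card_sylow_eleven hG P) hx, card_sylow_eleven_eq hG]
    norm_num
  have hA2 : ∑ g ∈ A, ((‖(y : G → ℂ) g‖ ^ 2 : ℝ) : ℂ) = 4320 := by
    rw [hA, sum_prime_order _ (fun g h => by rw [hcf]) P (card_sylow_eleven hG P) hx,
      card_sylow_eleven_eq hG, ← Complex.ofReal_sum, (eleven_values hG D).2 x hx]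
    norm_num
  have hne : y ≠ trivChar G := fun e => by
    have := D.deg_y; rw [show D.E.y₁ = y from rfl, e, deg_trivChar] at this; omega
  -- the sum over the elements of order eleven
  have hS : ∑ k ∈ Finset.univ.erase (0 : ZMod 11), (y : G → ℂ) (x ^ k.val) = -5 := by
    have hS12 : ∑ k ∈ Finset.univ.erase (0 : ZMod 11), (D.E.y₁ : G → ℂ) (x ^ k.val) =
        ∑ k ∈ Finset.univ.erase (0 : ZMod 11), (D.E.y₂ : G → ℂ) (x ^ k.val) := by
      have hne2 : D.E.y₂ ≠ trivChar G := fun e => D.E.y₂_notMem (e.symm ▸ D.E.triv_mem)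
      have hd : ∑ g, ((D.E.y₁ : G → ℂ) g - (D.E.y₂ : G → ℂ) g) = 0 := by
        rw [Finset.sum_sub_distrib, sum_apply_eq_zero hne, sum_apply_eq_zero hne2, sub_zero]
      rw [← Finset.sum_subset (Finset.subset_univ A) fun g _ hg => by
        rw [sub_eq_zero]
        exact D.E.regular g fun h => hg (Finset.mem_filter.2 ⟨Finset.mem_univ _, orderOf_eq_eleven hG h⟩),
        Finset.sum_sub_distrib, hA1, hA1, ← mul_sub, mul_eq_zero] at hd
      exact sub_eq_zero.1 (hd.resolve_left (by norm_num))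
    have hcol : ∀ k ∈ Finset.univ.erase (0 : ZMod 11),
        16 * ((D.E.y₁ : G → ℂ) (x ^ k.val) + (D.E.y₂ : G → ℂ) (x ^ k.val)) = -16 := by
      intro k hk
      have ho : orderOf (x ^ k.val) = 11 := by
        have hxp : x ^ 11 = 1 := hx ▸ pow_orderOf_eq_one x
        refine orderOf_eq_prime (by rw [← pow_mul, mul_comm, pow_mul, hxp, one_pow])
          fun e => (Finset.mem_erase.1 hk).1 ?_
        have h := orderOf_dvd_of_pow_eq_one e
        rw [hx] at h
        exact (ZMod.val_eq_zero k).1 (Nat.eq_zero_of_dvd_of_lt h k.val_lt)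
      have hg1 : x ^ k.val ≠ 1 := fun e => by rw [e, orderOf_one] at ho; norm_num at ho
      have h := sum_column_degree hg1
      rw [← Finset.sum_subset (Finset.subset_univ (insert D.E.y₁ (insert D.E.y₂ D.E.X))) fun χ _ hχ => by
        simp only [Finset.mem_insert, not_or] at hχ
        rw [((eleven_values hG D).1 χ hχ.2.2 hχ.1 hχ.2.1).1 _ ho, mul_zero],
        Finset.sum_insert (by simp [D.E.ne, D.E.y₁_notMem]), Finset.sum_insert D.E.y₂_notMem,
        Finset.sum_congr rfl fun χ hχ => show (deg χ : ℂ) * (χ : G → ℂ) (x ^ k.val) = ((deg χ * D.E.σ χ : ℤ) : ℂ) by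
          rw [D.E.value χ hχ _ ho]; push_cast; ring,
        ← Int.cast_sum, ElevenBlock.deg_y_eq hG D.E, D.deg_y] at h
      have hsum := ElevenBlock.sum_deg hG D.E
      rw [D.rho, D.deg_y] at hsum
      have hs16 : ∑ χ ∈ D.E.X, (deg χ : ℤ) * D.E.σ χ = 16 := by
        rw [Finset.sum_congr rfl fun χ _ => mul_comm (deg χ : ℤ) (D.E.σ χ)]
        push_cast at hsum
        linarith
      rw [hs16] at h
      push_cast at h
      linear_combination h
    have htot := Finset.sum_congr rfl hcol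
    rw [← Finset.mul_sum, Finset.sum_add_distrib, ← hS12, Finset.sum_const,
      Finset.card_erase_of_mem (Finset.mem_univ _), Finset.card_univ, ZMod.card, nsmul_eq_mul] at htot
    push_cast at htot
    linear_combination htot / 32
  have hy1 : (y : G → ℂ) 1 = 16 := by rw [apply_one, D.deg_y]; norm_num
  constructor
  · have h := hsplit (y : G → ℂ) fun g h => even_value hG D h
    rw [sum_apply_eq_zero hne, hy1, hA1, hS, Finset.sum_congr rfl hF1, Finset.sum_const,
      card_order_five hG, nsmul_eq_mul] at h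
    push_cast at h
    linear_combination -h
  · have h := hsplit (fun g => ((‖(y : G → ℂ) g‖ ^ 2 : ℝ) : ℂ)) fun g h => by simp [even_value hG D h, y]
    rw [← Complex.ofReal_sum, sum_normSq, hG.2, hA2, Finset.sum_congr rfl fun g hg => by
      rw [hF1 g hg, norm_one, one_pow, Complex.ofReal_one], Finset.sum_const, card_order_five hG, hy1,
      ← Complex.ofReal_sum] at h
    norm_num at h
    have h' : ((1760 : ℝ) : ℂ) = ((∑ g ∈ T, ‖(y : G → ℂ) g‖ ^ 2 : ℝ) : ℂ) := by
      push_cast
      linear_combination h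
    exact_mod_cast h'.symm

end Cfsg.Lib.MEleven
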