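import Cfsg.Agent.Lib.MEleven.Degrees
import Mathlib.RingTheory.IntegralDomain

/-!
The prime 5 in a simple group of order 7920, and the exclusion of a character of degree 5.
-/

set_option autoImplicit false
set_option linter.style.haveILetI false
set_option linter.unusedSectionVars false

namespace Cfsg.Lib.MEleven

open Cfsg Cfsg.Lib.Char Cfsg.Lib.Block
open scoped ComplexConjugate

universe u

noncomputable local instance (priority := high) fintypeSubgroupMElevenFive {A : Type u}
    [Group A] [Fintype A] (H : Subgroup A) : Fintype H := Fintype.ofFinite H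

variable {G : Type u} [Group G] [Fintype G] (hG : IsM11 G)

include hG

theorem eq_one_of_norm_eq_deg {χ : IrrCharacter G} (hχ : χ ≠ trivChar G) {v : G}
    (hv : ‖(χ : G → ℂ) v‖ = (deg χ : ℝ)) : v = 1 := by
  haveI := hG.1
  obtain ⟨n, ρ, hρ, hc⟩ := χ.2
  haveI := hρ
  have hfr : (Module.finrank ℂ (Fin n → ℂ)) = deg χ := by
    have h := apply_one χ
    rw [← hc, Representation.char_one] at h
    exact_mod_cast h
  obtain ⟨c, hcv⟩ := (norm_character_eq_iff ρ v).1 (by rw [hc, hv, hfr])
  have hker : ∀ g, g * v * g⁻¹ * v⁻¹ ∈ charKer χ.2.isCharacter := fun g => by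
    have hcomm : ρ g * ρ v = ρ v * ρ g := by
      rw [hcv]
      exact LinearMap.ext fun w => by simp
    rw [mem_charKer, ← hc]
    show LinearMap.trace ℂ _ (ρ (g * v * g⁻¹ * v⁻¹)) = LinearMap.trace ℂ _ (ρ 1)
    have e : ρ (g * v * g⁻¹ * v⁻¹) = ρ 1 := by
      rw [map_mul ρ (g * v * g⁻¹), map_mul ρ (g * v), map_mul ρ g, hcomm, mul_assoc (ρ v), ← map_mul ρ g,
        mul_inv_cancel, map_one, mul_one, ← map_mul, mul_inv_cancel, map_one]
    rw [e]
  haveI := charKer_normal χ.2.isCharacter
  rcases (inferInstance : (charKer χ.2.isCharacter).Normal).eq_bot_or_eq_top with hk | hk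
  · have hcen : v ∈ Subgroup.center G := Subgroup.mem_center_iff.2 fun g => by
      have h := hker g
      rw [hk, Subgroup.mem_bot, mul_inv_eq_one, mul_inv_eq_iff_eq_mul] at h
      exact h
    rwa [center_eq_bot hG, Subgroup.mem_bot] at hcen
  · exfalso
    have hall : ∀ g, (χ : G → ℂ) g = (χ : G → ℂ) 1 := fun g => by
      have h : g ∈ charKer χ.2.isCharacter := hk ▸ Subgroup.mem_top g
      exact h
    have h := sum_apply_eq_zero hχ
    simp only [hall, Finset.sum_const, Finset.card_univ, nsmul_eq_mul, mul_eq_zero, Nat.cast_eq_zero,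
      Fintype.card_ne_zero, false_or] at h
    exact χ.2.apply_one_ne_zero h

/-- If a Sylow subgroup of prime order has an automiser of full size, its generators are conjugate. -/
theorem isConj_pow_of_full {p : ℕ} [Fact p.Prime] {q : G} (hq : orderOf q = p)
    (hfull : (Nat.card (Subgroup.centralizer ({q} : Set G))) * (p - 1) =
      Nat.card (Subgroup.normalizer ((Subgroup.zpowers q : Subgroup G) : Set G)))
    {i : ℕ} (hi : ¬ p ∣ i) : IsConj q (q ^ i) := by
  set Q := Subgroup.zpowers q with hQ
  have hcard : Nat.card Q = p := by rw [hQ, Nat.card_zpowers, hq]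
  set φ := Q.normalizerMonoidHom
  have hr : Nat.card φ.range = p - 1 := by
    have hk : φ.ker = (Subgroup.centralizer (Q : Set G)).subgroupOf (Subgroup.normalizer (Q : Set G)) :=
      Q.normalizerMonoidHom_ker
    have h := φ.ker.index_mul_card
    have hkc : Nat.card φ.ker = Nat.card (Subgroup.centralizer ({q} : Set G)) := by
      rw [hk, Nat.card_congr (Subgroup.subgroupOfEquivOfLe (Subgroup.centralizer_le_normalizer _)).toEquiv,
        hQ, Small.centralizer_zpowers]
    rw [Subgroup.index_ker, hkc, ← hfull, mul_comm] at h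
    exact Nat.eq_of_mul_eq_mul_left Nat.card_pos h
  haveI : IsCyclic Q := isCyclic_of_prime_card hcard
  have htop : φ.range = ⊤ := Subgroup.eq_top_of_card_eq _ (by
    rw [hr, IsCyclic.card_mulAut, hcard, Nat.totient_prime Fact.out])
  have hcop : (Nat.card Q).Coprime i := by
    rw [hcard]
    exact (Fact.out : p.Prime).coprime_iff_not_dvd.2 hi
  let α : MulAut Q := MulEquiv.mk' (powCoprime hcop) fun a b =>
    Commute.mul_pow (Subtype.ext (by
      obtain ⟨j, hj⟩ := Subgroup.mem_zpowers_iff.1 a.2
      obtain ⟨k, hk⟩ := Subgroup.mem_zpowers_iff.1 b.2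
      rw [Subgroup.coe_mul, Subgroup.coe_mul, ← hj, ← hk, ← zpow_add, ← zpow_add, add_comm])) i
  obtain ⟨n, hn⟩ : ∃ n, φ n = α := MonoidHom.mem_range.1 (htop ▸ Subgroup.mem_top α)
  refine isConj_iff.2 ⟨(n : G), ?_⟩
  have h := congrArg (fun β : MulAut Q => ((β ⟨q, Subgroup.mem_zpowers q⟩ : Q) : G)) hn
  simp only [φ, Subgroup.normalizerMonoidHom_apply_apply_coe] at h
  exact h

section

variable [Fact (Nat.Prime 5)]

theorem card_sylow_five (Q : Sylow 5 G) : Nat.card (Q : Subgroup G) = 5 := by
  rw [Small.card_sylow 1 1584 (by rw [hG.2]; norm_num) (by decide) Q, pow_one]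

theorem factorization_five : (Nat.card G).factorization 5 = 1 := by
  obtain ⟨Q⟩ : Nonempty (Sylow 5 G) := inferInstance
  have h := card_sylow_five hG Q
  rw [Q.card_eq_multiplicity] at h
  exact (Nat.pow_eq_self_iff (by norm_num : 1 < 5)).1 h

theorem apply_eq_zero_five {χ : IrrCharacter G} (h : 5 ∣ deg χ) {g : G} (hg : 5 ∣ orderOf g) :
    (χ : G → ℂ) g = 0 := by
  refine apply_eq_zero_of_defectZero (p := 5) χ ?_ hg
  refine le_antisymm ?_ ?_
  · exact (Nat.factorization_le_iff_dvd (charDegree_pos χ).ne' Nat.card_pos.ne').2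
      (charDegree_dvd_card χ.2) 5
  · rw [factorization_five hG]
    exact Nat.Prime.factorization_pos_of_dvd Fact.out (charDegree_pos χ).ne' h

theorem zpowers_five {q : G} (hq : orderOf q = 5) :
    ∃ Q : Sylow 5 G, (Q : Subgroup G) = Subgroup.zpowers q :=
  have h : Nat.card (Subgroup.zpowers q) = 5 ^ (Nat.card G).factorization 5 := by
    rw [Nat.card_zpowers, hq, factorization_five hG, pow_one]
  ⟨Sylow.ofCard _ h, rfl⟩

/-- The possible orders of the normaliser of a subgroup of order 5. -/
theorem five_cases [Fact (Nat.Prime 11)] {q : G} (hq : orderOf q = 5) :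
    ∃ k : ℕ, k ∣ 4 ∧ 1 < k ∧ 5 ∣ Nat.card (Subgroup.centralizer ({q} : Set G)) ∧
      k * Nat.card (Subgroup.centralizer ({q} : Set G)) =
        Nat.card (Subgroup.normalizer ((Subgroup.zpowers q : Subgroup G) : Set G)) ∧
      Nat.card (Subgroup.normalizer ((Subgroup.zpowers q : Subgroup G) : Set G)) ∈
        ({720, 495, 120, 45, 20} : Finset ℕ) := by
  haveI := hG.1
  obtain ⟨Q, hQ⟩ := zpowers_five hG hq
  have hC : Subgroup.centralizer ((Q : Subgroup G) : Set G) = Subgroup.centralizer ({q} : Set G) := by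
    rw [hQ, Small.centralizer_zpowers]
  set k := (Subgroup.centralizer ((Q : Subgroup G) : Set G)).relIndex
    (Subgroup.normalizer ((Q : Subgroup G) : Set G))
  have hk : k ∣ 4 := Small.relIndex_centralizer_dvd (Q : Subgroup G) (card_sylow_five hG Q)
  have hkc : k * Nat.card (Subgroup.centralizer ({q} : Set G)) =
      Nat.card (Subgroup.normalizer ((Subgroup.zpowers q : Subgroup G) : Set G)) := by
    have h := Subgroup.index_mul_card ((Subgroup.centralizer ((Q : Subgroup G) : Set G)).subgroupOf
      (Subgroup.normalizer ((Q : Subgroup G) : Set G)))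
    have h3 : Nat.card ((Subgroup.centralizer ((Q : Subgroup G) : Set G)).subgroupOf
        (Subgroup.normalizer ((Q : Subgroup G) : Set G))) = Nat.card (Subgroup.centralizer ({q} : Set G)) :=
      (Nat.card_congr (Subgroup.subgroupOfEquivOfLe (Subgroup.centralizer_le_normalizer _)).toEquiv).trans
        (by rw [hC])
    rw [h3] at h
    rw [← hQ]
    exact h
  have hne : ¬ Subgroup.normalizer ((Q : Subgroup G) : Set G) ≤
      Subgroup.centralizer ((Q : Subgroup G) : Set G) :=
    Small.not_normalizer_le_centralizer (not_cyclic hG) Q (fun e => by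
      have := card_sylow_five hG Q
      rw [e, Subgroup.card_bot] at this
      omega)
  have hk1 : 1 < k := by
    rcases Nat.lt_or_ge 1 k with h | h
    · exact h
    · exfalso
      have hk0 : 0 < k := Nat.pos_of_dvd_of_pos hk (by norm_num)
      exact hne (Subgroup.relIndex_eq_one.1 (by omega : k = 1))
  have h5 : 5 ∣ Nat.card (Subgroup.centralizer ({q} : Set G)) := by
    rw [← hq, ← Nat.card_zpowers]
    refine Subgroup.card_dvd_of_le (Subgroup.zpowers_le.2 ?_)
    exact Subgroup.mem_centralizer_singleton_iff.2 rfl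
  refine ⟨k, hk, hk1, h5, hkc, ?_⟩
  have hf := Small.sylow_facts (G := G) (p := 5) 1 1584 (by rw [hG.2]; norm_num) (by decide)
  have hmul := Small.card_normalizer_mul Q
  rw [hQ, hG.2] at hmul
  have hne1 : Nat.card (Sylow 5 G) ≠ 1 := by
    intro h1
    rw [h1, one_mul] at hmul
    have htop : Subgroup.normalizer ((Subgroup.zpowers q : Subgroup G) : Set G) = ⊤ :=
      Subgroup.eq_top_of_card_eq _ (by rw [hmul, hG.2])
    rcases (Subgroup.normalizer_eq_top_iff.1 htop).eq_bot_or_eq_top with e | e
    · rw [Subgroup.zpowers_eq_bot.1 e, orderOf_one] at hq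
      omega
    · have h2 := congrArg (fun H : Subgroup G => Nat.card H) e
      simp only [Nat.card_zpowers, hq] at h2
      rw [Nat.card_congr Subgroup.topEquiv.toEquiv, hG.2] at h2
      omega
  have hmem : Nat.card (Sylow 5 G) ∈ (Nat.divisors 1584).filter (fun n => n % 5 = 1) :=
    Finset.mem_filter.2 ⟨Nat.mem_divisors.2 ⟨hf.1, by norm_num⟩, hf.2⟩
  rw [show (Nat.divisors 1584).filter (fun n => n % 5 = 1) = {1, 6, 11, 16, 36, 66, 176, 396} by
    decide +kernel] at hmem
  simp only [Finset.mem_insert, Finset.mem_singleton] at hmem ⊢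
  have hle : Nat.card (Subgroup.normalizer ((Subgroup.zpowers q : Subgroup G) : Set G)) ≤ 720 := by
    refine card_le_of_ne_top hG fun htop => ?_
    rw [htop, Nat.card_congr Subgroup.topEquiv.toEquiv, hG.2] at hmul
    omega
  have h11 : ¬ 11 ∣ Nat.card (Subgroup.centralizer ({q} : Set G)) := fun h => by
    obtain ⟨⟨x, hxC⟩, hx⟩ := exists_prime_orderOf_dvd_card' 11 h
    rw [Subgroup.orderOf_mk] at hx
    have hd := Subgroup.orderOf_dvd_natCard _ (Subgroup.mem_centralizer_singleton_iff.2
      (Subgroup.mem_centralizer_singleton_iff.1 hxC).symm : q ∈ Subgroup.centralizer ({x} : Set G))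
    rw [card_centralizer_eleven hG hx, hq] at hd
    norm_num at hd
  have hk' : k = 2 ∨ k = 4 := by
    have := Nat.le_of_dvd (by norm_num) hk
    obtain ⟨j, hj⟩ := hk
    rcases (show k = 2 ∨ k = 3 ∨ k = 4 by omega) with h | h | h
    · exact Or.inl h
    · rw [h] at hj; omega
    · exact Or.inr h
  rcases hmem with e | e | e | e | e | e | e | e <;> rw [e] at hmul
  · omega
  · omega
  · omega
  · omega
  · exfalso
    apply h11
    rcases hk' with h | h <;> rw [h] at hkc <;> omega
  · omega
  · omega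
  · omega

variable [Fact (Nat.Prime 11)]

omit [Fact (Nat.Prime 5)] in
theorem orderOf_eq_eleven {g : G} (h : 11 ∣ orderOf g) : orderOf g = 11 := by
  set x := g ^ (orderOf g / 11) with hxdef
  have hx : orderOf x = 11 := orderOf_pow_orderOf_div (orderOf_pos g).ne' h
  have hmem : g ∈ Subgroup.centralizer ({x} : Set G) :=
    Subgroup.mem_centralizer_singleton_iff.2 ((Commute.refl g).pow_right _).eq
  have hdvd := Subgroup.orderOf_dvd_natCard _ hmem
  rw [card_centralizer_eleven hG hx] at hdvd
  exact Nat.dvd_antisymm hdvd h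

omit hG [Fact (Nat.Prime 11)] in
theorem five_dvd_orderOf {q v : G} (hq : orderOf q = 5) (hc : Commute q v) (hv : ¬ 5 ∣ orderOf v) {i : ℕ}
    (hi : ¬ 5 ∣ i) : 5 ∣ orderOf (q ^ i * v) := by
  have hord : orderOf (q ^ i) = 5 := by
    refine orderOf_eq_prime (by rw [← pow_mul, mul_comm, pow_mul, ← hq, pow_orderOf_eq_one, one_pow])
      fun e => hi ?_
    rw [← hq]; exact orderOf_dvd_of_pow_eq_one e
  rw [(hc.pow_left i).orderOf_mul_eq_mul_orderOf_of_coprime
    (by rw [hord]; exact (Fact.out : Nat.Prime 5).coprime_iff_not_dvd.2 hv), hord]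
  exact dvd_mul_right _ _

omit [Fact (Nat.Prime 11)] in
theorem no_commuting_of_degree_five {χ : IrrCharacter G} (h5 : deg χ = 5) {q : G} (hq : orderOf q = 5)
    {r : ℕ} [Fact r.Prime] (hr : r ≠ 5) {v : G} (hv : orderOf v = r) (hc : Commute q v) : False := by
  classical
  haveI : NeZero r := ⟨(Fact.out : r.Prime).ne_zero⟩
  have hne : χ ≠ trivChar G := fun e => by
    rw [e] at h5
    have : deg (trivChar G) = 1 :=
      charDegree_eq_of_apply_one (χ := ((trivChar G : IrrCharacter G) : G → ℂ)) (n := 1)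
        (by rw [trivChar_coe, Nat.cast_one])
    omega
  have hvr : v ^ r = 1 := hv ▸ pow_orderOf_eq_one v
  have hcard : Nat.card (Subgroup.zpowers q) = 5 := by rw [Nat.card_zpowers, hq]
  have hvan : ∀ k : ℕ, ∀ w ∈ Subgroup.zpowers q, w ≠ 1 → (χ : G → ℂ) (v ^ k * w) = 0 := by
    intro k w hw hw1
    obtain ⟨i, rfl⟩ := mem_powers_iff_mem_zpowers.2 hw
    refine apply_eq_zero_five hG h5.symm.dvd ?_
    show 5 ∣ orderOf (v ^ k * q ^ i)
    rw [((hc.pow_pow i k).symm).eq]
    refine five_dvd_orderOf hq (hc.pow_right k) (fun h => hr ?_) fun h => hw1 ?_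
    · have := h.trans (orderOf_pow_dvd k)
      rw [hv] at this
      exact ((Nat.prime_dvd_prime_iff_eq (Fact.out : Nat.Prime 5) Fact.out).1 this).symm
    · obtain ⟨j, rfl⟩ := h
      show q ^ (5 * j) = 1
      rw [pow_mul, ← hq, pow_orderOf_eq_one, one_pow]
  choose n hn using MathieuBlock.exists_coeff χ.2.isCharacter hvr (Subgroup.zpowers q)
    (fun w hw => by
      obtain ⟨i, rfl⟩ := mem_powers_iff_mem_zpowers.2 hw
      exact (hc.pow_left i).symm) hvan
  have htot : ∑ j : ZMod r, n j = 1 := by
    have h : (∑ j : ZMod r, ∑ k : ZMod r, (χ : G → ℂ) (v ^ k.val) * ZMod.stdAddChar (-(j * k))) =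
        ∑ j : ZMod r, ((r * Nat.card (Subgroup.zpowers q) * n j : ℕ) : ℂ) := Finset.sum_congr rfl fun j _ => hn j
    rw [Finset.sum_comm] at h
    have hprim := ZMod.isPrimitive_stdAddChar r
    have hone : ∀ k : ZMod r, ∑ j : ZMod r, ZMod.stdAddChar (-(j * k)) = if k = 0 then (r : ℂ) else 0 := by
      intro k
      have h1 := AddChar.sum_mulShift (R := ZMod r) (b := -k) hprim
      simp only [mul_neg, neg_eq_zero, ZMod.card] at h1
      rw [h1]
      push_cast
      rfl
    simp only [← Finset.mul_sum, hone, mul_ite, mul_zero, Finset.sum_ite_eq', Finset.mem_univ, if_true,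
      ZMod.val_zero, pow_zero, apply_one, h5, hcard] at h
    rw [← Nat.cast_sum, ← Finset.mul_sum] at h
    have h' : (5 * r : ℕ) = r * 5 * ∑ j, n j := by exact_mod_cast h
    have hr0 : 0 < r * 5 := Nat.mul_pos (Fact.out : r.Prime).pos (by norm_num)
    nlinarith
  obtain ⟨j, hj⟩ : ∃ j, n j = 1 := by
    by_contra hno
    push Not at hno
    have h0 : ∀ j, n j = 0 := fun j => by
      have := Finset.single_le_sum (fun i _ => Nat.zero_le (n i)) (Finset.mem_univ j)
      have := hno j
      omega
    simp [h0] at htot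
  have h := hn j
  rw [hj, hcard, mul_one] at h
  have hle : ∀ k : ZMod r, ((χ : G → ℂ) (v ^ k.val) * ZMod.stdAddChar (-(j * k))).re ≤ 5 := by
    intro k
    refine (Complex.re_le_norm _).trans ?_
    rw [norm_mul, AddChar.norm_apply, mul_one]
    refine (χ.2.isCharacter.norm_le _).trans ?_
    rw [apply_one, h5]
    simp
  have hre : ∑ k : ZMod r, ((χ : G → ℂ) (v ^ k.val) * ZMod.stdAddChar (-(j * k))).re =
      ∑ _k : ZMod r, (5 : ℝ) := by
    rw [← Complex.re_sum, h, Finset.sum_const, Finset.card_univ, ZMod.card, nsmul_eq_mul]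
    push_cast
    simp
  have heq := (Finset.sum_eq_sum_iff_of_le fun k _ => hle k).1 hre 1 (Finset.mem_univ _)
  haveI : Fact (1 < r) := ⟨(Fact.out : r.Prime).one_lt⟩
  have h5' : (5 : ℝ) ≤ ‖(χ : G → ℂ) v‖ := by
    refine heq.ge.trans ((Complex.re_le_norm _).trans ?_)
    rw [norm_mul, AddChar.norm_apply, mul_one, ZMod.val_one, pow_one]
  have hv1 := eq_one_of_norm_eq_deg hG hne (v := v) (le_antisymm
    (by simpa [apply_one] using χ.2.isCharacter.norm_le v) (by rw [h5]; exact_mod_cast h5'))
  rw [hv1, orderOf_one] at hv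
  exact (Fact.out : r.Prime).ne_one hv.symm

theorem isConj_pow_five_of_twenty {q : G} (hq : orderOf q = 5)
    (hC : Nat.card (Subgroup.centralizer ({q} : Set G)) = 5)
    (hN : Nat.card (Subgroup.normalizer ((Subgroup.zpowers q : Subgroup G) : Set G)) = 20)
    {i : ℕ} (hi : ¬ 5 ∣ i) : IsConj q (q ^ i) :=
  isConj_pow_of_full hG hq (by rw [hC, hN]) hi

theorem value_five {q : G} (hq : orderOf q = 5)
    (hC : Nat.card (Subgroup.centralizer ({q} : Set G)) = 5)
    (hN : Nat.card (Subgroup.normalizer ((Subgroup.zpowers q : Subgroup G) : Set G)) = 20)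
    (χ : IrrCharacter G) : ∃ m : ℤ, (χ : G → ℂ) q = m ∧ (5 : ℤ) ∣ m - (deg χ : ℤ) := by
  obtain ⟨m, hm⟩ := exists_int_value χ (g := q) fun k hk => by
    refine isConj_pow_five_of_twenty hG hq hC hN fun h5 => ?_
    have hd : 5 ∣ Nat.card G := by rw [hG.2]; norm_num
    have := Nat.dvd_gcd h5 hd
    rw [hk.gcd_eq_one] at this
    omega
  exact ⟨m, hm, int_modEq_deg (p := 5) χ (k := 1) (by rw [hq, pow_one]) hm⟩

/-- A subgroup of order 5 is self-centralising with normaliser of order 20, and the degrees at 11. -/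
theorem five_facts (E : ElevenBlock G) {q : G} (hq : orderOf q = 5) :
    Nat.card (Subgroup.centralizer ({q} : Set G)) = 5 ∧
      Nat.card (Subgroup.normalizer ((Subgroup.zpowers q : Subgroup G) : Set G)) = 20 ∧
      deg E.y₁ = 16 := by
  classical
  obtain ⟨k, hk, hk1, h5, hkc, hN⟩ := five_cases hG hq
  have hk24 : k = 2 ∨ k = 4 := by
    have := Nat.le_of_dvd (by norm_num) hk
    interval_cases k <;> first | omega | norm_num at hk
  simp only [Finset.mem_insert, Finset.mem_singleton] at hN
  obtain ⟨hρ, ⟨hy, a, b, c, d, hab, -, hX, ha, hb, -, -⟩ | ⟨hy, f, t₁, t₂, t₃, hX, hf, h1, h2, h3⟩⟩ :=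
    ElevenBlock.degree_cases hG E
  · exfalso
    have hC : Nat.card (Subgroup.centralizer ({q} : Set G)) = 5 := by
      set C := Subgroup.centralizer ({q} : Set G)
      by_contra hne
      obtain ⟨m, hm⟩ := h5
      have hm1 : m ≠ 1 := fun e => hne (by rw [hm, e])
      obtain ⟨r, hr, hrm⟩ := Nat.exists_prime_and_dvd hm1
      haveI : Fact r.Prime := ⟨hr⟩
      have hrC : r ∣ Nat.card C := hm ▸ dvd_mul_of_dvd_right hrm 5
      have hr5 : r ≠ 5 := by
        rintro rfl
        have h25 : 25 ∣ Nat.card C := by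
          rw [hm]; exact Nat.mul_dvd_mul_left 5 hrm
        have := h25.trans (Subgroup.card_subgroup_dvd_card C)
        rw [hG.2] at this
        norm_num at this
      obtain ⟨⟨v, hvC⟩, hv⟩ := exists_prime_orderOf_dvd_card' r hrC
      rw [Subgroup.orderOf_mk] at hv
      exact no_commuting_of_degree_five hG hy hq hr5 hv (Subgroup.mem_centralizer_singleton_iff.1 hvC).symm
    have hN20 : Nat.card (Subgroup.normalizer ((Subgroup.zpowers q : Subgroup G) : Set G)) = 20 := by
      rcases hk24 with rfl | rfl <;> omega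
    have hsq := sum_column_normSq q
    rw [hC] at hsq
    have hsum : ∑ χ ∈ ({trivChar G, a, b} : Finset (IrrCharacter G)), ‖(χ : G → ℂ) q‖ ^ 2 ≤ (5 : ℝ) := by
      refine le_of_le_of_eq (Finset.sum_le_sum_of_subset_of_nonneg (Finset.subset_univ _)
        fun _ _ _ => sq_nonneg _) (by rw [hsq]; norm_num)
    have hda : a ≠ trivChar G := fun e => by
      have := ha; rw [e] at this
      have ht : deg (trivChar G) = 1 :=
        charDegree_eq_of_apply_one (χ := ((trivChar G : IrrCharacter G) : G → ℂ)) (n := 1)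
          (by rw [trivChar_coe, Nat.cast_one])
      omega
    have hdb : b ≠ trivChar G := fun e => by
      have := hb; rw [e] at this
      have ht : deg (trivChar G) = 1 :=
        charDegree_eq_of_apply_one (χ := ((trivChar G : IrrCharacter G) : G → ℂ)) (n := 1)
          (by rw [trivChar_coe, Nat.cast_one])
      omega
    obtain ⟨ma, hma, hma5⟩ := value_five hG hq hC hN20 a
    obtain ⟨mb, hmb, hmb5⟩ := value_five hG hq hC hN20 b
    rw [Finset.sum_insert (by simp [hda.symm, hdb.symm]), Finset.sum_pair hab, trivChar_coe, hma, hmb,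
      Complex.norm_intCast, Complex.norm_intCast, norm_one, one_pow, sq_abs, sq_abs] at hsum
    rw [ha] at hma5; rw [hb] at hmb5
    have hA : 4 ≤ ma ^ 2 := by
      rcases le_or_gt 2 ma with h | h
      · nlinarith
      · have : ma ≤ -2 := by omega
        nlinarith
    have hB : 4 ≤ mb ^ 2 := by
      rcases le_or_gt 2 mb with h | h
      · nlinarith
      · have : mb ≤ -2 := by omega
        nlinarith
    have hA' : (4 : ℝ) ≤ (ma : ℝ) ^ 2 := by exact_mod_cast hA
    have hB' : (4 : ℝ) ≤ (mb : ℝ) ^ 2 := by exact_mod_cast hB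
    linarith
  · have hodd : ¬ 2 ∣ Nat.card (Subgroup.centralizer ({q} : Set G)) := by
      intro h2'
      haveI : Fact (Nat.Prime 2) := ⟨Nat.prime_two⟩
      obtain ⟨⟨v, hvC⟩, hv⟩ := exists_prime_orderOf_dvd_card' 2 h2'
      rw [Subgroup.orderOf_mk] at hv
      have hc : Commute q v := (Subgroup.mem_centralizer_singleton_iff.1 hvC).symm
      have hg5 : 5 ∣ orderOf (q ^ 1 * v) := five_dvd_orderOf hq hc (by rw [hv]; norm_num) (by norm_num)
      rw [pow_one] at hg5
      have hg2 : 2 ∣ orderOf (q * v) := by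
        rw [hc.orderOf_mul_eq_mul_orderOf_of_coprime (by rw [hq, hv]; norm_num), hv]
        exact dvd_mul_left _ _
      have h11 : ¬ 11 ∣ orderOf (q * v) := fun h => by
        rw [orderOf_eq_eleven hG h] at hg2
        omega
      have hrel := E.relation (q * v) h11
      have hz : ∀ χ : IrrCharacter G, 5 ∣ deg χ → (χ : G → ℂ) (q * v) = 0 := fun χ h =>
        apply_eq_zero_five hG h hg5
      have hy0 : (E.y₁ : G → ℂ) (q * v) = 0 := by
        refine apply_eq_zero_of_defectZero (p := 2) E.y₁ ?_ hg2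
        rw [hy, hG.2, show 7920 = 2 ^ 4 * 495 from rfl, Nat.factorization_mul (by norm_num) (by norm_num),
          Finsupp.add_apply, Nat.factorization_eq_zero_of_not_dvd (by norm_num : ¬ 2 ∣ 495), add_zero,
          show (16 : ℕ) = 2 ^ 4 from rfl]
      rw [hy0, mul_zero, zero_add, hX] at hrel
      have hrest : ∀ χ ∈ ({f, t₁, t₂, t₃} : Finset (IrrCharacter G)), (χ : G → ℂ) (q * v) = 0 := by
        intro χ hχ
        simp only [Finset.mem_insert, Finset.mem_singleton] at hχ
        rcases hχ with rfl | rfl | rfl | rfl <;> apply hz <;> omega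
      have htne : trivChar G ∉ ({f, t₁, t₂, t₃} : Finset (IrrCharacter G)) := fun h => by
        have := hrest _ h
        rw [trivChar_coe] at this
        exact one_ne_zero this
      rw [Finset.sum_insert htne, Finset.sum_eq_zero (fun χ hχ => by rw [hrest χ hχ, mul_zero]),
        trivChar_coe, E.σ_triv] at hrel
      simp at hrel
    have h20 : Nat.card (Subgroup.centralizer ({q} : Set G)) = 5 ∧
        Nat.card (Subgroup.normalizer ((Subgroup.zpowers q : Subgroup G) : Set G)) = 20 := by
      rcases hk24 with rfl | rfl <;> rcases hN with e | e | e | e | e <;> omega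
    exact ⟨h20.1, h20.2, hy⟩

end

end Cfsg.Lib.MEleven
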