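import Cfsg.Agent.Lib.MEleven.Fusion

/-!
A subgroup of index 11 in a simple group of order 7920, from the fixed spaces of a character of degree 10.
-/

set_option autoImplicit false
set_option linter.style.haveILetI false
set_option linter.unusedSectionVars false

namespace Cfsg.Lib.MEleven

open Cfsg Cfsg.Lib.Char Cfsg.Lib.Block

universe u

noncomputable local instance (priority := high) fintypeSubgroupMElevenIndex {A : Type u}
    [Group A] [Fintype A] (H : Subgroup A) : Fintype H := Fintype.ofFinite H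

variable {G : Type u} [Group G] [Fintype G]

/-- The product of a subgroup with a subgroup it normalises. -/
def prodNorm (A K : Subgroup G) (h : ∀ a ∈ A, ∀ k ∈ K, a * k * a⁻¹ ∈ K) : Subgroup G where
  carrier := {g | ∃ a ∈ A, a⁻¹ * g ∈ K}
  one_mem' := ⟨1, one_mem _, by simp [one_mem]⟩
  mul_mem' := by
    rintro g g' ⟨a, ha, hk⟩ ⟨b, hb, hk'⟩
    refine ⟨a * b, mul_mem ha hb, ?_⟩
    have e : (a * b)⁻¹ * (g * g') = b⁻¹ * (a⁻¹ * g) * b⁻¹⁻¹ * (b⁻¹ * g') := by group
    rw [e]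
    exact mul_mem (h _ (inv_mem hb) _ hk) hk'
  inv_mem' := by
    rintro g ⟨a, ha, hk⟩
    refine ⟨a⁻¹, inv_mem ha, ?_⟩
    have e : a⁻¹⁻¹ * g⁻¹ = a * (a⁻¹ * g)⁻¹ * a⁻¹ := by group
    rw [e]
    exact h a ha _ (inv_mem hk)

theorem mem_prodNorm {A K : Subgroup G} (h : ∀ a ∈ A, ∀ k ∈ K, a * k * a⁻¹ ∈ K) {g : G} :
    g ∈ prodNorm A K h ↔ ∃ a ∈ A, a⁻¹ * g ∈ K := Iff.rfl

theorem sum_subgroup_eq {H : Subgroup G} {F : Finset G} (hF : ∀ g, g ∈ F ↔ g ∈ H) (f : G → ℂ) :
    ∑ h : H, f h = ∑ g ∈ F, f g :=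
  (Finset.sum_subtype F hF f).symm

/-- The sum of a character twisted by the sign of a subgroup of index two. -/
theorem exists_nat_sum_sign (χ : IrrCharacter G) (A : Subgroup G) (D : Subgroup A) (hD : D.index = 2)
    [DecidablePred (· ∈ D)] :
    ∃ n : ℕ, ∑ a : A, (if a ∈ D then (χ : G → ℂ) a else -(χ : G → ℂ) a) = ((Nat.card A * n : ℕ) : ℂ) := by
  let φ : A →* ℂˣ :=
    { toFun := fun a => if a ∈ D then 1 else -1
      map_one' := by simp [one_mem]
      map_mul' := fun a b => by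
        have h := Subgroup.mul_mem_iff_of_index_two hD (a := a) (b := b)
        by_cases ha : a ∈ D <;> by_cases hb : b ∈ D <;> simp [ha, hb, h] }
  obtain ⟨n, hn⟩ := (χ.2.isCharacter.comp A.subtype).exists_nat_classInner
    (isIrrCharacter_linear φ).isCharacter
  simp only [classInner, Subgroup.subtype_apply] at hn
  rw [inv_mul_eq_iff_eq_mul₀ (card_cast_ne_zero (G := A))] at hn
  refine ⟨n, ?_⟩
  rw [Nat.cast_mul]
  refine Eq.trans (Finset.sum_congr rfl fun a _ => ?_) hn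
  by_cases ha : a ∈ D <;> simp [φ, ha]

variable (hG : IsM11 G) [Fact (Nat.Prime 2)] [Fact (Nat.Prime 3)] [Fact (Nat.Prime 5)] [Fact (Nat.Prime 11)]

include hG

theorem value_involution (T : TwoData G) (χ : IrrCharacter G) {g : G} (hg : g * g = 1) (hg1 : g ≠ 1) :
    (χ : G → ℂ) g = (χ : G → ℂ) T.z := by
  obtain ⟨c, hc⟩ := isConj_iff.1 (isConj_involution hG T
    (orderOf_eq_prime (p := 2) (by rw [pow_two, hg]) hg1))
  rw [← hc, χ.2.isClassFunction]

/-- The four-group `{1, z, t, tz}` and the values of a character on it. -/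
theorem sum_four (T : TwoData G) (χ : IrrCharacter G) :
    ∑ g : ↥(Subgroup.centralizer ({T.z} : Set G) ⊓ Subgroup.centralizer ({T.t} : Set G)), (χ : G → ℂ) g =
      (χ : G → ℂ) 1 + 3 * (χ : G → ℂ) T.z ∧
    Nat.card ↥(Subgroup.centralizer ({T.z} : Set G) ⊓ Subgroup.centralizer ({T.t} : Set G)) = 4 := by
  classical
  set P := Subgroup.centralizer ({T.z} : Set G) ⊓ Subgroup.centralizer ({T.t} : Set G)
  have hmem : ∀ g, g ∈ ({1, T.z, T.t, T.t * T.z} : Finset G) ↔ g ∈ P := by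
    intro g
    constructor
    · intro h
      simp only [Finset.mem_insert, Finset.mem_singleton] at h
      rcases h with rfl | rfl | rfl | rfl
      · exact one_mem _
      · exact ⟨Subgroup.mem_centralizer_singleton_iff.2 rfl,
          Subgroup.mem_centralizer_singleton_iff.2 T.tz_comm.symm⟩
      · exact ⟨Subgroup.mem_centralizer_singleton_iff.2 T.tz_comm,
          Subgroup.mem_centralizer_singleton_iff.2 rfl⟩
      · have ht : T.t ∈ P :=
          ⟨Subgroup.mem_centralizer_singleton_iff.2 T.tz_comm, Subgroup.mem_centralizer_singleton_iff.2 rfl⟩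
        have hz : T.z ∈ P :=
          ⟨Subgroup.mem_centralizer_singleton_iff.2 rfl, Subgroup.mem_centralizer_singleton_iff.2 T.tz_comm.symm⟩
        exact mul_mem ht hz
    · intro h
      simpa using centralizer_four hG T (Subgroup.mem_centralizer_singleton_iff.1 h.1)
        (Subgroup.mem_centralizer_singleton_iff.1 h.2)
  have htz1 : T.t * T.z ≠ 1 := fun e => T.t_ne_z (by
    rw [← mul_one T.t, ← T.z_sq, ← mul_assoc, e, one_mul])
  have hcard : ({1, T.z, T.t, T.t * T.z} : Finset G).card = 4 := by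
    rw [Finset.card_insert_of_notMem (by simp [T.z_ne.symm, T.t_ne.symm, htz1.symm]),
      Finset.card_insert_of_notMem (by simp [T.t_ne_z.symm, T.tz_ne_z.symm]), Finset.card_pair T.t_ne_tz]
  refine ⟨?_, ?_⟩
  · rw [sum_subgroup_eq hmem, Finset.sum_insert (by simp [T.z_ne.symm, T.t_ne.symm, htz1.symm]),
      Finset.sum_insert (by simp [T.t_ne_z.symm, T.tz_ne_z.symm]), Finset.sum_pair T.t_ne_tz,
      value_involution hG T χ T.t_sq T.t_ne, value_involution hG T χ (g := T.t * T.z) (by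
        rw [mul_assoc, ← mul_assoc T.z, ← T.tz_comm, mul_assoc T.t T.z T.z, T.z_sq, mul_one, T.t_sq]) htz1]
    ring
  · rw [← hcard, Nat.card_eq_fintype_card]
    exact Fintype.card_of_subtype _ hmem

/-- The sums of a character over a group of odd-by-2 shape `YA`, by fixed-point-freeness. -/
theorem sum_coset_eq (T : TwoData G) {q : G} (hq : q ∈ Subgroup.normalizer ((T.Y : Subgroup G) : Set G))
    (hfix : ∀ y ∈ (T.Y : Subgroup G), q * y = y * q → y = 1) (χ : IrrCharacter G) :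
    ∑ y : (T.Y : Subgroup G), (χ : G → ℂ) (q * y) = 9 * (χ : G → ℂ) q := by
  classical
  have hn : ∀ y : (T.Y : Subgroup G), q⁻¹ * (y : G)⁻¹ * q * y ∈ (T.Y : Subgroup G) := fun y =>
    mul_mem ((Subgroup.mem_normalizer_iff''.1 hq _).1 (inv_mem y.2)) y.2
  have hinj : Function.Injective fun y : (T.Y : Subgroup G) =>
      (⟨q⁻¹ * (y : G)⁻¹ * q * y, hn y⟩ : (T.Y : Subgroup G)) := by
    intro a b e
    have e' : q⁻¹ * (a : G)⁻¹ * q * a = q⁻¹ * (b : G)⁻¹ * q * b := congrArg Subtype.val e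
    apply Subtype.ext
    refine mul_inv_eq_one.1 (hfix _ (mul_mem a.2 (inv_mem b.2)) ?_)
    calc q * ((a : G) * (b : G)⁻¹) = (a : G) * q * (q⁻¹ * (a : G)⁻¹ * q * a) * (b : G)⁻¹ := by group
      _ = (a : G) * q * (q⁻¹ * (b : G)⁻¹ * q * b) * (b : G)⁻¹ := by rw [e']
      _ = (a : G) * (b : G)⁻¹ * q := by group
  have hv : ∀ y : (T.Y : Subgroup G), (χ : G → ℂ) (q * (q⁻¹ * (y : G)⁻¹ * q * y)) = (χ : G → ℂ) q := by
    intro y
    rw [show q * (q⁻¹ * (y : G)⁻¹ * q * y) = (y : G)⁻¹ * q * (y : G)⁻¹⁻¹ by group]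
    exact χ.2.isClassFunction _ _
  rw [← (Finite.injective_iff_bijective.1 hinj).sum_comp fun y : (T.Y : Subgroup G) => (χ : G → ℂ) (q * y)]
  simp only [hv, Finset.sum_const, Finset.card_univ, nsmul_eq_mul]
  rw [← Nat.card_eq_fintype_card, card_sylow_three hG T.Y]
  norm_num

theorem sum_sylow_three (T : TwoData G) (χ : IrrCharacter G)
    (h3 : ∀ g : G, orderOf g = 3 → (χ : G → ℂ) g = 1) (h10 : deg χ = 10) :
    ∑ y : (T.Y : Subgroup G), (χ : G → ℂ) y = 18 := by
  classical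
  rw [Fintype.sum_eq_add_sum_compl (1 : (T.Y : Subgroup G)), OneMemClass.coe_one, apply_one, h10,
    Finset.sum_congr rfl fun (y : (T.Y : Subgroup G)) hy => h3 (y : G) (orderOf_eq_three hG
      (three_dvd_orderOf hG y.2 (fun e => by simp [Subtype.ext_iff, e] at hy)).1
      (three_dvd_orderOf hG y.2 (fun e => by simp [Subtype.ext_iff, e] at hy)).2),
    Finset.sum_const, Finset.card_compl, Finset.card_singleton, ← Nat.card_eq_fintype_card,
    card_sylow_three hG T.Y]
  norm_num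

theorem int_value_z (T : TwoData G) (χ : IrrCharacter G) : ∃ m : ℤ, (χ : G → ℂ) T.z = m := by
  refine exists_int_value χ fun k hk => ?_
  have hk2 : ¬ 2 ∣ k := fun h => by
    have h' := Nat.dvd_gcd h (show 2 ∣ Nat.card G by rw [hG.2]; norm_num)
    rw [hk.gcd_eq_one] at h'
    omega
  obtain ⟨j, rfl⟩ : ∃ j, k = 2 * j + 1 := ⟨k / 2, by omega⟩
  rw [pow_succ, pow_mul, pow_two, T.z_sq, one_pow, one_mul]

/-- The value of a character of degree 10 at an involution is `-2` or `2`. -/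
theorem ten_z_cases (T : TwoData G) (χ : IrrCharacter G) (h10 : deg χ = 10)
    (h3 : ∀ g : G, orderOf g = 3 → (χ : G → ℂ) g = 1) :
    (χ : G → ℂ) T.z = 2 ∨ (χ : G → ℂ) T.z = -2 := by
  classical
  obtain ⟨m, hm⟩ := int_value_z hG T χ
  obtain ⟨n, hn⟩ := exists_nat_sum χ (Subgroup.centralizer ({T.z} : Set G) ⊓ Subgroup.centralizer ({T.t} : Set G))
  rw [(sum_four hG T χ).1, (sum_four hG T χ).2, apply_one, h10, hm] at hn
  have hn' : (10 : ℤ) + 3 * m = 4 * n := by
    have : ((10 + 3 * m : ℤ) : ℂ) = ((4 * n : ℤ) : ℂ) := by push_cast at hn ⊢; exact hn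
    exact_mod_cast this
  -- the group `Y⟨z⟩`
  have hzN : T.z ∈ Subgroup.normalizer ((T.Y : Subgroup G) : Set G) := T.S_le T.z_mem
  have hnorm : ∀ a ∈ Subgroup.zpowers T.z, ∀ k ∈ (T.Y : Subgroup G), a * k * a⁻¹ ∈ (T.Y : Subgroup G) :=
    fun a ha k hk => (Subgroup.mem_normalizer_iff.1 ((Subgroup.zpowers_le.2 hzN) ha) k).1 hk
  set A := prodNorm (Subgroup.zpowers T.z) (T.Y : Subgroup G) hnorm
  have hzY : T.z ∉ (T.Y : Subgroup G) := fun h => by
    have := Subgroup.orderOf_dvd_natCard _ h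
    rw [orderOf_z hG T, card_sylow_three hG T.Y] at this
    norm_num at this
  have hAmem : ∀ g, g ∈ A ↔ g ∈ (T.Y : Subgroup G) ∨ T.z * g ∈ (T.Y : Subgroup G) := by
    intro g
    rw [mem_prodNorm]
    constructor
    · rintro ⟨a, ha, hk⟩
      obtain ⟨i, rfl⟩ := Subgroup.mem_zpowers_iff.1 ha
      have hz2 : T.z ^ (2 : ℤ) = 1 := by rw [zpow_ofNat, pow_two, T.z_sq]
      rcases Int.even_or_odd' i with ⟨j, rfl | rfl⟩
      · left; rwa [zpow_mul, hz2, one_zpow, inv_one, one_mul] at hk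
      · right
        rwa [zpow_add, zpow_mul, hz2, one_zpow, one_mul, zpow_one, inv_eq_of_mul_eq_one_right T.z_sq] at hk
    · rintro (h | h)
      · exact ⟨1, one_mem _, by rwa [inv_one, one_mul]⟩
      · exact ⟨T.z, Subgroup.mem_zpowers _, by rwa [inv_eq_of_mul_eq_one_right T.z_sq]⟩
  set F := Finset.univ.filter fun g : G => g ∈ (T.Y : Subgroup G)
  set F' := F.map (mulLeftEmbedding T.z)
  have hdisj : Disjoint F F' := by
    rw [Finset.disjoint_left]
    intro g hg hg'
    obtain ⟨y, hy, rfl⟩ := Finset.mem_map.1 hg'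
    simp only [F, Finset.mem_filter, Finset.mem_univ, true_and, mulLeftEmbedding_apply] at hg hy
    exact hzY (by simpa using mul_mem hg (inv_mem hy))
  have hFA : ∀ g, g ∈ F ∪ F' ↔ g ∈ A := by
    intro g
    simp only [hAmem g, Finset.mem_union, F', Finset.mem_map, mulLeftEmbedding_apply, F, Finset.mem_filter,
      Finset.mem_univ, true_and]
    refine or_congr Iff.rfl ⟨?_, fun h => ⟨T.z * g, h, by rw [← mul_assoc, T.z_sq, one_mul]⟩⟩
    rintro ⟨y, hy, rfl⟩
    rwa [← mul_assoc, T.z_sq, one_mul]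
  have hFc : F.card = 9 := by
    rw [← Fintype.card_subtype, ← Nat.card_eq_fintype_card]
    exact card_sylow_three hG T.Y
  have hA18 : Nat.card A = 18 := by
    rw [Nat.card_eq_fintype_card, Fintype.card_of_subtype _ hFA, Finset.card_union_of_disjoint hdisj,
      Finset.card_map, hFc]
  have hidx : ((T.Y : Subgroup G).subgroupOf A).index = 2 := by
    have h := ((T.Y : Subgroup G).subgroupOf A).card_mul_index
    rw [Nat.card_congr (Subgroup.subgroupOfEquivOfLe (fun g hg => (hAmem g).2 (Or.inl hg))).toEquiv,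
      card_sylow_three hG T.Y, hA18] at h
    omega
  obtain ⟨k, hk⟩ := exists_nat_sum_sign χ A _ hidx
  simp only [Subgroup.mem_subgroupOf] at hk
  rw [sum_subgroup_eq hFA (fun g => if g ∈ (T.Y : Subgroup G) then (χ : G → ℂ) g else -(χ : G → ℂ) g),
    Finset.sum_union hdisj, hA18] at hk
  have e1 : ∑ g ∈ F, (if g ∈ (T.Y : Subgroup G) then (χ : G → ℂ) g else -(χ : G → ℂ) g) = 18 := by
    rw [Finset.sum_congr rfl fun g hg => if_pos (Finset.mem_filter.1 hg).2,
      ← sum_subgroup_eq (H := (T.Y : Subgroup G)) (by simp [F])]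
    exact sum_sylow_three hG T χ h3 h10
  have hzfix : ∀ y ∈ (T.Y : Subgroup G), T.z * y = y * T.z → y = 1 := fun y hy h => by
    have hi := T.z_inv y hy
    rw [h, mul_inv_cancel_right] at hi
    by_contra hy1
    refine (three_dvd_orderOf hG hy hy1).2 ?_
    rw [orderOf_eq_prime (p := 2) (by rw [pow_two]; nth_rewrite 2 [hi]; exact mul_inv_cancel _) hy1]
  have e2 : ∑ g ∈ F', (if g ∈ (T.Y : Subgroup G) then (χ : G → ℂ) g else -(χ : G → ℂ) g) =
      -(9 * (m : ℂ)) := by
    rw [Finset.sum_congr rfl fun g hg => if_neg fun h => Finset.disjoint_left.1 hdisj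
      (Finset.mem_filter.2 ⟨Finset.mem_univ _, h⟩) hg, Finset.sum_neg_distrib, Finset.sum_map]
    simp only [mulLeftEmbedding_apply]
    rw [← sum_subgroup_eq (H := (T.Y : Subgroup G)) (by simp [F]) (fun g => (χ : G → ℂ) (T.z * g)),
      sum_coset_eq hG T hzN hzfix χ, hm]
  rw [e1, e2] at hk
  have hk' : (18 : ℤ) - 9 * m = 18 * k := by
    have : ((18 - 9 * m : ℤ) : ℂ) = ((18 * k : ℤ) : ℂ) := by push_cast at hk ⊢; linear_combination hk
    exact_mod_cast this
  have hm2 : m = 2 ∨ m = -2 := by omega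
  rcases hm2 with rfl | rfl
  · exact Or.inl (by rw [hm]; norm_num)
  · exact Or.inr (by rw [hm]; norm_num)

theorem exists_ten : ∃ χ : IrrCharacter G, χ ≠ trivChar G ∧ deg χ = 10 ∧
    (∀ g : G, orderOf g = 3 → (χ : G → ℂ) g = 1) ∧ ∀ T : TwoData G, (χ : G → ℂ) T.z = 2 := by
  classical
  obtain ⟨D⟩ := nonempty_chars hG
  obtain ⟨T⟩ := nonempty_twoData hG
  have hne : ∀ χ : IrrCharacter G, deg χ = 10 → χ ≠ trivChar G := fun χ h e => by
    rw [e, deg_trivChar] at h
    norm_num at h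
  have hall : ∀ (χ : IrrCharacter G), (χ : G → ℂ) T.z = 2 → ∀ T' : TwoData G, (χ : G → ℂ) T'.z = 2 :=
    fun χ h T' => by rw [value_involution hG T χ T'.z_sq T'.z_ne, h]
  rcases ten_z_cases hG T D.t₁ D.deg_t₁ (fun g hg => (ten_three hG D hg).1) with e1 | e1
  · exact ⟨D.t₁, hne _ D.deg_t₁, D.deg_t₁, fun g hg => (ten_three hG D hg).1, hall _ e1⟩
  rcases ten_z_cases hG T D.t₂ D.deg_t₂ (fun g hg => (ten_three hG D hg).2.1) with e2 | e2
  · exact ⟨D.t₂, hne _ D.deg_t₂, D.deg_t₂, fun g hg => (ten_three hG D hg).2.1, hall _ e2⟩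
  rcases ten_z_cases hG T D.t₃ D.deg_t₃ (fun g hg => (ten_three hG D hg).2.2) with e3 | e3
  · exact ⟨D.t₃, hne _ D.deg_t₃, D.deg_t₃, fun g hg => (ten_three hG D hg).2.2, hall _ e3⟩
  exfalso
  have h11 : ¬ 11 ∣ orderOf T.z := by rw [orderOf_z hG T]; norm_num
  have hy := even_value hG D (g := T.z) (by rw [orderOf_z hG T])
  have hrel := relation_eq hG D h11
  rw [e1, e2, e3, hy] at hrel
  have hf : (D.f : G → ℂ) T.z = -7 := by linear_combination hrel
  obtain ⟨n0, -, -, -⟩ := chars_ne hG D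
  have hft : trivChar G ≠ D.f := fun e => n0 (by rw [e]; simp)
  have h := sum_column_normSq T.z
  rw [card_centralizer_z hG T] at h
  have hle := Finset.sum_le_sum_of_subset_of_nonneg (f := fun χ : IrrCharacter G => ‖(χ : G → ℂ) T.z‖ ^ 2)
    (Finset.subset_univ ({trivChar G, D.f} : Finset (IrrCharacter G))) fun _ _ _ => sq_nonneg _
  rw [h, Finset.sum_pair hft, hf, trivChar_coe] at hle
  norm_num at hle

end Cfsg.Lib.MEleven
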