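import Cfsg.Agent.Lib.MEleven.Quaternion

/-!
A subgroup of index 11 in a simple group of order 7920.
-/

set_option autoImplicit false
set_option linter.style.haveILetI false
set_option linter.unusedSectionVars false

namespace Cfsg.Lib.MEleven

open Cfsg Cfsg.Lib.Char Cfsg.Lib.Block

universe u

noncomputable local instance (priority := high) fintypeSubgroupMElevenIndexEleven {A : Type u}
    [Group A] [Fintype A] (H : Subgroup A) : Fintype H := Fintype.ofFinite H

variable {G : Type u} [Group G] [Fintype G]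
variable (hG : IsM11 G) [Fact (Nat.Prime 2)] [Fact (Nat.Prime 3)] [Fact (Nat.Prime 5)] [Fact (Nat.Prime 11)]

include hG

/-- The Sylow 2-subgroup and the normaliser of the four-group generate a proper subgroup. -/
theorem sup_S_B_ne_top (T : TwoData G) : (T.S : Subgroup G) ⊔ T.B ≠ ⊤ := by
  classical
  obtain ⟨χ, hne, h10, h3, hz⟩ := exists_ten hG
  obtain ⟨a, ha, ha2, b, hb⟩ := value_w_ge hG T χ h10 h3 (hz T)
  obtain ⟨U, hU4, hU, hUc⟩ := exists_square_z hG T
  obtain ⟨n, hn⟩ := exists_nat_sum χ (T.S : Subgroup G)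
  obtain ⟨d, hd⟩ := exists_nat_sum χ ((T.S : Subgroup G) ⊓ T.B)
  obtain ⟨hB24, hsB⟩ := sum_B hG T χ h3
  have hD8 : Nat.card ↥((T.S : Subgroup G) ⊓ T.B) = 8 := by
    rw [Nat.card_eq_fintype_card, ← card_fD hG T]
    exact Fintype.card_of_subtype _ fun g => (mem_inf_B hG T).symm
  have hsD : ∑ g : ↥((T.S : Subgroup G) ⊓ T.B), (χ : G → ℂ) g = 20 + 2 * (a : ℂ) := by
    rw [sum_subgroup_eq (fun g => (mem_inf_B hG T).symm), sum_fD hG T, apply_one, h10, hz T, ha]
    push_cast; ring
  have hd' : (20 : ℤ) + 2 * a = 8 * d := by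
    rw [hsD, hD8] at hd
    have : ((20 + 2 * a : ℤ) : ℂ) = ((8 * d : ℤ) : ℂ) := by push_cast at hd ⊢; exact hd
    exact_mod_cast this
  -- the sum over `S`
  set R := (((T.S : Subgroup G) : Set G).toFinset) \ T.fD with hR
  set W := R \ U with hW
  have hUR : U ⊆ R := fun x hx => by
    obtain ⟨hS, hn, -⟩ := (hU x).1 hx
    exact Finset.mem_sdiff.2 ⟨Set.mem_toFinset.2 hS, fun h => hn (fD_mem hG T h).2⟩
  have hDS : T.fD ⊆ ((T.S : Subgroup G) : Set G).toFinset := fun x hx =>
    Set.mem_toFinset.2 (fD_mem hG T hx).1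
  have hW4 : W.card = 4 := by
    rw [hW, Finset.card_sdiff_of_subset hUR, hU4, hR, Finset.card_sdiff_of_subset hDS, card_fD hG T,
      Set.toFinset_card, ← Nat.card_eq_fintype_card, SetLike.coe_sort_coe, card_sylow_two hG T.S]
  have hWlt : ∀ x ∈ W, -4 < ((χ : G → ℂ) x).re := by
    intro x hx
    obtain ⟨hxR, hxU⟩ := Finset.mem_sdiff.1 hx
    obtain ⟨hxS, hxD⟩ := Finset.mem_sdiff.1 hxR
    have hxS' : x ∈ (T.S : Subgroup G) := Set.mem_toFinset.1 hxS
    have hn : ¬ T.InD x := fun h => hxD ((mem_fD hG T).2 ⟨hxS', h⟩)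
    have hsq : x * x = T.w ∨ x * x = T.w * T.z :=
      (T.outside_sq hxS' hn).resolve_left fun e => hxU ((hU x).2 ⟨hxS', hn, e⟩)
    have h15 := norm_outside hG T χ hne hsq
    have hre := Complex.abs_re_le_norm ((χ : G → ℂ) x)
    have h0 := norm_nonneg ((χ : G → ℂ) x)
    by_contra hle
    push Not at hle
    have := (abs_le.1 hre).1
    nlinarith
  have hUsum : ∑ x ∈ U, (χ : G → ℂ) x = 4 * (a : ℂ) := by
    rw [Finset.sum_congr rfl fun x hx => show (χ : G → ℂ) x = (a : ℂ) by
        obtain ⟨g, hg⟩ := isConj_iff.1 (hUc x hx)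
        rw [← hg, χ.2.isClassFunction, ha],
      Finset.sum_const, hU4, nsmul_eq_mul]
    norm_num
  have hsS : ∑ g : (T.S : Subgroup G), (χ : G → ℂ) g = 20 + 6 * (a : ℂ) + ∑ x ∈ W, (χ : G → ℂ) x := by
    rw [sum_subgroup_eq (H := (T.S : Subgroup G)) (F := ((T.S : Subgroup G) : Set G).toFinset) (fun g => Set.mem_toFinset),
      ← Finset.sum_sdiff hDS, ← hR, ← Finset.sum_sdiff hUR, ← hW, hUsum, sum_fD hG T, apply_one, h10, hz T, ha]
    push_cast; ring
  rw [hsS, card_sylow_two hG T.S] at hn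
  have hWsum : -16 < (∑ x ∈ W, (χ : G → ℂ) x).re := by
    rw [Complex.re_sum]
    have hWne : W.Nonempty := Finset.card_pos.1 (by rw [hW4]; norm_num)
    have := Finset.sum_lt_sum_of_nonempty hWne hWlt
    rw [Finset.sum_const, hW4, nsmul_eq_mul] at this
    push_cast at this
    linarith
  have hn' : (4 : ℝ) + 6 * a < 16 * n := by
    have := congrArg Complex.re hn
    simp only [Complex.add_re, Complex.mul_re, Complex.intCast_re, Complex.intCast_im, Complex.natCast_re] at this
    norm_num at this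
    rw [Complex.re_sum] at hWsum
    linarith
  have hn'' : (4 : ℤ) + 6 * a < 16 * n := by exact_mod_cast hn'
  refine sup_ne_top hne _ _ _ inf_le_left inf_le_right (a := n) (b := b) (d := d) ?_ ?_ hd ?_
  · rw [hsS, card_sylow_two hG T.S]; exact hn
  · rw [hsB, hB24, apply_one, h10, hz T, ha]
    have : ((36 + 6 * a : ℤ) : ℂ) = ((24 * b : ℤ) : ℂ) := by rw [hb]
    push_cast at this ⊢
    linear_combination this
  · omega

/-- A conjugate of `w` by the cycle is not in `S`. -/
theorem conj_w_not_mem (T : TwoData G) {c : G} (hc : c * T.z * c⁻¹ = T.t) :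
    c * T.w * c⁻¹ ∉ (T.S : Subgroup G) := by
  intro h
  have hsq : c * T.w * c⁻¹ * (c * T.w * c⁻¹) = T.t := by
    rw [show c * T.w * c⁻¹ * (c * T.w * c⁻¹) = c * (T.w * T.w) * c⁻¹ by group, T.w_sq, hc]
  have ho := orderOf_w hG T
  have ht2 : orderOf T.t = 2 := orderOf_eq_prime (p := 2) (by rw [pow_two, T.t_sq]) T.t_ne
  have htw : T.t ≠ T.w := fun e => by rw [e, ho] at ht2; norm_num at ht2
  have htwz : T.t ≠ T.w * T.z := fun e => by rw [e, T.wz_eq_inv, orderOf_inv, ho] at ht2; norm_num at ht2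
  by_cases hD : T.InD (c * T.w * c⁻¹)
  · have hz1 : T.t * T.z * (T.t * T.z) = 1 := by
      rw [mul_assoc, ← mul_assoc T.z, ← T.tz_comm, mul_assoc T.t T.z T.z, T.z_sq, mul_one, T.t_sq]
    have hv1 : T.v * T.z * (T.v * T.z) = 1 := by
      rw [mul_assoc, ← mul_assoc T.z, ← T.vz_comm, mul_assoc T.v T.z T.z, T.z_sq, mul_one, T.v_sq]
    have hw1 : T.w * T.z * (T.w * T.z) = T.z := by
      rw [mul_assoc, ← mul_assoc T.z, ← T.z_comm T.w T.w_mem, mul_assoc T.w T.z T.z, T.z_sq, mul_one, T.w_sq]
    rcases T.inD_cases h hD with e | e | e | e | e | e | e | e <;> rw [e] at hsq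
    · exact T.t_ne (hsq.symm.trans (one_mul _))
    · exact T.t_ne (hsq.symm.trans T.z_sq)
    · exact T.t_ne (hsq.symm.trans T.t_sq)
    · exact T.t_ne (hsq.symm.trans hz1)
    · exact T.t_ne (hsq.symm.trans T.v_sq)
    · exact T.t_ne (hsq.symm.trans hv1)
    · exact T.t_ne_z (hsq.symm.trans T.w_sq)
    · exact T.t_ne_z (hsq.symm.trans hw1)
  · rcases T.outside_sq h hD with e | e | e <;> rw [hsq] at e
    exacts [T.t_ne_z e, htw e, htwz e]

/-- Conjugates of a square stay in a subgroup of index three. -/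
theorem sq_conj_mem (K S : Subgroup G) (hSK : S ≤ K) (h3 : Nat.card K = 3 * Nat.card S) {s c : G}
    (hs : s ∈ S) (hc : c ∈ K) : c * (s * s) * c⁻¹ ∈ S := by
  classical
  set S' := S.subgroupOf K
  have hidx : Nat.card (K ⧸ S') = 3 := by
    have h := S'.card_mul_index
    rw [Nat.card_congr (Subgroup.subgroupOfEquivOfLe hSK).toEquiv, h3] at h
    have hpos : 0 < Nat.card S := Nat.card_pos
    rw [← Subgroup.index]
    nlinarith
  set σ : K := ⟨s, hSK hs⟩
  set γ : K := ⟨c⁻¹, inv_mem hc⟩
  set q : K ⧸ S' := (γ : K ⧸ S')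
  have hb : σ • (((1 : K) : K ⧸ S')) = ((1 : K) : K ⧸ S') := by
    rw [MulAction.Quotient.smul_coe, QuotientGroup.eq]
    simpa [S', σ, Subgroup.mem_subgroupOf] using hs
  have hfix : σ • σ • q = q := by
    by_contra hne
    have h1 : σ • q ≠ q := fun e => hne (by rw [e, e])
    have hq : q ≠ ((1 : K) : K ⧸ S') := fun e => h1 (by rw [e, hb])
    have h2 : σ • q ≠ ((1 : K) : K ⧸ S') := fun e => hq (smul_left_cancel σ (e.trans hb.symm))
    have h3' : σ • σ • q ≠ σ • q := fun e => h1 (smul_left_cancel σ e)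
    have h4 : σ • σ • q ≠ ((1 : K) : K ⧸ S') := fun e => h2 (smul_left_cancel σ (e.trans hb.symm))
    haveI : Fintype (K ⧸ S') := Fintype.ofFinite _
    have h5 := Finset.card_le_univ ({((1 : K) : K ⧸ S'), q, σ • q, σ • σ • q} : Finset (K ⧸ S'))
    rw [← Nat.card_eq_fintype_card, hidx,
      Finset.card_insert_of_notMem (by simp [hq.symm, h2.symm, h4.symm]),
      Finset.card_insert_of_notMem (by simp [h1.symm, Ne.symm hne]), Finset.card_pair h3'.symm] at h5
    omega
  rw [MulAction.Quotient.smul_coe, MulAction.Quotient.smul_coe, QuotientGroup.eq] at hfix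
  have hm : (((σ • σ • γ)⁻¹ * γ : K) : G) ∈ S := hfix
  have e : (((σ • σ • γ)⁻¹ * γ : K) : G) = c * (s * s)⁻¹ * c⁻¹ := by
    simp only [smul_eq_mul, Subgroup.coe_mul, Subgroup.coe_inv, σ, γ]
    group
  rw [e] at hm
  have h := inv_mem hm
  rwa [show (c * (s * s)⁻¹ * c⁻¹)⁻¹ = c * (s * s) * c⁻¹ by simp only [mul_inv_rev, mul_assoc, inv_inv]] at h

theorem card_sup_ne_of_eleven {K : Subgroup G} (hK : Nat.card K = 528) : False := by
  obtain ⟨P⟩ : Nonempty (Sylow 11 K) := inferInstance
  have hP : Nat.card (P : Subgroup K) = 11 := by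
    rw [Small.card_sylow 1 48 (by rw [hK]; norm_num) (by decide) P]; norm_num
  obtain ⟨⟨x, hxP⟩, hx⟩ := exists_prime_orderOf_dvd_card' 11 (dvd_of_eq hP.symm)
  rw [Subgroup.orderOf_mk] at hx
  obtain ⟨Q⟩ : Nonempty (Sylow 11 G) := inferInstance
  have hPc : Nat.card ((P : Subgroup K).map K.subtype) = 11 ^ (Nat.card G).factorization 11 := by
    rw [Subgroup.card_map_of_injective (Subgroup.subtype_injective _), hP, ← Q.card_eq_multiplicity,
      card_sylow_eleven hG Q]
  set P' : Sylow 11 G := Sylow.ofCard _ hPc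
  have hle : (Subgroup.normalizer ((P : Subgroup K) : Set K)).map K.subtype ≤
      Subgroup.normalizer ((P' : Subgroup G) : Set G) := Subgroup.le_normalizer_map _
  have hd := Subgroup.card_dvd_of_le hle
  rw [Subgroup.card_map_of_injective (Subgroup.subtype_injective _), card_normalizer_eleven hG P'] at hd
  have hm := Small.card_normalizer_mul P
  rw [hK] at hm
  have hN : Nat.card (Subgroup.normalizer ((P : Subgroup K) : Set K)) ∣ 528 := Dvd.intro_left _ hm
  have h11 : 11 ∣ Nat.card (Subgroup.normalizer ((P : Subgroup K) : Set K)) :=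
    (dvd_of_eq hP.symm).trans (Subgroup.card_dvd_of_le Subgroup.le_normalizer)
  have hN11 : Nat.card (Subgroup.normalizer ((P : Subgroup K) : Set K)) = 11 :=
    Nat.dvd_antisymm (by simpa using Nat.dvd_gcd hd hN) h11
  rw [hN11] at hm
  have hmod := card_sylow_modEq_one 11 K
  rw [show Nat.card (Sylow 11 K) = 48 by omega] at hmod
  exact absurd hmod (by decide)

theorem card_sup_ne_of_five {K : Subgroup G} (hK : Nat.card K = 240) : False := by
  obtain ⟨P⟩ : Nonempty (Sylow 5 K) := inferInstance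
  have hP : Nat.card (P : Subgroup K) = 5 := by
    rw [Small.card_sylow 1 48 (by rw [hK]; norm_num) (by decide) P]; norm_num
  obtain ⟨⟨x, hxP⟩, hx⟩ := exists_prime_orderOf_dvd_card' 5 (dvd_of_eq hP.symm)
  rw [Subgroup.orderOf_mk] at hx
  have hxG : orderOf ((x : K) : G) = 5 := by rw [Subgroup.orderOf_coe]; exact hx
  have he : (P : Subgroup K).map K.subtype = Subgroup.zpowers ((x : K) : G) := by
    refine (Subgroup.eq_of_le_of_card_ge (Subgroup.zpowers_le.2
      (show ((x : K) : G) ∈ (P : Subgroup K).map K.subtype from Subgroup.mem_map_of_mem _ hxP)) ?_).symm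
    rw [Subgroup.card_map_of_injective (Subgroup.subtype_injective _), hP, Nat.card_zpowers, hxG]
  have hle : (Subgroup.normalizer ((P : Subgroup K) : Set K)).map K.subtype ≤
      Subgroup.normalizer ((Subgroup.zpowers ((x : K) : G) : Subgroup G) : Set G) :=
    he ▸ Subgroup.le_normalizer_map _
  have hd := Subgroup.card_dvd_of_le hle
  rw [Subgroup.card_map_of_injective (Subgroup.subtype_injective _), card_normalizer_five hG hxG] at hd
  have hm := Small.card_normalizer_mul P
  rw [hK] at hm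
  have h5 : 5 ∣ Nat.card (Subgroup.normalizer ((P : Subgroup K) : Set K)) :=
    (dvd_of_eq hP.symm).trans (Subgroup.card_dvd_of_le Subgroup.le_normalizer)
  have hmod : Nat.card (Sylow 5 K) % 5 = 1 := card_sylow_modEq_one 5 K
  obtain ⟨k, hk⟩ := h5
  rw [hk] at hd hm
  have hk4 : k ∣ 4 := Nat.dvd_of_mul_dvd_mul_left (by norm_num : 0 < 5) (by simpa using hd)
  have := Nat.le_of_dvd (by norm_num) hk4
  interval_cases k <;> omega

theorem card_sup_ne_of_three (T : TwoData G) {K : Subgroup G} (hSK : (T.S : Subgroup G) ≤ K) {c : G}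
    (hcK : c ∈ K) (hc3 : orderOf c = 3) (hcz : c * T.z * c⁻¹ = T.t) (hK : Nat.card K = 144) : False := by
  classical
  have hY9 : ∀ P : Sylow 3 K, Nat.card (P : Subgroup K) = 9 := fun P => by
    rw [Small.card_sylow 2 16 (by rw [hK]; norm_num) (by decide) P]; norm_num
  obtain ⟨Y⟩ : Nonempty (Sylow 3 G) := inferInstance
  have hY' : ∀ P : Sylow 3 K, ∃ Q : Sylow 3 G, (Q : Subgroup G) = (P : Subgroup K).map K.subtype := fun P => by
    have hPc : Nat.card ((P : Subgroup K).map K.subtype) = 3 ^ (Nat.card G).factorization 3 := by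
      rw [Subgroup.card_map_of_injective (Subgroup.subtype_injective _), hY9 P, ← Y.card_eq_multiplicity,
        card_sylow_three hG Y]
    exact ⟨Sylow.ofCard _ hPc, rfl⟩
  -- two Sylow 3-subgroups meet trivially
  have hTI : ∀ P P' : Sylow 3 K, ∀ y ∈ (P : Subgroup K), y ∈ (P' : Subgroup K) → y ≠ 1 → P = P' := by
    intro P P' y hy hy' hy1
    obtain ⟨Q, hQ⟩ := hY' P
    obtain ⟨Q', hQ'⟩ := hY' P'
    have hyQ : (y : G) ∈ (Q : Subgroup G) := hQ ▸ Subgroup.mem_map_of_mem _ hy
    have hyQ' : (y : G) ∈ (Q' : Subgroup G) := hQ' ▸ Subgroup.mem_map_of_mem _ hy'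
    have hy1' : (y : G) ≠ 1 := fun e => hy1 (Subtype.ext e)
    set C := Subgroup.centralizer ({(y : G)} : Set G) with hC
    have hC18 : Nat.card C = 18 :=
      card_centralizer_three hG (three_dvd_orderOf hG hyQ hy1').1 (three_dvd_orderOf hG hyQ hy1').2
    have hQC : ∀ R : Sylow 3 G, (y : G) ∈ (R : Subgroup G) → (R : Subgroup G) ≤ C := fun R hR r hr =>
      Subgroup.mem_centralizer_singleton_iff.2 (comm_three hG R hr hR)
    set R := (Q.subtype (hQC Q hyQ) : Sylow 3 C)
    set R' := (Q'.subtype (hQC Q' hyQ') : Sylow 3 C)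
    haveI : Subsingleton (Sylow 3 C) := by
      refine (Nat.card_eq_one_iff_unique.1 ?_).1
      have hm := Small.card_normalizer_mul R
      rw [hC18] at hm
      have h9 : 9 ∣ Nat.card (Subgroup.normalizer ((R : Subgroup C) : Set C)) := by
        have h := Subgroup.card_dvd_of_le (Subgroup.le_normalizer (H := (R : Subgroup C)))
        have e : Nat.card (R : Subgroup C) = 9 :=
          (Nat.card_congr (Subgroup.subgroupOfEquivOfLe (hQC Q hyQ)).toEquiv).trans (card_sylow_three hG Q)
        rwa [e] at h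
      have hmod : Nat.card (Sylow 3 C) % 3 = 1 := card_sylow_modEq_one 3 C
      obtain ⟨k, hk⟩ := h9
      rw [hk] at hm
      have : k * Nat.card (Sylow 3 C) = 2 := by linarith
      have := Nat.le_of_dvd (by norm_num) (Dvd.intro_left k this)
      omega
    have hRR : R = R' := Subsingleton.elim _ _
    have hQQ : (Q : Subgroup G) = (Q' : Subgroup G) := by
      ext g
      constructor <;> intro hg
      · have h : (⟨g, hQC Q hyQ hg⟩ : C) ∈ (R : Subgroup C) := hg
        rw [hRR] at h
        exact h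
      · have h : (⟨g, hQC Q' hyQ' hg⟩ : C) ∈ (R' : Subgroup C) := hg
        rw [← hRR] at h
        exact h
    apply Sylow.ext
    apply Subgroup.map_injective K.subtype_injective
    rw [← hQ, hQQ, hQ']
  obtain ⟨P₁⟩ : Nonempty (Sylow 3 K) := inferInstance
  set z' : K := ⟨T.z, hSK T.z_mem⟩
  set c' : K := ⟨c, hcK⟩
  by_cases hone : ∀ P : Sylow 3 K, P = P₁
  · haveI : Subsingleton (Sylow 3 K) := ⟨fun a b => (hone a).trans (hone b).symm⟩
    have hnorm : (P₁ : Subgroup K).Normal := Sylow.normal_of_subsingleton P₁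
    have hc'P : c' ∈ (P₁ : Subgroup K) := by
      have ho : orderOf c' = 3 ^ 1 := by rw [pow_one, ← Subgroup.orderOf_coe]; exact hc3
      obtain ⟨P, hP⟩ := (IsPGroup.of_card (p := 3) (n := 1)
        (by rw [Nat.card_zpowers, ho] : Nat.card (Subgroup.zpowers c') = 3 ^ 1)).exists_le_sylow
      exact hone P ▸ hP (Subgroup.mem_zpowers c')
    have hm : c' * (z' * c'⁻¹ * z'⁻¹) ∈ (P₁ : Subgroup K) :=
      mul_mem hc'P (hnorm.conj_mem _ (inv_mem hc'P) z')
    have e : ((c' * (z' * c'⁻¹ * z'⁻¹) : K) : G) = T.t * T.z := by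
      show c * (T.z * c⁻¹ * T.z⁻¹) = _
      rw [← hcz, inv_eq_of_mul_eq_one_right T.z_sq]; group
    obtain ⟨Q, hQ⟩ := hY' P₁
    have hQm : T.t * T.z ∈ (Q : Subgroup G) := hQ ▸ e ▸ Subgroup.mem_map_of_mem _ hm
    have htz : orderOf (T.t * T.z) = 2 := orderOf_eq_prime (p := 2) (by
      rw [pow_two, mul_assoc, ← mul_assoc T.z, ← T.tz_comm, mul_assoc T.t T.z T.z, T.z_sq, mul_one, T.t_sq])
      fun e => T.t_ne_z (by rw [← mul_one T.t, ← T.z_sq, ← mul_assoc, e, one_mul])
    have := Subgroup.orderOf_dvd_natCard _ hQm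
    rw [htz, card_sylow_three hG Q] at this
    norm_num at this
  · push Not at hone
    obtain ⟨P₂, hP₂⟩ := hone
    haveI : Fintype (Sylow 3 K) := Fintype.ofFinite _
    have h10 : 10 ≤ Nat.card (Sylow 3 K) := by
      have hinj : Function.Injective fun y : Option (P₁ : Subgroup K) =>
          y.elim P₁ fun y => (y : K) • P₂ := by
        have hne : ∀ y : (P₁ : Subgroup K), (y : K) • P₂ ≠ P₁ := fun y e => hP₂ (by
          have h1 : (y : K) • P₁ = P₁ :=
            Sylow.smul_eq_iff_mem_normalizer.2 (Subgroup.le_normalizer y.2)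
          exact smul_left_cancel _ (e.trans h1.symm))
        rintro (_ | y) (_ | y') h
        · rfl
        · exact absurd h.symm (hne y')
        · exact absurd h (hne y)
        · simp only [Option.elim_some] at h
          have hfix : ((y' : K)⁻¹ * (y : K)) • P₂ = P₂ := by rw [mul_smul, h, inv_smul_smul]
          have hmemN := Sylow.smul_eq_iff_mem_normalizer.1 hfix
          have hmem2 : (y' : K)⁻¹ * (y : K) ∈ (P₂ : Subgroup K) := by
            have h : (y' : K)⁻¹ * (y : K) ∈
                (P₁ : Subgroup K) ⊓ Subgroup.normalizer ((P₂ : Subgroup K) : Set K) :=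
              ⟨((y'⁻¹ * y : (P₁ : Subgroup K))).2, hmemN⟩
            have e := P₁.2.inf_normalizer_sylow P₂
            exact (e.le h).2
          by_contra hne'
          exact hP₂ (hTI P₁ P₂ _ (mul_mem (inv_mem y'.2) y.2) hmem2
            (fun e => hne' (congrArg some (Subtype.ext (inv_mul_eq_one.1 e).symm)))).symm
      have := Nat.card_le_card_of_injective _ hinj
      rw [Nat.card_eq_fintype_card, Fintype.card_option, ← Nat.card_eq_fintype_card, hY9 P₁] at this
      omega
    set E := Finset.univ.biUnion fun P : Sylow 3 K =>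
      ((((P : Subgroup K).map K.subtype : Subgroup G) : Set G).toFinset).erase 1
    have hEc : E.card = Nat.card (Sylow 3 K) * 8 := by
      rw [Finset.card_biUnion, Finset.sum_congr rfl fun P _ => by
        rw [Finset.card_erase_of_mem (Set.mem_toFinset.2 (one_mem _)), Set.toFinset_card,
          ← Nat.card_eq_fintype_card, SetLike.coe_sort_coe,
          Subgroup.card_map_of_injective (Subgroup.subtype_injective _), hY9 P],
        Finset.sum_const, Finset.card_univ, ← Nat.card_eq_fintype_card, smul_eq_mul]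
      intro P _ P' _ hPP
      rw [Function.onFun, Finset.disjoint_left]
      intro g hg hg'
      obtain ⟨g1, hgm⟩ := Finset.mem_erase.1 hg
      obtain ⟨y, hy, rfl⟩ := Subgroup.mem_map.1 (Set.mem_toFinset.1 hgm)
      obtain ⟨y', hy', e⟩ := Subgroup.mem_map.1 (Set.mem_toFinset.1 (Finset.mem_erase.1 hg').2)
      rw [Subgroup.subtype_injective _ e] at hy'
      exact hPP (hTI P P' y hy hy' fun e => g1 (by rw [e]; rfl))
    have hn16 : Nat.card (Sylow 3 K) ∣ 16 := by
      have hm := Small.card_normalizer_mul P₁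
      rw [hK] at hm
      obtain ⟨k, hk⟩ : 9 ∣ Nat.card (Subgroup.normalizer ((P₁ : Subgroup K) : Set K)) :=
        hY9 P₁ ▸ Subgroup.card_dvd_of_le Subgroup.le_normalizer
      rw [hk] at hm
      exact Dvd.intro_left k (by linarith)
    have hn : Nat.card (Sylow 3 K) = 16 := by
      have := Nat.le_of_dvd (by norm_num) hn16
      obtain ⟨m, hm⟩ := hn16
      rcases m with _ | _ | m <;> [omega; omega; nlinarith]
    -- everything outside lies in `S`
    set wc := c * T.w * c⁻¹ with hwc
    have hcw : wc ∈ K := mul_mem (mul_mem hcK (hSK T.w_mem)) (inv_mem hcK)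
    have hE3 : ∀ g ∈ E, orderOf g ∣ 9 := by
      intro g hg
      obtain ⟨P, -, hgP⟩ := Finset.mem_biUnion.1 hg
      have h := Subgroup.orderOf_dvd_natCard _ (Set.mem_toFinset.1 (Finset.mem_erase.1 hgP).2)
      rwa [Subgroup.card_map_of_injective (Subgroup.subtype_injective _), hY9 P] at h
    set FS := ((T.S : Subgroup G) : Set G).toFinset
    have hdisj : Disjoint E FS := by
      rw [Finset.disjoint_left]
      intro g hgE hgS
      obtain ⟨P, -, hgP⟩ := Finset.mem_biUnion.1 hgE
      refine (Finset.mem_erase.1 hgP).1 (orderOf_eq_one_iff.1 (Nat.dvd_one.1 ?_))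
      have h : orderOf g ∣ Nat.gcd 9 16 := Nat.dvd_gcd (hE3 g hgE)
        (card_sylow_two hG T.S ▸ Subgroup.orderOf_dvd_natCard _ (Set.mem_toFinset.1 hgS))
      exact h
    have hnot : wc ∉ E ∪ FS := by
      rw [Finset.mem_union]
      rintro (h | h)
      · have h' := hE3 _ h
        rw [hwc, show orderOf (c * T.w * c⁻¹) = orderOf T.w from (MulAut.conj c).orderOf_eq T.w,
          orderOf_w hG T] at h'
        norm_num at h'
      · exact conj_w_not_mem hG T hcz (Set.mem_toFinset.1 h)
    have hsub : insert wc (E ∪ FS) ⊆ ((K : Set G)).toFinset := by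
      intro g hg
      rw [Finset.mem_insert, Finset.mem_union] at hg
      rcases hg with rfl | hg | hg
      · exact Set.mem_toFinset.2 hcw
      · obtain ⟨P, -, hgP⟩ := Finset.mem_biUnion.1 hg
        exact Set.mem_toFinset.2 (Subgroup.map_subtype_le _ (Set.mem_toFinset.1 (Finset.mem_erase.1 hgP).2))
      · exact Set.mem_toFinset.2 (hSK (Set.mem_toFinset.1 hg))
    have h := Finset.card_le_card hsub
    rw [Finset.card_insert_of_notMem hnot, Finset.card_union_of_disjoint hdisj, hEc, hn, Set.toFinset_card,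
      ← Nat.card_eq_fintype_card, SetLike.coe_sort_coe, card_sylow_two hG T.S, Set.toFinset_card,
      ← Nat.card_eq_fintype_card, SetLike.coe_sort_coe, hK] at h
    omega

/-- A simple group of order 7920 has a subgroup of index 11. -/
theorem exists_index_eleven : ∃ H : Subgroup G, H.index = 11 := by
  classical
  obtain ⟨T⟩ := nonempty_twoData hG
  set K := (T.S : Subgroup G) ⊔ T.B with hKdef
  have hne := sup_S_B_ne_top hG T
  obtain ⟨c, hc3, cz, ct, -⟩ := exists_cycle hG T
  have hcK : c ∈ K := Subgroup.mem_sup_right (mem_B_of hG T (Or.inr (Or.inl cz)) (Or.inr (Or.inr ct)))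
  have hSK : (T.S : Subgroup G) ≤ K := le_sup_left
  have hco : orderOf c = 3 := orderOf_eq_prime hc3 fun e => T.t_ne_z (by rw [← cz, e]; simp)
  have h16 : 16 ∣ Nat.card K := card_sylow_two hG T.S ▸ Subgroup.card_dvd_of_le hSK
  have h3 : 3 ∣ Nat.card K := hco ▸ Subgroup.orderOf_dvd_natCard _ hcK
  obtain ⟨k, hk⟩ : 48 ∣ Nat.card K :=
    Nat.Coprime.mul_dvd_of_dvd_of_dvd (by norm_num : Nat.Coprime 16 3) h16 h3
  have hle : Nat.card K ≤ 720 := card_le_of_ne_top hG hne
  have hd : Nat.card K ∣ 7920 := hG.2 ▸ Subgroup.card_subgroup_dvd_card K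
  have hk' : k ∣ 165 := by
    rw [hk, show 7920 = 48 * 165 by norm_num] at hd
    exact Nat.dvd_of_mul_dvd_mul_left (by norm_num) hd
  have hm : k ∈ Nat.divisors 165 := Nat.mem_divisors.2 ⟨hk', by norm_num⟩
  rw [show Nat.divisors 165 = {1, 3, 5, 11, 15, 33, 55, 165} by decide] at hm
  simp only [Finset.mem_insert, Finset.mem_singleton] at hm
  refine ⟨K, ?_⟩
  rcases hm with rfl | rfl | rfl | rfl | rfl | rfl | rfl | rfl
  · obtain ⟨s, hs, hsw, -⟩ := exists_sqrt_w hG T
    have h := sq_conj_mem hG K (T.S : Subgroup G) hSK (by rw [hk, card_sylow_two hG T.S]) hs hcK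
    rw [hsw] at h
    exact absurd h (conj_w_not_mem hG T cz)
  · exact (card_sup_ne_of_three hG T hSK hcK hco cz (by omega)).elim
  · exact (card_sup_ne_of_five hG (K := K) (by omega)).elim
  · exact (card_sup_ne_of_eleven hG (K := K) (by omega)).elim
  · have h := K.card_mul_index
    rw [hk, hG.2] at h
    omega
  all_goals omega

end Cfsg.Lib.MEleven
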