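import Cfsg.Agent.Lib.MEleven.Recog

/-!
The numbers of elements of each order in the simple group of order 7920.
-/

set_option autoImplicit false
set_option linter.style.haveILetI false
set_option linter.unusedSectionVars false

namespace Cfsg.Lib.MEleven

open Cfsg

universe u

variable {G : Type u} [Group G] [Finite G]

/-- The number of elements of a given order, other than 1 and 1440, is divisible by 11. -/
theorem count_cases (hG : IsM11 G) (n : ℕ) :
    Nat.card {g : G // orderOf g = n} = 1 ∨ Nat.card {g : G // orderOf g = n} = 1440 ∨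
      11 ∣ Nat.card {g : G // orderOf g = n} := by
  classical
  haveI : Fintype G := Fintype.ofFinite G
  haveI : Fact (Nat.Prime 5) := ⟨by norm_num⟩
  haveI : Fact (Nat.Prime 11) := ⟨by norm_num⟩
  by_cases h1 : n = 1
  · left
    subst h1
    rw [Nat.card_eq_one_iff_unique]
    exact ⟨⟨fun a b => Subtype.ext ((orderOf_eq_one_iff.1 a.2).trans (orderOf_eq_one_iff.1 b.2).symm)⟩,
      ⟨⟨1, orderOf_one⟩⟩⟩
  by_cases h11 : n = 11
  · right; left
    subst h11
    rw [Small.card_orderOf_eq fun P => card_sylow_eleven hG P, card_sylow_eleven_eq hG]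
  right; right
  obtain ⟨x, hx⟩ := exists_orderOf_eleven hG
  set A := Subgroup.zpowers x
  have hA : IsPGroup 11 A := IsPGroup.of_card (n := 1) (by rw [Nat.card_zpowers, hx]; norm_num)
  let act : MulAction A {g : G // orderOf g = n} :=
    { smul := fun a g => ⟨(a : G) * g * (a : G)⁻¹, ((MulAut.conj (a : G)).orderOf_eq (g : G)).trans g.2⟩
      one_smul := fun g => Subtype.ext (show (1 : G) * g * (1 : G)⁻¹ = g by group)
      mul_smul := fun a b g => Subtype.ext (by
        show ((a * b : A) : G) * g * ((a * b : A) : G)⁻¹ = (a : G) * ((b : G) * g * (b : G)⁻¹) * (a : G)⁻¹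
        rw [Subgroup.coe_mul]; group) }
  have h := hA.card_modEq_card_fixedPoints {g : G // orderOf g = n}
  have hempty : IsEmpty (MulAction.fixedPoints A {g : G // orderOf g = n}) := by
    refine ⟨fun g => ?_⟩
    have hgx : x * (g.1 : G) * x⁻¹ = g.1 := congrArg Subtype.val (g.2 ⟨x, Subgroup.mem_zpowers x⟩)
    have hm : (g.1 : G) ∈ Subgroup.centralizer ({x} : Set G) :=
      Subgroup.mem_centralizer_singleton_iff.2 (mul_inv_eq_iff_eq_mul.1 hgx).symm
    have h2 := Subgroup.orderOf_dvd_natCard _ hm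
    rw [card_centralizer_eleven hG hx, g.1.2] at h2
    rcases (Nat.dvd_prime (by norm_num)).1 h2 with e | e
    exacts [h1 e, h11 e]
  rw [Nat.card_of_isEmpty (α := MulAction.fixedPoints A {g : G // orderOf g = n})] at h
  exact Nat.modEq_zero_iff_dvd.1 h

/-- A group of order 7920 whose numbers of elements of each order are among those of the simple group has
self-centralising elements of order 11. -/
theorem centralizer_of_counts {H : Type*} [Group H] [Finite H] (hH : Nat.card H = 7920)
    (hcount : ∀ n : ℕ, 0 < Nat.card {g : H // orderOf g = n} →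
      Nat.card {g : H // orderOf g = n} = 1 ∨ Nat.card {g : H // orderOf g = n} = 1440 ∨
        11 ∣ Nat.card {g : H // orderOf g = n})
    {x : H} (hx : orderOf x = 11) : Nat.card (Subgroup.centralizer ({x} : Set H)) = 11 := by
  haveI : Fact (Nat.Prime 5) := ⟨by norm_num⟩
  haveI : Fact (Nat.Prime 11) := ⟨by norm_num⟩
  have hP : ∀ P : Sylow 11 H, Nat.card (P : Subgroup H) = 11 := fun P => by
    rw [Small.card_sylow 1 720 (by rw [hH]; norm_num) (by decide) P]; norm_num
  have hQ : ∀ P : Sylow 5 H, Nat.card (P : Subgroup H) = 5 := fun P => by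
    rw [Small.card_sylow 1 1584 (by rw [hH]; norm_num) (by decide) P]; norm_num
  obtain ⟨hd, hmod⟩ := Small.sylow_facts (G := H) (p := 11) 1 720 (by rw [hH]; norm_num) (by decide)
  have hn11 : Nat.card (Sylow 11 H) = 144 := by
    have hc := hcount 11 (Nat.card_pos_iff.2 ⟨⟨⟨x, hx⟩⟩, inferInstance⟩)
    rw [Small.card_orderOf_eq hP] at hc
    have hle := Nat.le_of_dvd (by norm_num) hd
    obtain ⟨m, hm⟩ := hd
    rcases hc with e | e | e
    · omega
    · omega
    · have := (Nat.Prime.dvd_mul (by norm_num : Nat.Prime 11)).1 e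
      omega
  obtain ⟨P, hPx⟩ := Small.exists_sylow_eq_zpowers hP hx
  have hN := Small.card_normalizer_mul P
  rw [hn11, hH] at hN
  have hCN : Subgroup.centralizer ({x} : Set H) ≤ Subgroup.normalizer ((P : Subgroup H) : Set H) := fun c hc => by
    rw [hPx]
    refine Subgroup.mem_normalizer_fintype fun k hk => ?_
    obtain ⟨i, rfl⟩ := Subgroup.mem_zpowers_iff.1 hk
    have hcx : Commute c x := Subgroup.mem_centralizer_singleton_iff.1 hc
    show c * x ^ i * c⁻¹ ∈ Subgroup.zpowers x
    rw [(hcx.zpow_right i).eq, mul_inv_cancel_right]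
    exact zpow_mem (Subgroup.mem_zpowers _) i
  have hd55 := Subgroup.card_dvd_of_le hCN
  rw [show Nat.card (Subgroup.normalizer ((P : Subgroup H) : Set H)) = 55 by omega] at hd55
  have h11C : 11 ∣ Nat.card (Subgroup.centralizer ({x} : Set H)) :=
    hx ▸ Subgroup.orderOf_dvd_natCard _ (Subgroup.mem_centralizer_singleton_iff.2 rfl)
  by_contra hne
  have h5C : 5 ∣ Nat.card (Subgroup.centralizer ({x} : Set H)) := by
    obtain ⟨m, hm⟩ := h11C
    rw [hm, show 55 = 11 * 5 by norm_num] at hd55
    rcases (Nat.dvd_prime (by norm_num)).1 (Nat.dvd_of_mul_dvd_mul_left (by norm_num) hd55) with rfl | rfl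
    · exact absurd hm hne
    · rw [hm]; norm_num
  obtain ⟨⟨q, hqC⟩, hq⟩ := exists_prime_orderOf_dvd_card' 5 h5C
  rw [Subgroup.orderOf_mk] at hq
  obtain ⟨Q, hQq⟩ := Small.exists_sylow_eq_zpowers hQ hq
  have hxq : Commute x q := (Subgroup.mem_centralizer_singleton_iff.1 hqC).symm
  have hxN : x ∈ Subgroup.normalizer ((Q : Subgroup H) : Set H) := by
    rw [hQq]
    refine Subgroup.mem_normalizer_fintype fun k hk => ?_
    obtain ⟨i, rfl⟩ := Subgroup.mem_zpowers_iff.1 hk
    show x * q ^ i * x⁻¹ ∈ Subgroup.zpowers q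
    rw [(hxq.zpow_right i).eq, mul_inv_cancel_right]
    exact zpow_mem (Subgroup.mem_zpowers _) i
  have hdN : 55 ∣ Nat.card (Subgroup.normalizer ((Q : Subgroup H) : Set H)) := by
    rw [show 55 = 11 * 5 by norm_num]
    exact Nat.Coprime.mul_dvd_of_dvd_of_dvd (by norm_num) (hx ▸ Subgroup.orderOf_dvd_natCard _ hxN)
      ((dvd_of_eq (hQ Q).symm).trans (Subgroup.card_dvd_of_le Subgroup.le_normalizer))
  have hM := Small.card_normalizer_mul Q
  rw [hH] at hM
  have hc := hcount 5 (Nat.card_pos_iff.2 ⟨⟨⟨q, hq⟩⟩, inferInstance⟩)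
  rw [Small.card_orderOf_eq hQ] at hc
  obtain ⟨m, hm⟩ := hdN
  rw [hm] at hM
  have hmn : Nat.card (Sylow 5 H) * m = 144 := by linarith
  have hle := Nat.le_of_dvd (by norm_num) (Dvd.intro m hmn)
  have h5 : Nat.card (Sylow 5 H) % 5 = 1 := card_sylow_modEq_one 5 H
  rcases hc with e | e | e
  · omega
  · omega
  · rcases (Nat.Prime.dvd_mul (by norm_num : Nat.Prime 11)).1 e with h | h
    · have : (11 : ℕ) ∣ 144 := hmn ▸ h.trans (dvd_mul_right _ _)
      norm_num at this
    · omega

end Cfsg.Lib.MEleven
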