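import Cfsg.Agent.Lib.MEleven.Bounds

/-!
The elements of a Sylow 2-subgroup outside the eight-group, a quaternion group, and the bounds for a
character of degree 10.
-/

set_option autoImplicit false
set_option linter.style.haveILetI false
set_option linter.unusedSectionVars false

namespace Cfsg.Lib.MEleven

open Cfsg Cfsg.Lib.Char Cfsg.Lib.Block

universe u

noncomputable local instance (priority := high) fintypeSubgroupMElevenQuaternion {A : Type u}
    [Group A] [Fintype A] (H : Subgroup A) : Fintype H := Fintype.ofFinite H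

variable {G : Type u} [Group G] [Fintype G]
variable (hG : IsM11 G) [Fact (Nat.Prime 2)] [Fact (Nat.Prime 3)] [Fact (Nat.Prime 5)] [Fact (Nat.Prime 11)]

include hG

theorem ne_w (T : TwoData G) {x : G} (hn : ¬ T.InD x) : x ≠ T.w ∧ x ≠ T.w * T.z :=
  ⟨fun e => hn (e ▸ T.inD_cases_w), fun e => hn (e ▸ T.inD_cases_wz)⟩

theorem sq_shift (T : TwoData G) {x : G} (hx : x ∈ (T.S : Subgroup G)) (hn : ¬ T.InD x)
    (e : x * x = T.z) : x * T.t * (x * T.t) = T.w ∨ x * T.t * (x * T.t) = T.w * T.z := by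
  have h : x * T.t * (x * T.t) = x * T.t * x⁻¹ * T.z * T.t := by rw [← e]; group
  rcases T.outside_t hx hn with h' | h' <;> rw [h, h']
  · left
    rw [mul_assoc, ← T.tz_comm, ← mul_assoc, T.vt, mul_assoc, T.z_sq, mul_one]
  · right
    rw [mul_assoc T.v, T.z_sq, mul_one, T.vt]

theorem outside_mul_D (T : TwoData G) {x d : G} (hx : x ∈ (T.S : Subgroup G)) (hn : ¬ T.InD x)
    (hd : d ∈ (T.S : Subgroup G)) (hdD : T.InD d) : ¬ T.InD (x * d) := fun h => by
  apply hn
  have h1 := mul_mem (inD_mem_B hG T (mul_mem hx hd) h) (inv_mem (inD_mem_B hG T hd hdD))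
  rw [mul_inv_cancel_right] at h1
  exact inD_of_mem_B hG T hx h1

/-- The four elements outside the eight-group with square `z`, all conjugate to `w`. -/
theorem exists_square_z (T : TwoData G) : ∃ U : Finset G, U.card = 4 ∧
    (∀ x, x ∈ U ↔ x ∈ (T.S : Subgroup G) ∧ ¬ T.InD x ∧ x * x = T.z) ∧ (∀ x ∈ U, IsConj T.w x) := by
  classical
  obtain ⟨U, hU4, hU⟩ := exists_four hG T
  have hUsq : ∀ x ∈ U, x * x = T.z := by
    intro x hx
    obtain ⟨hS, hn, hc⟩ := hU x hx
    obtain ⟨g, hg⟩ := isConj_iff.1 hc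
    have ho : orderOf (x * x) = 2 := by
      rw [← pow_two, show orderOf (x ^ 2) = orderOf x / 2 from orderOf_pow_of_dvd (by norm_num) (by
        rw [← hg, show orderOf (g * T.w * g⁻¹) = orderOf T.w from (MulAut.conj g).orderOf_eq T.w,
          orderOf_w hG T]; norm_num), ← hg,
        show orderOf (g * T.w * g⁻¹) = orderOf T.w from (MulAut.conj g).orderOf_eq T.w, orderOf_w hG T]
    rcases T.outside_sq hS hn with e | e | e
    · exact e
    · rw [e, orderOf_w hG T] at ho; norm_num at ho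
    · rw [e, T.wz_eq_inv, orderOf_inv, orderOf_w hG T] at ho; norm_num at ho
  set R := (((T.S : Subgroup G) : Set G).toFinset) \ T.fD with hR
  have hR8 : R.card = 8 := by
    rw [hR, Finset.card_sdiff_of_subset (fun x hx => Set.mem_toFinset.2 (fD_mem hG T hx).1), card_fD hG T,
      Set.toFinset_card, ← Nat.card_eq_fintype_card, SetLike.coe_sort_coe, card_sylow_two hG T.S]
  set U' := R.filter (fun x => x * x = T.z) with hU'
  have hmem : ∀ x, x ∈ U' ↔ x ∈ (T.S : Subgroup G) ∧ ¬ T.InD x ∧ x * x = T.z := by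
    intro x
    simp only [hU', hR, Finset.mem_filter, Finset.mem_sdiff, Set.mem_toFinset, SetLike.mem_coe, mem_fD hG T]
    tauto
  have hshift : U'.map (mulRightEmbedding T.t) ⊆ R.filter (fun x => ¬ x * x = T.z) := by
    intro y hy
    obtain ⟨x, hx, rfl⟩ := Finset.mem_map.1 hy
    obtain ⟨hS, hn, hsq⟩ := (hmem x).1 hx
    rw [Finset.mem_filter, hR, Finset.mem_sdiff, Set.mem_toFinset, mulRightEmbedding_apply]
    refine ⟨⟨mul_mem hS T.t_mem, fun h => outside_mul_D hG T hS hn T.t_mem T.inD_t (fD_mem hG T h).2⟩, ?_⟩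
    have h4 := orderOf_w hG T
    rcases sq_shift hG T hS hn hsq with e | e <;> rw [e] <;> intro h'
    · rw [h', orderOf_z hG T] at h4; norm_num at h4
    · rw [← orderOf_inv, ← T.wz_eq_inv, h', orderOf_z hG T] at h4; norm_num at h4
  have hle : U'.card ≤ 4 := by
    have h1 := Finset.card_le_card hshift
    have h2 := Finset.card_filter_add_card_filter_not (s := R) (fun x => x * x = T.z)
    rw [Finset.card_map] at h1
    rw [← hU', hR8] at h2
    omega
  have heq : U = U' := Finset.eq_of_subset_of_card_le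
    (fun x hx => (hmem x).2 ⟨(hU x hx).1, (hU x hx).2.1, hUsq x hx⟩) (by rw [hU4]; exact hle)
  exact ⟨U, hU4, fun x => by rw [heq]; exact hmem x, fun x hx => (hU x hx).2.2⟩

theorem zpowers_w (T : TwoData G) {g : G} (h : g ∈ Subgroup.zpowers T.w) :
    g = 1 ∨ g = T.z ∨ g = T.w ∨ g = T.w * T.z := by
  obtain ⟨k, rfl⟩ := Subgroup.mem_zpowers_iff.1 h
  rw [← zpow_mod_orderOf T.w k, orderOf_w hG T]
  have h4 : k % ((4 : ℕ) : ℤ) = 0 ∨ k % ((4 : ℕ) : ℤ) = 1 ∨ k % ((4 : ℕ) : ℤ) = 2 ∨ k % ((4 : ℕ) : ℤ) = 3 := by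
    omega
  rcases h4 with e | e | e | e <;> rw [e]
  · exact Or.inl (zpow_zero _)
  · exact Or.inr (Or.inr (Or.inl (zpow_one _)))
  · exact Or.inr (Or.inl (by rw [zpow_ofNat, pow_two, T.w_sq]))
  · exact Or.inr (Or.inr (Or.inr (by rw [zpow_ofNat, pow_succ', pow_two, T.w_sq])))

/-- The sum of a character over the extension of a Sylow 3-subgroup by a quaternion group gives
nonnegativity at `w`. -/
theorem value_w_nonneg (T : TwoData G) (χ : IrrCharacter G) (h10 : deg χ = 10)
    (h3 : ∀ g : G, orderOf g = 3 → (χ : G → ℂ) g = 1) (hz : (χ : G → ℂ) T.z = 2) {a : ℤ}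
    (ha : (χ : G → ℂ) T.w = a) : 0 ≤ a := by
  classical
  obtain ⟨U, hU4, hU, hUc⟩ := exists_square_z hG T
  obtain ⟨x, hxU⟩ := Finset.card_pos.1 (by rw [hU4]; norm_num : 0 < U.card)
  obtain ⟨hxS, hxn, hxsq⟩ := (hU x).1 hxU
  -- `x` inverts `w`
  have hxw : x * T.w * x⁻¹ = T.w * T.z := by
    have hm : x * T.w * x⁻¹ = T.w ∨ x * T.w * x⁻¹ = T.w * T.z := by
      rw [show x * T.w * x⁻¹ = x * T.t * x⁻¹ * (x * T.v * x⁻¹) by rw [TwoData.w]; group]
      rcases T.outside_t hxS hxn with h1 | h1 <;> rcases T.outside_v hxS hxn with h2 | h2 <;> rw [h1, h2]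
      · right; rw [T.vt]
      · left; rw [← mul_assoc, T.vt, mul_assoc, T.z_sq, mul_one]
      · left; rw [mul_assoc, ← T.tz_comm, ← mul_assoc, T.vt, mul_assoc, T.z_sq, mul_one]
      · right; rw [mul_assoc, ← mul_assoc T.z, ← T.tz_comm, mul_assoc T.t, T.z_sq, mul_one, T.vt]
    refine hm.resolve_left fun e => ?_
    have hn' := outside_mul_D hG T hxS hxn T.w_mem T.inD_cases_w
    have h1 : x * T.w * (x * T.w) = 1 := by
      calc x * T.w * (x * T.w) = x * T.w * x⁻¹ * (x * x) * T.w := by group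
        _ = T.w * T.z * T.w := by rw [e, hxsq]
        _ = 1 := by rw [T.wz_eq_inv, inv_mul_cancel]
    have hne := T.outside_ne hn'
    rcases T.invol _ (mul_mem hxS T.w_mem) h1 hne.1 with e' | e' | e' | e' | e'
    exacts [hne.2.1 e', hne.2.2.1 e', hne.2.2.2.1 e', hne.2.2.2.2.1 e', hne.2.2.2.2.2 e']
  set K := Subgroup.zpowers T.w
  set fK : Finset G := {1, T.z, T.w, T.w * T.z} with hfK
  have hKmem : ∀ g, g ∈ fK ↔ g ∈ K := by
    intro g
    constructor
    · intro h
      simp only [hfK, Finset.mem_insert, Finset.mem_singleton] at h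
      have hzK : T.z ∈ K := T.w_sq ▸ mul_mem (Subgroup.mem_zpowers _) (Subgroup.mem_zpowers _)
      rcases h with rfl | rfl | rfl | rfl
      exacts [one_mem _, hzK, Subgroup.mem_zpowers _, mul_mem (Subgroup.mem_zpowers _) hzK]
    · intro h
      simpa [hfK] using zpowers_w hG T h
  have hKD : ∀ k ∈ K, k ∈ (T.S : Subgroup G) ∧ T.InD k := fun k hk => by
    rcases zpowers_w hG T hk with rfl | rfl | rfl | rfl
    exacts [⟨one_mem _, T.inD_one⟩, ⟨T.z_mem, T.inD_z⟩, ⟨T.w_mem, T.inD_cases_w⟩,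
      ⟨mul_mem T.w_mem T.z_mem, T.inD_cases_wz⟩]
  have hzK : T.z ∈ K := T.w_sq ▸ mul_mem (Subgroup.mem_zpowers _) (Subgroup.mem_zpowers _)
  have hxK : x * x ∈ K := hxsq.symm ▸ hzK
  have hxnorm : x ∈ Subgroup.normalizer (K : Set G) := by
    refine Subgroup.mem_normalizer_fintype fun k hk => ?_
    obtain ⟨i, rfl⟩ := Subgroup.mem_zpowers_iff.1 hk
    show x * T.w ^ i * x⁻¹ ∈ K
    rw [show x * T.w ^ i * x⁻¹ = (x * T.w * x⁻¹) ^ i from (map_zpow (MulAut.conj x).toMonoidHom T.w i), hxw]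
    exact zpow_mem (mul_mem (Subgroup.mem_zpowers _) hzK) i
  set Q := prodNorm (Subgroup.zpowers x) K fun p hp k hk =>
    (Subgroup.mem_normalizer_iff.1 ((Subgroup.zpowers_le.2 hxnorm) hp) k).1 hk with hQdef
  set fQ := fK ∪ fK.map (mulLeftEmbedding x) with hfQ
  have hQmem : ∀ g, g ∈ fQ ↔ g ∈ Q := by
    intro g
    rw [hQdef, mem_prodNorm, hfQ, Finset.mem_union, Finset.mem_map]
    constructor
    · rintro (h | ⟨k, hk, rfl⟩)
      · exact ⟨1, one_mem _, by rw [inv_one, one_mul]; exact (hKmem g).1 h⟩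
      · exact ⟨x, Subgroup.mem_zpowers _, by rw [mulLeftEmbedding_apply, inv_mul_cancel_left]; exact (hKmem k).1 hk⟩
    · rintro ⟨p, hp, hk⟩
      obtain ⟨i, rfl⟩ := Subgroup.mem_zpowers_iff.1 hp
      rcases Int.even_or_odd' i with ⟨j, rfl | rfl⟩
      · left
        refine (hKmem g).2 ?_
        rw [← mul_inv_cancel_left (x ^ (2 * j)) g]
        exact mul_mem (by rw [zpow_mul, zpow_ofNat, pow_two]; exact zpow_mem hxK j) hk
      · right
        refine ⟨x⁻¹ * g, (hKmem _).2 ?_, by rw [mulLeftEmbedding_apply, mul_inv_cancel_left]⟩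
        rw [show x⁻¹ * g = x ^ (2 * j) * ((x ^ (2 * j + 1))⁻¹ * g) by group]
        exact mul_mem (by rw [zpow_mul, zpow_ofNat, pow_two]; exact zpow_mem hxK j) hk
  have hdK : Disjoint fK (fK.map (mulLeftEmbedding x)) := by
    rw [Finset.disjoint_left]
    intro g hg hg'
    obtain ⟨k, hk, rfl⟩ := Finset.mem_map.1 hg'
    rw [mulLeftEmbedding_apply] at hg
    exact outside_mul_D hG T hxS hxn (hKD k ((hKmem k).1 hk)).1 (hKD k ((hKmem k).1 hk)).2
      (hKD _ ((hKmem _).1 hg)).2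
  have hK4 : fK.card = 4 := by
    rw [← orderOf_w hG T, ← Nat.card_zpowers, Nat.card_eq_fintype_card]
    exact (Fintype.card_of_subtype _ hKmem).symm
  have hQ8 : Nat.card Q = 8 := by
    rw [Nat.card_eq_fintype_card, Fintype.card_of_subtype _ hQmem, hfQ, Finset.card_union_of_disjoint hdK,
      Finset.card_map, hK4]
  have hxk : ∀ k ∈ fK, x * k ∈ U := by
    intro k hk
    have hk' := hKD k ((hKmem k).1 hk)
    refine (hU _).2 ⟨mul_mem hxS hk'.1, outside_mul_D hG T hxS hxn hk'.1 hk'.2, ?_⟩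
    simp only [hfK, Finset.mem_insert, Finset.mem_singleton] at hk
    have hz1 : x * T.z * (x * T.z) = T.z := by
      rw [show x * T.z * (x * T.z) = x * (T.z * x) * T.z by group, ← T.z_comm x hxS, ← mul_assoc x x, hxsq,
        mul_assoc, T.z_sq, mul_one]
    have hw1 : x * T.w * (x * T.w) = T.z := by
      calc x * T.w * (x * T.w) = x * T.w * x⁻¹ * (x * x) * T.w := by group
        _ = T.z := by rw [hxw, hxsq, mul_assoc T.w, T.z_sq, mul_one, T.w_sq]
    have hwz : x * (T.w * T.z) * (x * (T.w * T.z)) = T.z := by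
      calc x * (T.w * T.z) * (x * (T.w * T.z)) = x * T.w * (T.z * x * T.w) * T.z := by group
        _ = x * T.w * (x * T.w * T.z) * T.z := by
          rw [T.z_comm _ (mul_mem hxS T.w_mem), ← mul_assoc T.z]
        _ = T.z := by rw [mul_assoc, mul_assoc (x * T.w) T.z, T.z_sq, mul_one, hw1]
    rcases hk with rfl | rfl | rfl | rfl
    · rw [mul_one, hxsq]
    · exact hz1
    · exact hw1
    · exact hwz
  have hval : ∀ g ∈ Q, g ≠ 1 → g ≠ T.z → (χ : G → ℂ) g = a ∧ g * g = T.z := by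
    intro g hg h1 hgz
    rcases Finset.mem_union.1 ((hQmem g).2 hg) with h | h
    · simp only [hfK, Finset.mem_insert, Finset.mem_singleton] at h
      rcases h with rfl | rfl | rfl | rfl
      · exact absurd rfl h1
      · exact absurd rfl hgz
      · exact ⟨ha, T.w_sq⟩
      · refine ⟨?_, ?_⟩
        · rw [T.wz_eq_inv, ← T.t_conj_w, χ.2.isClassFunction, ha]
        · rw [mul_assoc, ← mul_assoc T.z, ← T.z_comm T.w T.w_mem, mul_assoc T.w T.z T.z, T.z_sq, mul_one, T.w_sq]
    · obtain ⟨k, hk, rfl⟩ := Finset.mem_map.1 h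
      rw [mulLeftEmbedding_apply]
      refine ⟨?_, ((hU _).1 (hxk k hk)).2.2⟩
      obtain ⟨p, hp⟩ := isConj_iff.1 (hUc _ (hxk k hk))
      rw [← hp, χ.2.isClassFunction, ha]
  have hQS : Q ≤ (T.S : Subgroup G) := fun g hg => by
    rcases Finset.mem_union.1 ((hQmem g).2 hg) with h | h
    · exact (hKD g ((hKmem g).1 h)).1
    · obtain ⟨k, hk, rfl⟩ := Finset.mem_map.1 h
      exact mul_mem hxS (hKD k ((hKmem k).1 hk)).1
  set A := prodNorm Q (T.Y : Subgroup G) fun p hp k hk =>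
    (Subgroup.mem_normalizer_iff.1 (T.S_le (hQS hp)) k).1 hk with hAdef
  have hQY : ∀ p ∈ Q, p ∈ (T.Y : Subgroup G) → p = 1 := fun p hp hpY => by
    have h1 : orderOf p ∣ 16 := card_sylow_two hG T.S ▸ Subgroup.orderOf_dvd_natCard _ (hQS hp)
    have h2 : orderOf p ∣ 9 := card_sylow_three hG T.Y ▸ Subgroup.orderOf_dvd_natCard _ hpY
    exact orderOf_eq_one_iff.1 (Nat.dvd_one.1 (by simpa using Nat.dvd_gcd h1 h2))
  let e : Q × (T.Y : Subgroup G) ≃ A := Equiv.ofBijective
    (fun p => ⟨(p.1 : G) * (p.2 : G), ⟨p.1, p.1.2, by rw [inv_mul_cancel_left]; exact p.2.2⟩⟩) (by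
      constructor
      · rintro ⟨p, y⟩ ⟨p', y'⟩ h
        have h' : (p : G) * (y : G) = (p' : G) * (y' : G) := congrArg Subtype.val h
        have h'' : (p' : G)⁻¹ * (p : G) = (y' : G) * (y : G)⁻¹ := by
          rw [eq_mul_inv_iff_mul_eq, mul_assoc, h', inv_mul_cancel_left]
        have hp := hQY _ (mul_mem (inv_mem p'.2) p.2) (h'' ▸ mul_mem y'.2 (inv_mem y.2))
        have hp' : p = p' := Subtype.ext (inv_mul_eq_one.1 hp).symm
        subst hp'
        exact Prod.ext rfl (Subtype.ext (mul_left_cancel h'))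
      · rintro ⟨g, p, hp, hk⟩
        exact ⟨(⟨p, hp⟩, ⟨_, hk⟩), Subtype.ext (mul_inv_cancel_left _ _)⟩)
  have hA72 : Nat.card A = 72 := by
    rw [← Nat.card_congr e, Nat.card_prod, hQ8, card_sylow_three hG T.Y]
  obtain ⟨n, hn⟩ := exists_nat_sum χ A
  have hzfix : ∀ y ∈ (T.Y : Subgroup G), T.z * y = y * T.z → y = 1 := fun y hy h => by
    have hi := T.z_inv y hy
    rw [h, mul_inv_cancel_right] at hi
    by_contra hy1
    refine (three_dvd_orderOf hG hy hy1).2 ?_
    rw [orderOf_eq_prime (p := 2) (by rw [pow_two]; nth_rewrite 2 [hi]; exact mul_inv_cancel _) hy1]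
  set f : G → ℂ := fun p => if p = 1 then 18 else 9 * (χ : G → ℂ) p with hf
  have hin : ∀ p : Q, ∑ y : (T.Y : Subgroup G), (χ : G → ℂ) ((p : G) * y) = f p := by
    intro p
    by_cases hp1 : (p : G) = 1
    · simp only [hf, if_pos hp1, hp1, one_mul]
      exact sum_sylow_three hG T χ h3 h10
    · simp only [hf, if_neg hp1]
      refine sum_coset_eq hG T (T.S_le (hQS p.2)) (fun y hy hcm => ?_) χ
      by_cases hpz : (p : G) = T.z
      · exact hzfix y hy (hpz ▸ hcm)
      · refine hzfix y hy ?_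
        rw [← (hval p p.2 hp1 hpz).2, mul_assoc, hcm, ← mul_assoc, hcm, mul_assoc]
  have htot : ∑ g : A, (χ : G → ℂ) g = 36 + 54 * (a : ℂ) := by
    rw [← e.sum_comp fun g : A => (χ : G → ℂ) g, Fintype.sum_prod_type]
    show ∑ p : Q, ∑ y : (T.Y : Subgroup G), (χ : G → ℂ) ((p : G) * y) = _
    rw [Finset.sum_congr rfl fun p _ => hin p, sum_subgroup_eq hQmem f]
    have h1Q : (1 : G) ∈ fQ := (hQmem 1).2 (one_mem _)
    have hzQ : T.z ∈ fQ.erase 1 := Finset.mem_erase.2 ⟨T.z_ne, Finset.mem_union_left _ ((hKmem _).2 hzK)⟩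
    rw [← Finset.add_sum_erase _ _ h1Q, ← Finset.add_sum_erase _ _ hzQ,
      Finset.sum_congr rfl fun p hp => show f p = 9 * (a : ℂ) by
        obtain ⟨hpz, hp⟩ := Finset.mem_erase.1 hp
        obtain ⟨hp1, hp⟩ := Finset.mem_erase.1 hp
        rw [hf]
        simp only [if_neg hp1]
        rw [(hval p ((hQmem p).1 hp) hp1 hpz).1],
      Finset.sum_const, Finset.card_erase_of_mem hzQ, Finset.card_erase_of_mem h1Q]
    rw [show fQ.card = 8 by rw [hfQ, Finset.card_union_of_disjoint hdK, Finset.card_map, hK4]]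
    simp only [hf, if_pos, if_neg T.z_ne, hz, nsmul_eq_mul]
    push_cast
    ring
  rw [htot, hA72] at hn
  have hn' : (36 : ℤ) + 54 * a = 72 * n := by
    have : ((36 + 54 * a : ℤ) : ℂ) = ((72 * n : ℤ) : ℂ) := by push_cast at hn ⊢; exact hn
    exact_mod_cast this
  omega

/-- The value at `w` is at least 2. -/
theorem value_w_ge (T : TwoData G) (χ : IrrCharacter G) (h10 : deg χ = 10)
    (h3 : ∀ g : G, orderOf g = 3 → (χ : G → ℂ) g = 1) (hz : (χ : G → ℂ) T.z = 2) :
    ∃ a : ℤ, (χ : G → ℂ) T.w = a ∧ 2 ≤ a ∧ ∃ b : ℕ, (36 : ℤ) + 6 * a = 24 * b := by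
  obtain ⟨a, ha⟩ := int_value_w hG T χ
  have h0 := value_w_nonneg hG T χ h10 h3 hz ha
  obtain ⟨n, hn⟩ := exists_nat_sum χ T.B
  obtain ⟨hB, hs⟩ := sum_B hG T χ h3
  rw [hs, hB, apply_one, h10, hz, ha] at hn
  have hn' : (36 : ℤ) + 6 * a = 24 * n := by
    have : ((36 + 6 * a : ℤ) : ℂ) = ((24 * n : ℤ) : ℂ) := by push_cast at hn ⊢; linear_combination hn
    exact_mod_cast this
  exact ⟨a, ha, by omega, n, hn'⟩

/-- The value at an element outside the eight-group with square `w` or its inverse. -/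
theorem norm_outside (T : TwoData G) (χ : IrrCharacter G) (hne : χ ≠ trivChar G) {x : G}
    (hx : x * x = T.w ∨ x * x = T.w * T.z) : ‖(χ : G → ℂ) x‖ ^ 2 ≤ 15 := by
  classical
  set C := Subgroup.centralizer ({x} : Set G)
  have hle : C ≤ Subgroup.centralizer ({T.w} : Set G) := fun g hg => by
    have h := Subgroup.mem_centralizer_singleton_iff.1 hg
    have hxx : g * (x * x) = x * x * g := by rw [← mul_assoc, h, mul_assoc, h, mul_assoc]
    refine Subgroup.mem_centralizer_singleton_iff.2 ?_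
    rcases hx with e | e <;> rw [e] at hxx
    · exact hxx
    · rw [T.wz_eq_inv] at hxx
      exact ((show Commute g T.w⁻¹ from hxx).inv_right).eq |> fun h => by simpa using h
  have hd48 : Nat.card C ∣ 48 := card_centralizer_z hG T ▸ Subgroup.card_dvd_of_le fun g hg => by
    have h := Subgroup.mem_centralizer_singleton_iff.1 (hle hg)
    refine Subgroup.mem_centralizer_singleton_iff.2 ?_
    rw [← T.w_sq, ← mul_assoc, h, mul_assoc, h, mul_assoc]
  have h3 : ¬ 3 ∣ Nat.card C := fun h => by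
    obtain ⟨⟨c, hcC⟩, hc⟩ := exists_prime_orderOf_dvd_card' 3 h
    rw [Subgroup.orderOf_mk] at hc
    have hd := Subgroup.orderOf_dvd_natCard _ (Subgroup.mem_centralizer_singleton_iff.2
      (Subgroup.mem_centralizer_singleton_iff.1 (hle hcC)).symm : T.w ∈ Subgroup.centralizer ({c} : Set G))
    rw [card_centralizer_three hG (by rw [hc]) (by rw [hc]; norm_num), orderOf_w hG T] at hd
    norm_num at hd
  have h16 : Nat.card C ∣ 16 := by
    have hco : Nat.Coprime (Nat.card C) 3 := (Nat.prime_three.coprime_iff_not_dvd.2 h3).symm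
    exact hco.dvd_of_dvd_mul_left (by simpa using hd48)
  have hC : (Nat.card C : ℝ) ≤ 16 := by exact_mod_cast Nat.le_of_dvd (by norm_num) h16
  have h := sum_column_normSq x
  have hsub := Finset.sum_le_sum_of_subset_of_nonneg (f := fun ψ : IrrCharacter G => ‖(ψ : G → ℂ) x‖ ^ 2)
    (Finset.subset_univ ({trivChar G, χ} : Finset (IrrCharacter G))) fun _ _ _ => sq_nonneg _
  rw [h, Finset.sum_pair hne.symm, trivChar_coe, norm_one, one_pow] at hsub
  linarith

end Cfsg.Lib.MEleven
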