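import Cfsg.Agent.Lib.MEleven.Three
import Cfsg.Agent.Lib.Invol.Isolated
import Cfsg.Agent.Lib.ZStar.Main

/-!
A Sylow 3-subgroup of a simple group of order 7920 is its own centraliser.
-/

set_option autoImplicit false
set_option linter.style.haveILetI false
set_option linter.unusedSectionVars false

namespace Cfsg.Lib.MEleven

open Cfsg

universe u

noncomputable local instance (priority := high) fintypeSubgroupMElevenSelfThree {A : Type u}
    [Group A] [Fintype A] (H : Subgroup A) : Fintype H := Fintype.ofFinite H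

variable {G : Type u} [Group G] [Fintype G] (hG : IsM11 G) [Fact (Nat.Prime 2)] [Fact (Nat.Prime 3)]
  [Fact (Nat.Prime 5)] [Fact (Nat.Prime 11)]

include hG

omit [Fact (Nat.Prime 5)] [Fact (Nat.Prime 11)] [Fact (Nat.Prime 2)] in
theorem centralizer_three_le {Y : Sylow 3 G} {y : G} (hy : y ∈ (Y : Subgroup G)) :
    Subgroup.centralizer ((Y : Subgroup G) : Set G) ≤ Subgroup.centralizer ({y} : Set G) := fun _ hc =>
  Subgroup.mem_centralizer_singleton_iff.2 (Subgroup.mem_centralizer_iff.1 hc y hy).symm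

omit [Fact (Nat.Prime 5)] [Fact (Nat.Prime 11)] [Fact (Nat.Prime 2)] in
/-- An element of the normaliser whose square centralises `Y` either centralises a nontrivial element or
inverts `Y`. -/
theorem inverts_of_sq {Y : Sylow 3 G} {s : G} (hs : s ∈ Subgroup.normalizer ((Y : Subgroup G) : Set G))
    (h2 : ∀ y ∈ (Y : Subgroup G), s * s * y = y * (s * s))
    (hfix : ∀ y ∈ (Y : Subgroup G), s * y = y * s → y = 1) :
    ∀ y ∈ (Y : Subgroup G), s * y * s⁻¹ = y⁻¹ := by
  intro y hy
  have hy' : s * y * s⁻¹ ∈ (Y : Subgroup G) := (Subgroup.mem_normalizer_iff.1 hs y).1 hy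
  set w := y * (s * y * s⁻¹) with hw
  have hsw : s * w = w * s := by
    have h : s * w * s⁻¹ = w := by
      calc s * w * s⁻¹ = (s * y * s⁻¹) * (s * s * y * (s * s)⁻¹) := by rw [hw]; group
        _ = (s * y * s⁻¹) * (y * (s * s) * (s * s)⁻¹) := by rw [h2 y hy]
        _ = (s * y * s⁻¹) * y := by group
        _ = w := comm_three hG Y hy' hy
    calc s * w = s * w * s⁻¹ * s := by group
      _ = w * s := by rw [h]
  have h1 := hfix w (mul_mem hy hy') hsw
  exact eq_inv_of_mul_eq_one_right h1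

omit [Fact (Nat.Prime 2)] in
theorem card_sylow_two (S : Sylow 2 G) [Fact (Nat.Prime 2)] : Nat.card (S : Subgroup G) = 16 := by
  rw [Small.card_sylow 4 495 (by rw [hG.2]; norm_num) (by decide) S]
  norm_num

theorem sylow_two_le_normalizer (Y : Sylow 3 G) :
    ∃ S : Sylow 2 G, (S : Subgroup G) ≤ Subgroup.normalizer ((Y : Subgroup G) : Set G) := by
  obtain ⟨S₀, hS₀⟩ := Sylow.exists_subgroup_card_pow_prime 2
    (show 2 ^ 4 ∣ Nat.card (Subgroup.normalizer ((Y : Subgroup G) : Set G)) by
      rw [card_normalizer_three hG Y]; norm_num)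
  obtain ⟨S⟩ : Nonempty (Sylow 2 G) := inferInstance
  have h : Nat.card (S₀.map (Subgroup.normalizer ((Y : Subgroup G) : Set G)).subtype) =
      2 ^ (Nat.card G).factorization 2 := by
    rw [Subgroup.card_map_of_injective (Subgroup.subtype_injective _), hS₀, ← S.card_eq_multiplicity,
      card_sylow_two hG S]
    norm_num
  exact ⟨Sylow.ofCard _ h, Subgroup.map_subtype_le _⟩

theorem not_five_eleven_of_involution {v : G} (hv : orderOf v = 2) :
    ¬ 5 ∣ Nat.card (Subgroup.centralizer ({v} : Set G)) ∧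
      ¬ 11 ∣ Nat.card (Subgroup.centralizer ({v} : Set G)) := by
  constructor <;> intro h
  · obtain ⟨⟨x, hxC⟩, hx⟩ := exists_prime_orderOf_dvd_card' 5 h
    rw [Subgroup.orderOf_mk] at hx
    have hd := Subgroup.orderOf_dvd_natCard _ (Subgroup.mem_centralizer_singleton_iff.2
      (Subgroup.mem_centralizer_singleton_iff.1 hxC).symm : v ∈ Subgroup.centralizer ({x} : Set G))
    rw [card_centralizer_five hG hx, hv] at hd
    norm_num at hd
  · obtain ⟨⟨x, hxC⟩, hx⟩ := exists_prime_orderOf_dvd_card' 11 h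
    rw [Subgroup.orderOf_mk] at hx
    have hd := Subgroup.orderOf_dvd_natCard _ (Subgroup.mem_centralizer_singleton_iff.2
      (Subgroup.mem_centralizer_singleton_iff.1 hxC).symm : v ∈ Subgroup.centralizer ({x} : Set G))
    rw [card_centralizer_eleven hG hx, hv] at hd
    norm_num at hd

theorem centralizer_sylow_three (Y : Sylow 3 G) :
    Subgroup.centralizer ((Y : Subgroup G) : Set G) = (Y : Subgroup G) := by
  classical
  haveI := hG.1
  set C := Subgroup.centralizer ((Y : Subgroup G) : Set G) with hC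
  set N := Subgroup.normalizer ((Y : Subgroup G) : Set G) with hN
  have hYC : (Y : Subgroup G) ≤ C := fun a ha =>
    Subgroup.mem_centralizer_iff.2 fun b hb => comm_three hG Y hb ha
  by_contra hne
  have hCy : ∀ y ∈ (Y : Subgroup G), y ≠ 1 → Nat.card (Subgroup.centralizer ({y} : Set G)) = 18 :=
    fun y hy hy1 => card_centralizer_three hG (three_dvd_orderOf hG hy hy1).1 (three_dvd_orderOf hG hy hy1).2
  obtain ⟨y₀, hy₀, hy₀1⟩ : ∃ y ∈ (Y : Subgroup G), y ≠ 1 := by
    by_contra hno
    push Not at hno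
    have := card_sylow_three hG Y
    rw [(Subgroup.eq_bot_iff_forall _).2 hno, Subgroup.card_bot] at this
    omega
  have hC18 : Nat.card C = 18 := by
    have h1 : Nat.card C ∣ 18 := hCy y₀ hy₀ hy₀1 ▸ Subgroup.card_dvd_of_le (centralizer_three_le hG hy₀)
    have h2 : Nat.card (Y : Subgroup G) ∣ Nat.card C := Subgroup.card_dvd_of_le hYC
    rw [card_sylow_three hG Y] at h2
    obtain ⟨m, hm⟩ := h2
    have hm1 : m ≠ 1 := fun e => hne (Subgroup.eq_of_le_of_card_ge hYC
      (by rw [card_sylow_three hG Y, hm, e])).symm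
    have := Nat.le_of_dvd (by norm_num) h1
    have : 0 < Nat.card C := Nat.card_pos
    omega
  have hCeq : ∀ y ∈ (Y : Subgroup G), y ≠ 1 → Subgroup.centralizer ({y} : Set G) = C := fun y hy hy1 =>
    (Subgroup.eq_of_le_of_card_ge (centralizer_three_le hG hy) (by rw [hCy y hy hy1, hC18])).symm
  obtain ⟨⟨v, hvC⟩, hv⟩ := exists_prime_orderOf_dvd_card' (G := C) 2 (by rw [hC18]; norm_num)
  rw [Subgroup.orderOf_mk] at hv
  have hv2 : v * v = 1 := by rw [← pow_two, ← hv, pow_orderOf_eq_one]
  have hv1 : v ≠ 1 := fun e => by rw [e, orderOf_one] at hv; norm_num at hv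
  have hvY : v ∉ (Y : Subgroup G) := fun h => (three_dvd_orderOf hG h hv1).2 (by rw [hv])
  -- the elements of `C`
  have hcover : ∀ x ∈ C, x ∈ (Y : Subgroup G) ∨ x * v ∈ (Y : Subgroup G) := by
    intro x hx
    have hidx : ((Y : Subgroup G).subgroupOf C).index = 2 := by
      have h := Subgroup.index_mul_card ((Y : Subgroup G).subgroupOf C)
      rw [Nat.card_congr (Subgroup.subgroupOfEquivOfLe hYC).toEquiv, card_sylow_three hG Y, hC18] at h
      omega
    by_cases hxY : x ∈ (Y : Subgroup G)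
    · exact Or.inl hxY
    · right
      exact (Subgroup.mul_mem_iff_of_index_two hidx (a := ⟨x, hx⟩) (b := ⟨v, hvC⟩)).2
        (iff_of_false hxY hvY)
  have huniq : ∀ x ∈ C, x * x = 1 → x = 1 ∨ x = v := by
    intro x hx hx2
    rcases hcover x hx with h | h
    · left
      by_contra h1
      refine (three_dvd_orderOf hG h h1).2 ?_
      rw [orderOf_eq_prime (p := 2) (by rw [pow_two]; exact hx2) h1]
    · right
      set y := x * v
      have hxv : x = y * v := by rw [mul_assoc, hv2, mul_one]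
      have hc := Subgroup.mem_centralizer_iff.1 hvC y h
      have hy2 : y * y = 1 := by
        rw [hxv, mul_assoc, ← mul_assoc v, ← hc, mul_assoc y, hv2, mul_one] at hx2
        exact hx2
      have : y = 1 := by
        by_contra h1
        refine (three_dvd_orderOf hG h h1).2 ?_
        rw [orderOf_eq_prime (p := 2) (by rw [pow_two]; exact hy2) h1]
      rw [hxv, this, one_mul]
  -- the normaliser is the centraliser of `v`
  have hNv : N ≤ Subgroup.centralizer ({v} : Set G) := by
    intro n hn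
    rw [Subgroup.mem_centralizer_singleton_iff]
    have hmem : n * v * n⁻¹ ∈ C := by
      rw [hC, Subgroup.mem_centralizer_iff]
      intro y hy
      have hy' : n⁻¹ * y * n ∈ (Y : Subgroup G) := (Subgroup.mem_normalizer_iff''.1 hn y).1 hy
      have := Subgroup.mem_centralizer_iff.1 hvC _ hy'
      calc y * (n * v * n⁻¹) = n * ((n⁻¹ * y * n) * v) * n⁻¹ := by group
        _ = n * (v * (n⁻¹ * y * n)) * n⁻¹ := by rw [this]
        _ = n * v * n⁻¹ * y := by group
    rcases huniq _ hmem (by
      calc n * v * n⁻¹ * (n * v * n⁻¹) = n * (v * v) * n⁻¹ := by group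
        _ = 1 := by rw [hv2]; group) with h | h
    · exact absurd (conj_eq_one_iff.1 h) hv1
    · exact mul_inv_eq_iff_eq_mul.1 h
  have hCv : Subgroup.centralizer ({v} : Set G) = N := by
    refine (Subgroup.eq_of_le_of_card_ge hNv ?_).symm
    obtain ⟨n5, n11⟩ := not_five_eleven_of_involution hG hv
    have hd : Nat.card (Subgroup.centralizer ({v} : Set G)) ∣ 7920 := hG.2 ▸ Subgroup.card_subgroup_dvd_card _
    have h144 : 144 ∣ Nat.card (Subgroup.centralizer ({v} : Set G)) := by
      rw [← card_normalizer_three hG Y]; exact Subgroup.card_dvd_of_le hNv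
    have hmem := (Finset.mem_filter.2 ⟨Nat.mem_divisors.2 ⟨hd, by norm_num⟩, h144, n5, n11⟩ :
      Nat.card (Subgroup.centralizer ({v} : Set G)) ∈
        (Nat.divisors 7920).filter (fun n => 144 ∣ n ∧ ¬ 5 ∣ n ∧ ¬ 11 ∣ n))
    rw [show (Nat.divisors 7920).filter (fun n => 144 ∣ n ∧ ¬ 5 ∣ n ∧ ¬ 11 ∣ n) = {144} by decide +kernel,
      Finset.mem_singleton] at hmem
    rw [hmem, hN, card_normalizer_three hG Y]
  obtain ⟨S, hSN⟩ := sylow_two_le_normalizer hG Y
  have hS16 := card_sylow_two hG S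
  have hSC : ∀ x ∈ (S : Subgroup G), x ∈ C → x = 1 ∨ x = v := by
    intro x hx hxC
    refine huniq x hxC ?_
    have h1 : orderOf x ∣ 16 := hS16 ▸ Subgroup.orderOf_dvd_natCard _ hx
    have h2 : orderOf x ∣ 18 := hC18 ▸ Subgroup.orderOf_dvd_natCard _ hxC
    rw [← pow_two]
    exact orderOf_dvd_iff_pow_eq_one.1 (by simpa using Nat.dvd_gcd h1 h2)
  have hcent : ∀ n ∈ N, n * v = v * n := fun n hn => Subgroup.mem_centralizer_singleton_iff.1 (hNv hn)
  have hvS : v ∈ (S : Subgroup G) := by
    have hp : IsPGroup 2 (Subgroup.zpowers v) := IsPGroup.of_card (n := 1) (by rw [Nat.card_zpowers, hv, pow_one])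
    have hle : Subgroup.zpowers v ≤ Subgroup.normalizer ((S : Subgroup G) : Set G) := by
      rw [Subgroup.zpowers_le]
      refine Subgroup.mem_normalizer_iff.2 fun s => ?_
      constructor
      · intro hs
        have h := hcent s (hSN hs)
        rwa [← h, mul_inv_cancel_right]
      · intro hs
        have h := hcent _ (hSN hs)
        have e : s = v * s * v⁻¹ := by
          calc s = v⁻¹ * (v * s * v⁻¹ * v) := by group
            _ = v⁻¹ * (v * (v * s * v⁻¹)) := by rw [h]
            _ = v * s * v⁻¹ := by group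
        rw [e]; exact hs
    exact (inf_eq_left.1 ((IsPGroup.inf_normalizer_sylow hp S).symm.trans (inf_eq_left.2 hle)))
      (Subgroup.mem_zpowers v)
  -- elements of `S` squaring into `⟨v⟩`
  have hpair : ∀ a ∈ (S : Subgroup G), ∀ b ∈ (S : Subgroup G), (a * a = 1 ∨ a * a = v) → (b * b = 1 ∨ b * b = v) →
      a ≠ 1 → a ≠ v → b ≠ 1 → b ≠ v → b = a ∨ b = a * v := by
    intro a ha b hb ha2 hb2 ha1 hav hb1 hbv
    have inv : ∀ s ∈ (S : Subgroup G), (s * s = 1 ∨ s * s = v) → s ≠ 1 → s ≠ v →
        ∀ y ∈ (Y : Subgroup G), s * y * s⁻¹ = y⁻¹ := by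
      intro s hs hs2 hs1 hsv
      refine inverts_of_sq hG (hSN hs) (fun y hy => ?_) fun y hy hsy => ?_
      · rcases hs2 with e | e <;> rw [e]
        · rw [one_mul, mul_one]
        · exact (Subgroup.mem_centralizer_iff.1 hvC y hy).symm
      · by_contra hy1
        have hsC : s ∈ C := by
          rw [← hCeq y hy hy1, Subgroup.mem_centralizer_singleton_iff]
          exact hsy
        rcases hSC s hs hsC with e | e
        exacts [hs1 e, hsv e]
    have hab : a⁻¹ * b ∈ C := by
      refine Subgroup.mem_centralizer_iff.2 fun y hy => ?_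
      have e1 := inv a ha ha2 ha1 hav y hy
      have e2 := inv b hb hb2 hb1 hbv y hy
      calc y * (a⁻¹ * b) = a⁻¹ * (a * y * a⁻¹) * b := by group
        _ = a⁻¹ * y⁻¹ * b := by rw [e1]
        _ = a⁻¹ * (b * y * b⁻¹) * b := by rw [e2]
        _ = a⁻¹ * b * y := by group
    rcases hSC _ (mul_mem (inv_mem ha) hb) hab with e | e
    · exact Or.inl (inv_mul_eq_one.1 e).symm
    · exact Or.inr (by rw [← e, mul_inv_cancel_left])
  -- another conjugate of `v`
  obtain ⟨g, hgS, hgne⟩ : ∃ g : G, g * v * g⁻¹ ∈ (S : Subgroup G) ∧ g * v * g⁻¹ ≠ v := by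
    by_contra hno
    push Not at hno
    have h := ZStar.mem_center_of_isolated (oddCore_eq_bot hG) (Invol.isolated_of_sylow S hv hno)
    rw [center_eq_bot hG, Subgroup.mem_bot] at h
    exact hv1 h
  set u := g * v * g⁻¹ with hu
  have hu2 : u * u = 1 := by
    calc u * u = g * (v * v) * g⁻¹ := by rw [hu]; group
      _ = 1 := by rw [hv2]; group
  have hu1 : u ≠ 1 := fun e => hv1 (conj_eq_one_iff.1 e)
  have huv : u * v = v * u := hcent u (hSN hgS)
  have huv2 : u * v * (u * v) = 1 := by
    rw [mul_assoc, ← mul_assoc v, ← huv, mul_assoc u v v, hv2, mul_one, hu2]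
  have hV : ∀ a ∈ (S : Subgroup G), (a * a = 1 ∨ a * a = v) → a = 1 ∨ a = v ∨ a = u ∨ a = u * v := by
    intro a ha ha2
    by_cases h1 : a = 1
    · exact Or.inl h1
    by_cases h2 : a = v
    · exact Or.inr (Or.inl h2)
    rcases hpair u hgS a ha (Or.inl hu2) ha2 hu1 hgne h1 h2 with e | e
    exacts [Or.inr (Or.inr (Or.inl e)), Or.inr (Or.inr (Or.inr e))]
  have hnosq : ∀ a ∈ (S : Subgroup G), a * a ≠ v := by
    intro a ha e
    rcases hV a ha (Or.inr e) with rfl | rfl | rfl | rfl
    · rw [one_mul] at e; exact hv1 e.symm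
    · rw [hv2] at e; exact hv1 e.symm
    · rw [hu2] at e; exact hv1 e.symm
    · rw [huv2] at e; exact hv1 e.symm
  have hnosqu : ∀ a ∈ (S : Subgroup G), ∀ h : G, a * a ≠ h * v * h⁻¹ := by
    intro a ha h e
    set x := h⁻¹ * a * h
    have hx : x * x = v := by
      calc x * x = h⁻¹ * (a * a) * h := by simp only [x]; group
        _ = v := by rw [e]; group
    have hxN : x ∈ N := by
      rw [← hCv, Subgroup.mem_centralizer_singleton_iff, ← hx]
      exact (mul_assoc _ _ _).symm
    obtain ⟨i, hi⟩ := S.2 ⟨a, ha⟩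
    have hxp : x ^ 2 ^ i = 1 := by
      have hi' : a ^ 2 ^ i = 1 := congrArg Subtype.val hi
      have : x ^ 2 ^ i = h⁻¹ * a ^ 2 ^ i * h := by
        have := conj_pow (a := h⁻¹) (b := a) (i := 2 ^ i)
        rwa [inv_inv] at this
      rw [this, hi']; group
    have hp : IsPGroup 2 (Subgroup.zpowers (⟨x, hxN⟩ : N)) := by
      intro w
      obtain ⟨m, hm⟩ := Subgroup.mem_zpowers_iff.1 w.2
      refine ⟨i, Subtype.ext ?_⟩
      rw [SubmonoidClass.coe_pow, ← hm, Subgroup.coe_one, ← zpow_natCast, ← zpow_mul, mul_comm, zpow_mul,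
        zpow_natCast]
      have : (⟨x, hxN⟩ : N) ^ 2 ^ i = 1 := Subtype.ext hxp
      rw [this, one_zpow]
    obtain ⟨R, hR⟩ := hp.exists_le_sylow
    obtain ⟨n, hn⟩ := MulAction.exists_smul_eq N R (S.subtype hSN)
    have hmem : n * ⟨x, hxN⟩ * n⁻¹ ∈ ((S.subtype hSN : Sylow 2 N) : Subgroup N) := by
      rw [← hn, Sylow.coe_subgroup_smul]
      exact ⟨⟨x, hxN⟩, hR (Subgroup.mem_zpowers _), rfl⟩
    have hmem' : (n : G) * x * (n : G)⁻¹ ∈ (S : Subgroup G) := hmem
    refine hnosq _ hmem' ?_
    calc (n : G) * x * (n : G)⁻¹ * ((n : G) * x * (n : G)⁻¹) = (n : G) * (x * x) * (n : G)⁻¹ := by group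
      _ = v := by rw [hx, hcent n n.2, mul_inv_cancel_right]
  -- an element squaring to `u * v`
  obtain ⟨s, hs, hsq⟩ : ∃ s ∈ (S : Subgroup G), s * s = u * v := by
    obtain ⟨s₀, hs₀, hs₀V⟩ : ∃ s ∈ (S : Subgroup G), s * s ≠ 1 := by
      by_contra hno
      push Not at hno
      have hsub : ((S : Subgroup G) : Set G).toFinset ⊆ {1, v, u, u * v} := fun a ha => by
        have ha' := Set.mem_toFinset.1 ha
        rcases hV a ha' (Or.inl (hno a ha')) with e | e | e | e <;> simp [e]
      have h := Finset.card_le_card hsub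
      rw [Set.toFinset_card, ← Nat.card_eq_fintype_card, SetLike.coe_sort_coe, hS16] at h
      have := h.trans (Finset.card_le_four)
      omega
    have key : ∀ k : ℕ, ∀ s ∈ (S : Subgroup G), s * s ≠ 1 → s ^ 2 ^ k = 1 →
        ∃ s' ∈ (S : Subgroup G), s' * s' ≠ 1 ∧ s' * s' * (s' * s') = 1 := by
      intro k
      induction k with
      | zero =>
        intro s _ hne h
        rw [pow_zero, pow_one] at h
        exact absurd (by rw [h, one_mul]) hne
      | succ k ih =>
        intro s hs hne h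
        by_cases h4 : s * s * (s * s) = 1
        · exact ⟨s, hs, hne, h4⟩
        · exact ih (s * s) (mul_mem hs hs) h4 (by rw [← pow_two, ← pow_mul, ← pow_succ', h])
    obtain ⟨i, hi⟩ := S.2 ⟨s₀, hs₀⟩
    obtain ⟨s, hs, hne, h4⟩ := key i s₀ hs₀ hs₀V (congrArg Subtype.val hi)
    refine ⟨s, hs, ?_⟩
    rcases hV (s * s) (mul_mem hs hs) (Or.inl h4) with e | e | e | e
    · exact absurd e hne
    · exact absurd e (hnosq s hs)
    · exact absurd e (hnosqu s hs g)
    · exact e
  have hnconj : ∀ h : G, h * v * h⁻¹ ≠ u * v := fun h e => hnosqu s hs h (hsq.trans e.symm)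
  have hclass : ∀ h : G, h * v * h⁻¹ ∈ (S : Subgroup G) → h * v * h⁻¹ = v ∨ h * v * h⁻¹ = u := by
    intro h hm
    rcases hV _ hm (Or.inl (by
      calc h * v * h⁻¹ * (h * v * h⁻¹) = h * (v * v) * h⁻¹ := by group
        _ = 1 := by rw [hv2]; group)) with e | e | e | e
    · exact absurd (conj_eq_one_iff.1 e) hv1
    · exact Or.inl e
    · exact Or.inr e
    · exact absurd e (hnconj h)
  have hucent : ∀ a ∈ (S : Subgroup G), a * u = u * a := by
    intro a ha
    have e : a * g * v * (a * g)⁻¹ = a * u * a⁻¹ := by rw [hu]; group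
    rcases hclass (a * g) (by rw [e]; exact mul_mem (mul_mem ha hgS) (inv_mem ha)) with h | h <;> rw [e] at h
    · exfalso
      apply hgne
      calc u = a⁻¹ * (a * u * a⁻¹) * a := by group
        _ = a⁻¹ * (v * a) := by rw [h]; group
        _ = v := by rw [← hcent a (hSN ha)]; group
    · exact mul_inv_eq_iff_eq_mul.1 h
  have hvcS : v ∈ Subgroup.centralizer ((S : Subgroup G) : Set G) :=
    Subgroup.mem_centralizer_iff.2 fun a ha => hcent a (hSN ha)
  have hucS : g⁻¹⁻¹ * v * g⁻¹ ∈ Subgroup.centralizer ((S : Subgroup G) : Set G) := by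
    rw [inv_inv]; exact Subgroup.mem_centralizer_iff.2 hucent
  obtain ⟨n, hn, hne'⟩ := Sylow.conj_eq_normalizer_conj_of_mem_centralizer S v g⁻¹ hvcS hucS
  rw [inv_inv] at hne'
  set m := n⁻¹ with hm
  have hmN : m ∈ Subgroup.normalizer ((S : Subgroup G) : Set G) := inv_mem hn
  have hmv : m * v * m⁻¹ = u := by rw [hm, inv_inv]; exact hne'.symm
  have hmS : ∀ a ∈ (S : Subgroup G), m * a * m⁻¹ ∈ (S : Subgroup G) := fun a ha =>
    (Subgroup.mem_normalizer_iff.1 hmN a).1 ha
  have hmu : m * u * m⁻¹ = v := by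
    have e : m * g * v * (m * g)⁻¹ = m * u * m⁻¹ := by rw [hu]; group
    rcases hclass (m * g) (by rw [e]; exact hmS u hgS) with h | h <;> rw [e] at h
    · exact h
    · exfalso
      have : u = v := by
        have h' := h.trans hmv.symm
        exact mul_left_cancel (mul_right_cancel h')
      exact hgne this
  -- odd powers of `m` swap `v` and `u`
  have hpow : ∀ j : ℕ, m ^ (2 * j + 1) * v * (m ^ (2 * j + 1))⁻¹ = u := by
    intro j
    induction j with
    | zero => simpa using hmv
    | succ j ih =>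
      calc m ^ (2 * (j + 1) + 1) * v * (m ^ (2 * (j + 1) + 1))⁻¹
          = m * (m * (m ^ (2 * j + 1) * v * (m ^ (2 * j + 1))⁻¹) * m⁻¹) * m⁻¹ := by
            rw [show 2 * (j + 1) + 1 = (2 * j + 1) + 1 + 1 by ring, pow_succ', pow_succ']; group
        _ = u := by rw [ih, hmu, hmv]
  obtain ⟨a, b, hb, hab⟩ := Nat.exists_eq_two_pow_mul_odd (orderOf_pos m).ne'
  obtain ⟨j, rfl⟩ := hb
  have hp : IsPGroup 2 (Subgroup.zpowers (m ^ (2 * j + 1))) :=
    IsPGroup.of_card (n := a) (by
      rw [Nat.card_zpowers, orderOf_pow' _ (by omega), hab, Nat.gcd_eq_right (dvd_mul_left _ _),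
        Nat.mul_div_cancel _ (by omega)])
  have hle : Subgroup.zpowers (m ^ (2 * j + 1)) ≤ (S : Subgroup G) :=
    inf_eq_left.1 ((IsPGroup.inf_normalizer_sylow hp S).symm.trans
      (inf_eq_left.2 (Subgroup.zpowers_le.2 (pow_mem hmN _))))
  have h := hcent _ (hSN (hle (Subgroup.mem_zpowers _)))
  have h' := hpow j
  rw [h, mul_inv_cancel_right] at h'
  exact hgne h'.symm

end Cfsg.Lib.MEleven
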