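import Cfsg.Agent.Lib.MEleven.Index

/-!
Character sums over a Sylow 2-subgroup and over the normaliser of a four-group.
-/

set_option autoImplicit false
set_option linter.style.haveILetI false
set_option linter.unusedSectionVars false

namespace Cfsg.Lib.MEleven

open Cfsg Cfsg.Lib.Char Cfsg.Lib.Block

universe u

noncomputable local instance (priority := high) fintypeSubgroupMElevenSums {A : Type u}
    [Group A] [Fintype A] (H : Subgroup A) : Fintype H := Fintype.ofFinite H

variable {G : Type u} [Group G] [Fintype G]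

/-- The four-group. -/
def TwoData.V (T : TwoData G) : Subgroup G :=
  Subgroup.centralizer ({T.z} : Set G) ⊓ Subgroup.centralizer ({T.t} : Set G)

/-- Its normaliser. -/
def TwoData.B (T : TwoData G) : Subgroup G := Subgroup.normalizer ((T.V : Subgroup G) : Set G)

section
open scoped Classical

/-- The elements of the four-group. -/
noncomputable def TwoData.fV (T : TwoData G) : Finset G := {1, T.z, T.t, T.t * T.z}

/-- The other coset. -/
noncomputable def TwoData.fW (T : TwoData G) : Finset G := {T.v, T.v * T.z, T.w, T.w * T.z}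

/-- The eight elements. -/
noncomputable def TwoData.fD (T : TwoData G) : Finset G := T.fV ∪ T.fW

end

variable (hG : IsM11 G) [Fact (Nat.Prime 2)] [Fact (Nat.Prime 3)] [Fact (Nat.Prime 5)] [Fact (Nat.Prime 11)]

include hG

theorem orderOf_w (T : TwoData G) : orderOf T.w = 4 := by
  rw [orderOf_eq_prime_pow (p := 2) (n := 1) (x := T.w)
    (by rw [pow_one, pow_two, T.w_sq]; exact T.z_ne)
    (by rw [show (2 : ℕ) ^ (1 + 1) = 2 * 2 by norm_num, pow_mul, pow_two T.w, T.w_sq, pow_two, T.z_sq])]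
  norm_num

theorem mem_V (T : TwoData G) {g : G} : g ∈ T.V ↔ g ∈ T.fV := by
  classical
  constructor
  · intro h
    simpa [TwoData.fV] using centralizer_four hG T (Subgroup.mem_centralizer_singleton_iff.1 h.1)
      (Subgroup.mem_centralizer_singleton_iff.1 h.2)
  · intro h
    have ht : T.t ∈ T.V :=
      ⟨Subgroup.mem_centralizer_singleton_iff.2 T.tz_comm, Subgroup.mem_centralizer_singleton_iff.2 rfl⟩
    have hz : T.z ∈ T.V :=
      ⟨Subgroup.mem_centralizer_singleton_iff.2 rfl, Subgroup.mem_centralizer_singleton_iff.2 T.tz_comm.symm⟩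
    simp only [TwoData.fV, Finset.mem_insert, Finset.mem_singleton] at h
    rcases h with rfl | rfl | rfl | rfl
    exacts [one_mem _, hz, ht, mul_mem ht hz]

theorem mem_B_of (T : TwoData G) {g : G}
    (hz : g * T.z * g⁻¹ = T.z ∨ g * T.z * g⁻¹ = T.t ∨ g * T.z * g⁻¹ = T.t * T.z)
    (ht : g * T.t * g⁻¹ = T.z ∨ g * T.t * g⁻¹ = T.t ∨ g * T.t * g⁻¹ = T.t * T.z) : g ∈ T.B := by
  classical
  have hz' : g * T.z * g⁻¹ ∈ T.V := (mem_V hG T).2 (by
    rcases hz with e | e | e <;> simp [TwoData.fV, e])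
  have ht' : g * T.t * g⁻¹ ∈ T.V := (mem_V hG T).2 (by
    rcases ht with e | e | e <;> simp [TwoData.fV, e])
  refine Subgroup.mem_normalizer_fintype fun n hn => ?_
  have hn' := (mem_V hG T).1 hn
  simp only [TwoData.fV, Finset.mem_insert, Finset.mem_singleton] at hn'
  show g * n * g⁻¹ ∈ T.V
  rcases hn' with rfl | rfl | rfl | rfl
  · rw [mul_one, mul_inv_cancel]; exact one_mem _
  · exact hz'
  · exact ht'
  · rw [show g * (T.t * T.z) * g⁻¹ = g * T.t * g⁻¹ * (g * T.z * g⁻¹) by group]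
    exact mul_mem ht' hz'

theorem of_mem_B (T : TwoData G) {g : G} (hg : g ∈ T.B) :
    (g * T.z * g⁻¹ = T.z ∨ g * T.z * g⁻¹ = T.t ∨ g * T.z * g⁻¹ = T.t * T.z) ∧
      (g * T.t * g⁻¹ = T.z ∨ g * T.t * g⁻¹ = T.t ∨ g * T.t * g⁻¹ = T.t * T.z) := by
  classical
  constructor
  · have h := (mem_V hG T).1 ((Subgroup.mem_normalizer_iff.1 hg T.z).1
      ((mem_V hG T).2 (by simp [TwoData.fV])))
    simp only [TwoData.fV, Finset.mem_insert, Finset.mem_singleton] at h
    rcases h with e | e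
    · exact absurd (conj_eq_one_iff.1 e) T.z_ne
    · exact e
  · have h := (mem_V hG T).1 ((Subgroup.mem_normalizer_iff.1 hg T.t).1
      ((mem_V hG T).2 (by simp [TwoData.fV])))
    simp only [TwoData.fV, Finset.mem_insert, Finset.mem_singleton] at h
    rcases h with e | e
    · exact absurd (conj_eq_one_iff.1 e) T.t_ne
    · exact e

theorem inD_of_mem_B (T : TwoData G) {x : G} (hx : x ∈ (T.S : Subgroup G)) (hB : x ∈ T.B) : T.InD x := by
  rcases (of_mem_B hG T hB).2 with e | e | e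
  · refine absurd ?_ T.t_ne_z
    calc T.t = x⁻¹ * (x * T.t * x⁻¹) * x := by group
      _ = T.z := by rw [e, T.z_comm x⁻¹ (inv_mem hx), inv_mul_cancel_right]
  · exact Or.inl e
  · exact Or.inr e

theorem fD_mem (T : TwoData G) {x : G} (h : x ∈ T.fD) : x ∈ (T.S : Subgroup G) ∧ T.InD x := by
  classical
  simp only [TwoData.fD, TwoData.fV, TwoData.fW, Finset.mem_union, Finset.mem_insert, Finset.mem_singleton] at h
  rcases h with (rfl | rfl | rfl | rfl) | (rfl | rfl | rfl | rfl)
  exacts [⟨one_mem _, T.inD_one⟩, ⟨T.z_mem, T.inD_z⟩, ⟨T.t_mem, T.inD_t⟩,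
    ⟨mul_mem T.t_mem T.z_mem, T.inD_tz⟩, ⟨T.v_mem, T.inD_v⟩, ⟨mul_mem T.v_mem T.z_mem, T.inD_vz⟩,
    ⟨T.w_mem, T.inD_cases_w⟩, ⟨mul_mem T.w_mem T.z_mem, T.inD_cases_wz⟩]

theorem mem_fD (T : TwoData G) {x : G} : x ∈ T.fD ↔ x ∈ (T.S : Subgroup G) ∧ T.InD x := by
  classical
  refine ⟨fD_mem hG T, fun h => ?_⟩
  simp only [TwoData.fD, TwoData.fV, TwoData.fW, Finset.mem_union, Finset.mem_insert, Finset.mem_singleton]
  rcases T.inD_cases h.1 h.2 with e | e | e | e | e | e | e | e <;> simp [e]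

theorem inD_mem_B (T : TwoData G) {x : G} (hx : x ∈ (T.S : Subgroup G)) (h : T.InD x) : x ∈ T.B :=
  mem_B_of hG T (Or.inl (by rw [T.z_comm x hx, mul_inv_cancel_right])) (Or.inr h)

theorem fW_not_mem_V (T : TwoData G) {x : G} (h : x ∈ T.fW) : x * T.t * x⁻¹ = T.t * T.z := by
  classical
  have hx := fD_mem hG T (Finset.mem_union_right _ h)
  simp only [TwoData.fW, Finset.mem_insert, Finset.mem_singleton] at h
  rcases hx.2 with e | e
  · exfalso
    have hv : x ∈ T.V := ⟨Subgroup.mem_centralizer_singleton_iff.2 (T.z_comm x hx.1),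
      Subgroup.mem_centralizer_singleton_iff.2 (mul_inv_eq_iff_eq_mul.1 e)⟩
    have hv' := (mem_V hG T).1 hv
    simp only [TwoData.fV, Finset.mem_insert, Finset.mem_singleton] at hv'
    have hcv : T.v * T.t ≠ T.t * T.v := fun e => by
      have h := T.vtv
      rw [e, mul_inv_cancel_right] at h
      exact T.t_ne_tz h
    have key : ∀ p : G, (p = 1 ∨ p = T.z ∨ p = T.t ∨ p = T.t * T.z) → p * T.t = T.t * p := by
      rintro p (rfl | rfl | rfl | rfl)
      · simp
      · exact T.tz_comm.symm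
      · rfl
      · rw [mul_assoc, ← T.tz_comm]
    rcases h with rfl | rfl | rfl | rfl
    · exact hcv (key _ hv')
    · have h2 := key _ hv'
      rw [mul_assoc, ← T.tz_comm, ← mul_assoc, ← mul_assoc T.t T.v] at h2
      exact hcv (mul_right_cancel h2)
    · have h2 := key _ hv'
      rw [TwoData.w, mul_assoc] at h2
      exact hcv (mul_left_cancel h2)
    · have h2 := key _ hv'
      rw [mul_assoc, ← T.tz_comm, ← mul_assoc, ← mul_assoc T.t T.w] at h2
      have h3 := mul_right_cancel h2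
      rw [TwoData.w, mul_assoc] at h3
      exact hcv (mul_left_cancel h3)
  · exact e

theorem disjoint_fV_fW (T : TwoData G) : Disjoint T.fV T.fW := by
  classical
  rw [Finset.disjoint_left]
  intro x hV hW
  have h := fW_not_mem_V hG T hW
  have hv := (mem_V hG T).2 hV
  have hc := Subgroup.mem_centralizer_singleton_iff.1 hv.2
  rw [hc, mul_inv_cancel_right] at h
  exact T.t_ne_tz h

theorem card_fV (T : TwoData G) : T.fV.card = 4 := by
  classical
  have h : Nat.card T.V = 4 := (sum_four hG T (trivChar G)).2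
  rw [← h, Nat.card_eq_fintype_card]
  exact (Fintype.card_of_subtype _ fun g => (mem_V hG T).symm).symm

theorem fW_eq_map (T : TwoData G) : T.fW = T.fV.map (mulLeftEmbedding T.v) := by
  classical
  ext x
  simp only [TwoData.fW, TwoData.fV, Finset.map_insert, Finset.map_singleton, mulLeftEmbedding_apply,
    mul_one, Finset.mem_insert, Finset.mem_singleton]
  rw [← mul_assoc, T.vt, mul_assoc T.w, T.z_sq, mul_one]
  tauto

theorem card_fW (T : TwoData G) : T.fW.card = 4 := by
  rw [fW_eq_map hG T, Finset.card_map, card_fV hG T]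

theorem card_fD (T : TwoData G) : T.fD.card = 8 := by
  classical
  rw [TwoData.fD, Finset.card_union_of_disjoint (disjoint_fV_fW hG T), card_fV hG T, card_fW hG T]

theorem sum_fV (T : TwoData G) (χ : IrrCharacter G) :
    ∑ g ∈ T.fV, (χ : G → ℂ) g = (χ : G → ℂ) 1 + 3 * (χ : G → ℂ) T.z := by
  rw [← sum_subgroup_eq (H := T.V) (fun g => (mem_V hG T).symm)]
  exact (sum_four hG T χ).1

theorem sum_fW (T : TwoData G) (χ : IrrCharacter G) :
    ∑ g ∈ T.fW, (χ : G → ℂ) g = 2 * (χ : G → ℂ) T.z + 2 * (χ : G → ℂ) T.w := by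
  classical
  have hc := card_fW hG T
  rw [TwoData.fW] at hc ⊢
  have n1 : T.v ∉ ({T.v * T.z, T.w, T.w * T.z} : Finset G) := fun h => by
    rw [Finset.insert_eq_of_mem h] at hc
    have := (Finset.card_insert_le (T.v * T.z) {T.w, T.w * T.z}).trans (Nat.succ_le_succ Finset.card_le_two)
    omega
  rw [Finset.card_insert_of_notMem n1] at hc
  have n2 : T.v * T.z ∉ ({T.w, T.w * T.z} : Finset G) := fun h => by
    rw [Finset.insert_eq_of_mem h] at hc
    have := Finset.card_le_two (a := T.w) (b := T.w * T.z)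
    omega
  rw [Finset.card_insert_of_notMem n2] at hc
  have n3 : T.w ≠ T.w * T.z := fun h => T.z_ne (mul_eq_left.1 h.symm)
  have hvz2 : T.v * T.z * (T.v * T.z) = 1 := by
    rw [mul_assoc, ← mul_assoc T.z, ← T.vz_comm, mul_assoc T.v T.z T.z, T.z_sq, mul_one, T.v_sq]
  have hvz1 : T.v * T.z ≠ 1 := fun e => by
    have hv : T.v = T.z := by
      calc T.v = T.v * (T.z * T.z) := by rw [T.z_sq, mul_one]
        _ = T.z := by rw [← mul_assoc, e, one_mul]
    have h := T.vtv
    rw [hv, ← T.tz_comm, mul_inv_cancel_right] at h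
    exact T.t_ne_tz h
  rw [Finset.sum_insert n1, Finset.sum_insert n2, Finset.sum_pair n3,
    value_involution hG T χ T.v_sq T.v_ne, value_involution hG T χ hvz2 hvz1]
  have hw : (χ : G → ℂ) (T.w * T.z) = (χ : G → ℂ) T.w := by
    rw [T.wz_eq_inv, ← T.t_conj_w, χ.2.isClassFunction]
  rw [hw]
  ring

theorem sum_fD (T : TwoData G) (χ : IrrCharacter G) :
    ∑ g ∈ T.fD, (χ : G → ℂ) g = (χ : G → ℂ) 1 + 5 * (χ : G → ℂ) T.z + 2 * (χ : G → ℂ) T.w := by
  classical
  rw [TwoData.fD, Finset.sum_union (disjoint_fV_fW hG T), sum_fV hG T, sum_fW hG T]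
  ring

theorem mem_inf_B (T : TwoData G) {x : G} : x ∈ (T.S : Subgroup G) ⊓ T.B ↔ x ∈ T.fD := by
  rw [mem_fD hG T]
  exact ⟨fun h => ⟨h.1, inD_of_mem_B hG T h.1 h.2⟩, fun h => ⟨h.1, inD_mem_B hG T h.1 h.2⟩⟩

theorem mem_fW_of (T : TwoData G) {e : G} (hz : e * T.z * e⁻¹ = T.z) (ht : e * T.t * e⁻¹ = T.t * T.z) :
    e ∈ T.fW := by
  classical
  have h1 : (T.v * e) * T.z = T.z * (T.v * e) := by
    rw [mul_assoc, mul_inv_eq_iff_eq_mul.1 hz, ← mul_assoc, T.vz_comm, mul_assoc]
  have h2 : (T.v * e) * T.t = T.t * (T.v * e) := by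
    refine mul_inv_eq_iff_eq_mul.1 ?_
    calc T.v * e * T.t * (T.v * e)⁻¹ = T.v * (e * T.t * e⁻¹) * T.v⁻¹ := by group
      _ = T.v * T.t * T.v⁻¹ * (T.v * T.z * T.v⁻¹) := by rw [ht]; group
      _ = T.t := by rw [T.vtv, T.vz_comm, mul_inv_cancel_right, mul_assoc, T.z_sq, mul_one]
  have hm : T.v * e ∈ T.fV := (mem_V hG T).1
    ⟨Subgroup.mem_centralizer_singleton_iff.2 h1, Subgroup.mem_centralizer_singleton_iff.2 h2⟩
  rw [fW_eq_map hG T, Finset.mem_map]
  exact ⟨_, hm, by rw [mulLeftEmbedding_apply, ← mul_assoc, T.v_sq, one_mul]⟩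

end Cfsg.Lib.MEleven
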