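import Cfsg.Agent.Lib.MEleven.Basic
import Cfsg.Agent.Lib.ZStar.Main
import Cfsg.Agent.Lib.Invol.Isolated
import Cfsg.Prelude.Def_Sporadic

/-!
Sylow 11-subgroups of a simple group of order 7920: they are self-centralising with normaliser of
order 55.
-/

set_option autoImplicit false
set_option linter.style.haveILetI false
set_option linter.unusedSectionVars false

namespace Cfsg.Lib.MEleven

open Cfsg

universe u

variable {G : Type u} [Group G] [Fintype G] (hG : IsM11 G)

include hG

theorem not_cyclic : ¬ IsCyclic G := by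
  haveI := hG.1
  exact Small.not_isCyclic_of_card (by rw [hG.2]; norm_num)

theorem le_index {H : Subgroup G} (hH : H ≠ ⊤) : 11 ≤ H.index := by
  haveI := hG.1
  by_contra hlt
  have h := Small.index_dvd_factorial_le hH (b := 10) (by omega)
  rw [hG.2] at h
  exact absurd h (by decide)

theorem card_le_of_ne_top {H : Subgroup G} (hH : H ≠ ⊤) : Nat.card H ≤ 720 := by
  have h1 := le_index hG hH
  have h2 := H.card_mul_index
  rw [hG.2] at h2
  nlinarith

theorem center_eq_bot : Subgroup.center G = ⊥ := by
  haveI := hG.1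
  refine ((inferInstance : (Subgroup.center G).Normal).eq_bot_or_eq_top).resolve_right fun h => ?_
  let _ : CommGroup G := { (inferInstance : Group G) with
    mul_comm := fun a b => (Subgroup.mem_center_iff.mp (h ▸ Subgroup.mem_top b) a) }
  exact not_cyclic hG IsSimpleGroup.isCyclic

theorem oddCore_eq_bot : oddCore G = ⊥ := by
  haveI := hG.1
  refine (inferInstance : (oddCore G).Normal).eq_bot_or_eq_top.resolve_right fun h => ?_
  have hodd := ZStar.odd_card_oddCore (G := G)
  rw [h, Nat.card_congr Subgroup.topEquiv.toEquiv, hG.2] at hodd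
  exact absurd hodd (by decide)

section Sylow

variable [Fact (Nat.Prime 11)]

theorem card_sylow_eleven (P : Sylow 11 G) : Nat.card (P : Subgroup G) = 11 := by
  rw [Small.card_sylow 1 720 (by rw [hG.2]; norm_num) (by decide) P, pow_one]

theorem card_normalizer_eleven_cases (P : Sylow 11 G) :
    (Nat.card (Sylow 11 G) = 12 ∧
        Nat.card (Subgroup.normalizer ((P : Subgroup G) : Set G)) = 660) ∨
      (Nat.card (Sylow 11 G) = 45 ∧
        Nat.card (Subgroup.normalizer ((P : Subgroup G) : Set G)) = 176) ∨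
      (Nat.card (Sylow 11 G) = 144 ∧
        Nat.card (Subgroup.normalizer ((P : Subgroup G) : Set G)) = 55) := by
  haveI := hG.1
  have h := Small.sylow_facts (G := G) (p := 11) 1 720 (by rw [hG.2]; norm_num) (by decide)
  have h1 := Small.card_normalizer_mul P
  rw [hG.2] at h1
  have hne : Nat.card (Sylow 11 G) ≠ 1 := by
    intro h0
    rw [h0, one_mul] at h1
    have htop : Subgroup.normalizer ((P : Subgroup G) : Set G) = ⊤ :=
      Subgroup.eq_top_of_card_eq _ (by rw [h1, hG.2])
    have hn : (P : Subgroup G).Normal := Subgroup.normalizer_eq_top_iff.1 htop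
    rcases hn.eq_bot_or_eq_top with e | e
    · have := card_sylow_eleven hG P
      rw [e, Subgroup.card_bot] at this
      omega
    · have := card_sylow_eleven hG P
      rw [e, Nat.card_congr Subgroup.topEquiv.toEquiv, hG.2] at this
      omega
  have hmem : Nat.card (Sylow 11 G) ∈ (Nat.divisors 720).filter (fun n => n % 11 = 1) :=
    Finset.mem_filter.2 ⟨Nat.mem_divisors.2 ⟨h.1, by norm_num⟩, h.2⟩
  rw [show (Nat.divisors 720).filter (fun n => n % 11 = 1) = {1, 12, 45, 144} by decide +kernel] at hmem
  simp only [Finset.mem_insert, Finset.mem_singleton] at hmem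
  rcases hmem with e | e | e | e
  · exact absurd e hne
  all_goals rw [e] at h1 ⊢
  · left; omega
  · right; left; omega
  · right; right; omega

theorem eq_of_le_normalizer {P Q : Sylow 11 G}
    (h : (P : Subgroup G) ≤ Subgroup.normalizer ((Q : Subgroup G) : Set G)) : P = Q := by
  have h1 : (P : Subgroup G) ≤ (Q : Subgroup G) :=
    inf_eq_left.1 ((IsPGroup.inf_normalizer_sylow P.2 Q).symm.trans (inf_eq_left.2 h))
  exact Sylow.ext (Subgroup.eq_of_le_of_card_ge h1 (by
    rw [card_sylow_eleven hG P, card_sylow_eleven hG Q]))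

theorem card_centralizer_mul (P : Sylow 11 G) :
    ∃ k, k ∣ 10 ∧ k * Nat.card (Subgroup.centralizer ((P : Subgroup G) : Set G)) =
      Nat.card (Subgroup.normalizer ((P : Subgroup G) : Set G)) := by
  refine ⟨_, Small.relIndex_centralizer_dvd (P : Subgroup G) (card_sylow_eleven hG P), ?_⟩
  rw [Subgroup.relIndex, ← Nat.card_congr
    (Subgroup.subgroupOfEquivOfLe (Subgroup.centralizer_le_normalizer _)).toEquiv]
  exact Subgroup.index_mul_card _

theorem faithful_sylow (g : G) (h : ∀ Q : Sylow 11 G, g • Q = Q) : g = 1 := by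
  haveI := hG.1
  obtain ⟨P⟩ : Nonempty (Sylow 11 G) := inferInstance
  set φ := MulAction.toPermHom G (Sylow 11 G)
  rcases φ.normal_ker.eq_bot_or_eq_top with hk | hk
  · have : g ∈ φ.ker := Equiv.ext h
    rw [hk] at this
    exact this
  · exfalso
    have hall : ∀ (x : G) (Q : Sylow 11 G), x • Q = Q := fun x Q => by
      have hx : x ∈ φ.ker := hk ▸ Subgroup.mem_top x
      exact Equiv.ext_iff.1 hx Q
    have htop : Subgroup.normalizer ((P : Subgroup G) : Set G) = ⊤ :=
      top_le_iff.1 fun x _ => Sylow.smul_eq_iff_mem_normalizer.1 (hall x P)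
    rcases card_normalizer_eleven_cases hG P with h' | h' | h' <;>
      · rw [htop, Nat.card_congr Subgroup.topEquiv.toEquiv, hG.2] at h'
        omega

theorem card_sylow_ne_twelve : Nat.card (Sylow 11 G) ≠ 12 := by
  classical
  intro h12
  obtain ⟨P⟩ : Nonempty (Sylow 11 G) := inferInstance
  obtain ⟨k, hk, hkc⟩ := card_centralizer_mul hG P
  have hN : Nat.card (Subgroup.normalizer ((P : Subgroup G) : Set G)) = 660 := by
    rcases card_normalizer_eleven_cases hG P with h | h | h <;> omega
  rw [hN] at hkc
  have hle : Subgroup.centralizer ((P : Subgroup G) : Set G) ≤ (P : Subgroup G) := by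
    intro c hc
    haveI : Nontrivial (Sylow 11 G) := Finite.one_lt_card_iff_nontrivial.1 (by omega)
    obtain ⟨Q, hQ⟩ : ∃ Q : Sylow 11 G, Q ≠ P := exists_ne P
    have hxQ : ∀ x : (P : Subgroup G), (x : G) • Q ≠ P := fun x e => hQ (by
      have hxP : (x : G) • P = P := Sylow.smul_eq_iff_mem_normalizer.2 (Subgroup.le_normalizer x.2)
      exact smul_left_cancel _ (e.trans hxP.symm))
    have hinj : Function.Injective fun x : (P : Subgroup G) =>
        (⟨(x : G) • Q, hxQ x⟩ : {R : Sylow 11 G // R ≠ P}) := by
      intro x y e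
      have e' : (x : G) • Q = (y : G) • Q := congrArg Subtype.val e
      by_contra hxy
      have hne : ((y : G)⁻¹ * x) ≠ 1 := fun h1 => hxy (Subtype.ext (inv_mul_eq_one.1 h1).symm)
      have hfix : ((y : G)⁻¹ * x) ∈ Subgroup.normalizer ((Q : Subgroup G) : Set G) :=
        Sylow.smul_eq_iff_mem_normalizer.1 (by rw [mul_smul, e', inv_smul_smul])
      refine hQ (eq_of_le_normalizer hG (P := P) ?_).symm
      rw [← Block.zpowers_eq_of_mem (card_sylow_eleven hG P) (mul_mem (inv_mem y.2) x.2) hne,
        Subgroup.zpowers_le]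
      exact hfix
    have hcard : Nat.card {R : Sylow 11 G // R ≠ P} = 11 := by
      have := Nat.card_congr (Equiv.sumCompl fun R : Sylow 11 G => R = P)
      rw [Nat.card_sum, h12, Nat.card_unique] at this
      simp only [ne_eq]
      omega
    have hbij := hinj.bijective_of_nat_card_le (le_of_eq (by rw [hcard, card_sylow_eleven hG P]))
    have hcP : c • P = P :=
      Sylow.smul_eq_iff_mem_normalizer.2 (Subgroup.centralizer_le_normalizer _ hc)
    obtain ⟨x, hx⟩ := hbij.2 ⟨c • Q, fun e => hQ (smul_left_cancel c (e.trans hcP.symm))⟩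
    have hx' : (x : G) • Q = c • Q := congrArg Subtype.val hx
    have hall : ∀ R : Sylow 11 G, ((x : G)⁻¹ * c) • R = R := by
      intro R
      by_cases hR : R = P
      · subst hR
        rw [mul_smul, hcP]
        exact Sylow.smul_eq_iff_mem_normalizer.2 (Subgroup.le_normalizer (inv_mem x.2))
      · obtain ⟨y, hy⟩ := hbij.2 ⟨R, hR⟩
        have hy' : (y : G) • Q = R := congrArg Subtype.val hy
        have hcomm : Commute ((x : G)⁻¹ * c) (y : G) := by
          refine Commute.mul_left ?_ (Subgroup.mem_centralizer_iff.1 hc y y.2).symm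
          exact (show Commute (x : G) (y : G) from
            Block.comm_of_card_prime (card_sylow_eleven hG P) _ x.2 _ y.2).inv_left
        rw [← hy', ← mul_smul, hcomm.eq, mul_smul, mul_smul, ← hx', inv_smul_smul]
    have := inv_mul_eq_one.1 (faithful_sylow hG _ hall)
    exact this ▸ x.2
  have := Nat.le_of_dvd (by norm_num) hk
  have := Subgroup.card_le_of_le hle
  rw [card_sylow_eleven hG P] at this
  nlinarith

theorem centralizer_ne_normalizer (P : Sylow 11 G) :
    Nat.card (Subgroup.centralizer ((P : Subgroup G) : Set G)) ≠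
      Nat.card (Subgroup.normalizer ((P : Subgroup G) : Set G)) := by
  haveI := hG.1
  intro h
  refine Small.not_normalizer_le_centralizer (not_cyclic hG) P ?_ ?_
  · intro e
    have := card_sylow_eleven hG P
    rw [e, Subgroup.card_bot] at this
    omega
  · exact (Subgroup.eq_of_le_of_card_ge (Subgroup.centralizer_le_normalizer _) h.ge).ge

theorem card_sylow_ne_fortyfive : Nat.card (Sylow 11 G) ≠ 45 := by
  classical
  intro h45
  haveI := hG.1
  haveI : Fact (Nat.Prime 2) := ⟨Nat.prime_two⟩
  obtain ⟨P⟩ : Nonempty (Sylow 11 G) := inferInstance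
  obtain ⟨k, hk, hkc⟩ := card_centralizer_mul hG P
  have hcases := card_normalizer_eleven_cases hG P
  have hne := centralizer_ne_normalizer hG P
  set N := Subgroup.normalizer ((P : Subgroup G) : Set G)
  set C := Subgroup.centralizer ((P : Subgroup G) : Set G)
  have hN : Nat.card N = 176 := by
    rcases hcases with h | h | h <;> omega
  have hC : Nat.card C = 88 := by
    have hk' : k ∈ Nat.divisors 10 := Nat.mem_divisors.2 ⟨hk, by norm_num⟩
    rw [show Nat.divisors 10 = {1, 2, 5, 10} by decide +kernel] at hk'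
    simp only [Finset.mem_insert, Finset.mem_singleton] at hk'
    rw [hN] at hkc hne
    rcases hk' with rfl | rfl | rfl | rfl <;> omega
  -- the Sylow 2-subgroups
  haveI hCnorm : (C.subgroupOf N).Normal := by
    have h := (P : Subgroup G).normalizerMonoidHom.normal_ker
    rwa [Subgroup.normalizerMonoidHom_ker] at h
  obtain ⟨S₀, hS₀⟩ := Sylow.exists_subgroup_card_pow_prime 2 (show 2 ^ 4 ∣ Nat.card N by rw [hN]; norm_num)
  have hScard : Nat.card (S₀.map N.subtype) = 2 ^ ((Nat.card G).factorization 2) := by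
    rw [Subgroup.card_map_of_injective N.subtype_injective, hS₀, hG.2]
    congr 1
    rw [show 7920 = 2 ^ 4 * 495 from rfl, Nat.factorization_mul (by norm_num) (by norm_num),
      Nat.prime_two.factorization_pow, Finsupp.add_apply, Finsupp.single_eq_same,
      Nat.factorization_eq_zero_of_not_dvd (by norm_num : ¬ 2 ∣ 495), add_zero]
  let S : Sylow 2 G := Sylow.ofCard _ hScard
  have hSN : (S : Subgroup G) ≤ N := Subgroup.map_subtype_le _
  have hS16 : Nat.card (S : Subgroup G) = 16 := by
    show Nat.card (S₀.map N.subtype) = 16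
    rw [Subgroup.card_map_of_injective N.subtype_injective, hS₀]
    norm_num
  set D := C ⊓ (S : Subgroup G) with hD
  have hD8 : Nat.card D = 8 := by
    have h1 : Nat.card D ∣ 8 := by
      have ha : Nat.card D ∣ 88 := hC ▸ Subgroup.card_dvd_of_le inf_le_left
      have hb : Nat.card D ∣ 16 := hS16 ▸ Subgroup.card_dvd_of_le inf_le_right
      simpa using Nat.dvd_gcd ha hb
    have h2 : Nat.card ((C ⊓ N).subgroupOf (S : Subgroup G)) = Nat.card D := by
      rw [← Subgroup.inf_subgroupOf_right, Nat.card_congr
        (Subgroup.subgroupOfEquivOfLe inf_le_right).toEquiv, hD,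
        inf_eq_left.2 (Subgroup.centralizer_le_normalizer _)]
    have h3 : C.relIndex (S : Subgroup G) ∣ C.relIndex N :=
      by
        rw [← Subgroup.relIndex_subgroupOf hSN]
        exact Subgroup.relIndex_dvd_index_of_normal _ _
    have h4 : C.relIndex N = 2 := by
      have := Subgroup.index_mul_card (C.subgroupOf N)
      rw [Nat.card_congr (Subgroup.subgroupOfEquivOfLe (Subgroup.centralizer_le_normalizer _)).toEquiv,
        hC, hN] at this
      rw [Subgroup.relIndex]
      omega
    have h5 := Subgroup.index_mul_card ((C ⊓ N).subgroupOf (S : Subgroup G))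
    rw [h2, hS16, show (C ⊓ N) = C from inf_eq_left.2 (Subgroup.centralizer_le_normalizer _),
      ← Subgroup.relIndex] at h5
    rw [h4] at h3
    have := Nat.le_of_dvd (by norm_num) h1
    have := Nat.le_of_dvd (by norm_num) h3
    nlinarith
  -- a central involution in `D`
  obtain ⟨z, hz2, hzD, hzS⟩ : ∃ z : G, orderOf z = 2 ∧ z ∈ D ∧ ∀ s ∈ (S : Subgroup G), s * z = z * s := by
    haveI : ((D).subgroupOf (S : Subgroup G)).Normal := by
      refine Subgroup.normal_of_index_eq_two ?_
      have h5 := Subgroup.index_mul_card (D.subgroupOf (S : Subgroup G))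
      rw [Nat.card_congr (Subgroup.subgroupOfEquivOfLe inf_le_right).toEquiv, hD8, hS16] at h5
      omega
    set D' := D.subgroupOf (S : Subgroup G)
    have hne : D' ⊓ Subgroup.center (S : Subgroup G) ≠ ⊥ := by
      refine PGroup.inf_center_ne_bot (N := D') S.2 (fun e => ?_)
      have h8 : Nat.card D' = 8 :=
        (Nat.card_congr (Subgroup.subgroupOfEquivOfLe (inf_le_right : D ≤ _)).toEquiv).trans hD8
      rw [e, Subgroup.card_bot] at h8
      omega
    have h2 : 2 ∣ Nat.card ↥(D' ⊓ Subgroup.center (S : Subgroup G)) := by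
      obtain ⟨n, hn⟩ := IsPGroup.iff_card.1 (S.2.to_subgroup (D' ⊓ Subgroup.center (S : Subgroup G)))
      rcases n with _ | n
      · exact absurd (Subgroup.card_eq_one.1 (by rw [hn, pow_zero])) hne
      · rw [hn]; exact dvd_pow_self 2 (by omega)
    obtain ⟨⟨⟨w, hwS⟩, hwD, hwZ⟩, hw2⟩ := exists_prime_orderOf_dvd_card' 2 h2
    refine ⟨w, ?_, hwD, fun s hs => congrArg Subtype.val (Subgroup.mem_center_iff.1 hwZ ⟨s, hs⟩)⟩
    rw [← hw2, ← Subgroup.orderOf_coe, ← Subgroup.orderOf_coe]
  -- the orbits of `P`
  let Ω := MulAction.orbitRel.Quotient (P : Subgroup G) (Sylow 11 G)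
  let π : Sylow 11 G → Ω := Quotient.mk''
  have hπ : ∀ {A B : Sylow 11 G}, π A = π B ↔ ∃ x ∈ (P : Subgroup G), x • B = A := fun {A B} => by
    rw [Quotient.eq'', MulAction.orbitRel_apply, MulAction.mem_orbit_iff]
    exact ⟨fun ⟨x, hx⟩ => ⟨x, x.2, hx⟩, fun ⟨x, hx, hx'⟩ => ⟨⟨x, hx⟩, hx'⟩⟩
  haveI : Fintype Ω := Fintype.ofFinite Ω
  have hΩ : Nat.card Ω ≤ 5 := by
    have horb : ∀ Q : Sylow 11 G, Q ≠ P →
        Nat.card (MulAction.orbit (P : Subgroup G) Q) = 11 := by
      intro Q hQ
      have h1 := Nat.card_congr (MulAction.orbitEquivQuotientStabilizer (P : Subgroup G) Q)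
      rw [h1, ← Subgroup.index]
      have h2 : MulAction.stabilizer (P : Subgroup G) Q = ⊥ := by
        rw [Subgroup.eq_bot_iff_forall]
        intro x hx
        by_contra hx1
        refine hQ (eq_of_le_normalizer hG (P := P) ?_).symm
        rw [← Block.zpowers_eq_of_mem (card_sylow_eleven hG P) x.2 (fun e => hx1 (Subtype.ext e)),
          Subgroup.zpowers_le]
        exact Sylow.smul_eq_iff_mem_normalizer.1 hx
      rw [h2, Subgroup.index_bot, card_sylow_eleven hG P]
    have hsum := Nat.card_congr (MulAction.selfEquivSigmaOrbits (P : Subgroup G) (Sylow 11 G))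
    rw [h45, Nat.card_sigma, ← Finset.add_sum_erase _ _ (Finset.mem_univ (π P))] at hsum
    have hge : ∀ ω ∈ Finset.univ.erase (π P),
        Nat.card (MulAction.orbit (P : Subgroup G) (Quotient.out ω)) = 11 := fun ω hω => by
      refine horb _ fun e => (Finset.mem_erase.1 hω).1 ?_
      rw [← e]
      exact (Quotient.out_eq ω).symm
    rw [Finset.sum_congr rfl hge, Finset.sum_const, Finset.card_erase_of_mem (Finset.mem_univ _),
      smul_eq_mul, Finset.card_univ, ← Nat.card_eq_fintype_card] at hsum
    omega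
  have hcommP : ∀ d ∈ D, ∀ x ∈ (P : Subgroup G), d * x = x * d := fun d hd x hx =>
    (Subgroup.mem_centralizer_iff.1 hd.1 x hx).symm
  let act : D → Ω → Ω := fun d => Quotient.map' (fun Q => (d : G) • Q) (fun A B h => by
    obtain ⟨⟨x, hx⟩, e⟩ := h
    refine ⟨⟨x, hx⟩, ?_⟩
    show x • ((d : G) • B) = (d : G) • A
    rw [← e, ← mul_smul, ← hcommP d d.2 x hx, mul_smul]
    rfl)
  have hact : ∀ (d : D) (Q : Sylow 11 G), act d (π Q) = π ((d : G) • Q) := fun _ _ => rfl
  have hsurj : ∀ ω : Ω, ∃ Q, π Q = ω := Quotient.exists_rep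
  letI : MulAction D Ω :=
    { smul := act
      one_smul := fun ω => by
        obtain ⟨Q, rfl⟩ := hsurj ω
        exact (hact 1 Q).trans (by rw [OneMemClass.coe_one, one_smul])
      mul_smul := fun a b ω => by
        obtain ⟨Q, rfl⟩ := hsurj ω
        show act (a * b) (π Q) = act a (act b (π Q))
        rw [hact b Q, hact a ((b : G) • Q), hact (a * b) Q, Subgroup.coe_mul, mul_smul] }
  have hsmul : ∀ (d : D) (Q : Sylow 11 G), d • π Q = π ((d : G) • Q) := hact
  have hDP : ∀ d : D, (d : G) • P = P := fun d =>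
    Sylow.smul_eq_iff_mem_normalizer.2 (Subgroup.centralizer_le_normalizer _ d.2.1)
  have hfaith : ∀ d : D, (∀ ω : Ω, d • ω = ω) → d = 1 := by
    intro d hd
    refine Subtype.ext (faithful_sylow hG _ fun Q => ?_)
    obtain ⟨x, hx, e⟩ := hπ.1 ((hsmul d Q).symm.trans (hd (π Q)))
    have hn : orderOf (d : G) ∣ 8 := by
      rw [Subgroup.orderOf_coe, ← hD8]
      exact orderOf_dvd_natCard d
    have hiter : ∀ n : ℕ, (d : G) ^ n • Q = x ^ n • Q := by
      intro n
      induction n with
      | zero => simp
      | succ n ih =>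
        rw [pow_succ', mul_smul, ih, ← mul_smul,
          (show Commute (d : G) (x ^ n) from (show Commute (d : G) x from hcommP d d.2 x hx).pow_right n).eq,
          mul_smul, ← e, ← mul_smul, ← pow_succ]
    have h8 := hiter 8
    rw [orderOf_dvd_iff_pow_eq_one.1 hn, one_smul] at h8
    have hx11 : x ^ 11 = 1 := by
      have h := pow_card_eq_one' (x := (⟨x, hx⟩ : (P : Subgroup G)))
      rw [card_sylow_eleven hG P] at h
      exact congrArg Subtype.val h
    rw [← e]
    have : x • Q = Q := by
      have h56 : (x ^ 8) ^ 7 = x := by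
        rw [← pow_mul, show 8 * 7 = 11 * 5 + 1 from rfl, pow_succ, pow_mul, hx11, one_pow, one_mul]
      conv_lhs => rw [← h56]
      exact (MulAction.mem_stabilizer_iff).1
        (pow_mem (MulAction.mem_stabilizer_iff.2 h8.symm : x ^ 8 ∈ MulAction.stabilizer G Q) 7)
    exact this
  -- `z` fixes only `P`
  have hzN : ∀ Q : Sylow 11 G, z • Q = Q → Q = P := by
    intro Q hQ
    by_contra hQP
    have hne : π Q ≠ π P := fun e => hQP (by
      obtain ⟨x, hx, e'⟩ := hπ.1 e
      rw [← e']
      exact Sylow.smul_eq_iff_mem_normalizer.2 (Subgroup.le_normalizer hx))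
    let St := MulAction.stabilizer D (π Q)
    let R := {ω : Ω // ω ≠ π P ∧ ω ≠ π Q}
    have hR : Nat.card R ≤ 3 := by
      have h1 : Fintype.card R = Fintype.card Ω - 2 := by
        rw [Fintype.card_subtype, show (Finset.univ.filter fun ω : Ω => ω ≠ π P ∧ ω ≠ π Q) =
          Finset.univ \ {π P, π Q} by ext; simp, Finset.card_sdiff, Finset.inter_univ,
          Finset.card_pair hne.symm, Finset.card_univ]
      rw [Nat.card_eq_fintype_card] at hΩ ⊢
      omega
    have hPfix : ∀ d : D, d • π P = π P := fun d => by rw [hsmul, hDP]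
    let f : St →* Equiv.Perm R :=
      { toFun := fun d => (MulAction.toPerm (d : D)).subtypePerm (fun ω => by
          have hQfix : (d : D) • π Q = π Q := d.2
          constructor
          · rintro ⟨h1, h2⟩
            exact ⟨fun e => h1 (by rw [← hPfix d, ← e]; rfl), fun e => h2 (by rw [← hQfix, ← e]; rfl)⟩
          · rintro ⟨h1, h2⟩
            exact ⟨fun e => h1 (smul_left_cancel (d : D) (e.trans (hPfix d).symm)),
              fun e => h2 (smul_left_cancel (d : D) (e.trans hQfix.symm))⟩)
        map_one' := Equiv.ext fun ω => Subtype.ext (one_smul D (ω : Ω))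
        map_mul' := fun a b => Equiv.ext fun ω => Subtype.ext (mul_smul (a : D) (b : D) (ω : Ω)) }
    have hf : Function.Injective f := by
      refine (injective_iff_map_eq_one f).2 fun d hd => Subtype.ext (hfaith d fun ω => ?_)
      by_cases h1 : ω = π P
      · rw [h1]; exact hPfix d
      by_cases h2 : ω = π Q
      · rw [h2]; exact d.2
      · exact congrArg Subtype.val (Equiv.ext_iff.1 hd ⟨ω, h1, h2⟩)
    have hd := Subgroup.card_dvd_of_injective f hf
    rw [Nat.card_perm] at hd
    have hd6 : Nat.card St ∣ 6 :=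
      hd.trans ((Nat.factorial_dvd_factorial hR).trans (dvd_refl 6))
    have hd8 : Nat.card St ∣ 8 := hD8 ▸ St.card_subgroup_dvd_card
    have hd2 : Nat.card St ≤ 2 := Nat.le_of_dvd (by norm_num) (Nat.dvd_gcd hd6 hd8)
    have horb := MulAction.card_orbit_mul_card_stabilizer_eq_card_group D (π Q)
    simp only [← Nat.card_eq_fintype_card] at horb
    rw [hD8] at horb
    have h4 : 4 ≤ Nat.card (MulAction.orbit D (π Q)) := by nlinarith
    have hsub : (MulAction.orbit D (π Q)).toFinset = Finset.univ.erase (π P) := by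
      refine Finset.eq_of_subset_of_card_le (fun ω hω => ?_) ?_
      · obtain ⟨d, rfl⟩ := Set.mem_toFinset.1 hω
        exact Finset.mem_erase.2
          ⟨fun e => hne (smul_left_cancel d (e.trans (hPfix d).symm)), Finset.mem_univ _⟩
      · rw [Finset.card_erase_of_mem (Finset.mem_univ _), Finset.card_univ, Set.toFinset_card]
        rw [Nat.card_eq_fintype_card] at hΩ h4
        omega
    have hz1 : (⟨z, hzD⟩ : D) = 1 := by
      refine hfaith _ fun ω => ?_
      by_cases h1 : ω = π P
      · rw [h1]; exact hPfix _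
      · have hm : ω ∈ (MulAction.orbit D (π Q)).toFinset := by
          rw [hsub]; exact Finset.mem_erase.2 ⟨h1, Finset.mem_univ _⟩
        obtain ⟨d, rfl⟩ := Set.mem_toFinset.1 hm
        show (⟨z, hzD⟩ : D) • d • π Q = d • π Q
        rw [← mul_smul, show (⟨z, hzD⟩ : D) * d = d * ⟨z, hzD⟩ from
          Subtype.ext (hzS d d.2.2).symm, mul_smul, hsmul ⟨z, hzD⟩, hQ]
    have := congrArg Subtype.val hz1
    have h1z : z = 1 := this
    rw [h1z, orderOf_one] at hz2
    omega
  -- hence `z` is isolated
  have hiso : IsIsolatedInvolution z := by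
    refine Invol.isolated_of_sylow S hz2 fun g hg => ?_
    set t := g * z * g⁻¹
    have hct : z * t = t * z := (hzS t hg).symm
    have hzP : z • P = P := hDP ⟨z, hzD⟩
    have htfix : t • (g • P) = g • P := by
      simp only [t, mul_smul, inv_smul_smul, hzP]
    have honly : ∀ R : Sylow 11 G, t • R = R → R = g • P := fun R hR => by
      rw [← hzN (g⁻¹ • R) (smul_left_cancel g (by
        rw [smul_inv_smul, ← mul_smul, ← mul_smul]; exact hR)), smul_inv_smul]
    have hzg : z • (g • P) = g • P := honly _ (by rw [← mul_smul, ← hct, mul_smul, htfix])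
    have hgN : g ∈ N := Sylow.smul_eq_iff_mem_normalizer.1 (hzN _ hzg)
    have hzC : z ∈ C := hzD.1
    have hgz : ∀ x ∈ C ⊓ N, g * x * g⁻¹ ∈ C := fun x hx => by
      exact (inferInstance : (C.subgroupOf N).Normal).conj_mem ⟨x, hx.2⟩ hx.1 ⟨g, hgN⟩
    -- the normaliser centralises `z`
    have hzall : ∀ n ∈ N, n * z = z * n := by
      intro n hn
      have htop : (P : Subgroup G) ⊔ (S : Subgroup G) = N := by
        refine Subgroup.eq_of_le_of_card_ge (sup_le Subgroup.le_normalizer hSN) ?_
        rw [hN]
        refine Nat.le_of_dvd Nat.card_pos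
          (Nat.Coprime.mul_dvd_of_dvd_of_dvd (show Nat.Coprime 11 16 by norm_num) ?_ ?_)
        · exact (card_sylow_eleven hG P).symm.dvd.trans (Subgroup.card_dvd_of_le le_sup_left)
        · exact hS16.symm.dvd.trans (Subgroup.card_dvd_of_le le_sup_right)
      have hle : (P : Subgroup G) ⊔ (S : Subgroup G) ≤ Subgroup.centralizer ({z} : Set G) :=
        sup_le (fun x hx => Subgroup.mem_centralizer_singleton_iff.2 (hcommP z hzD x hx).symm)
          (fun s hs => Subgroup.mem_centralizer_singleton_iff.2 (hzS s hs))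
      exact Subgroup.mem_centralizer_singleton_iff.1 (hle (htop.symm ▸ hn))
    show g * z * g⁻¹ = z
    rw [hzall g hgN, mul_inv_cancel_right]
  have := ZStar.mem_center_of_isolated (oddCore_eq_bot hG) hiso
  rw [center_eq_bot hG, Subgroup.mem_bot] at this
  rw [this, orderOf_one] at hz2
  omega

/-- The normaliser of a Sylow 11-subgroup has order 55. -/
theorem card_normalizer_eleven (P : Sylow 11 G) :
    Nat.card (Subgroup.normalizer ((P : Subgroup G) : Set G)) = 55 := by
  rcases card_normalizer_eleven_cases hG P with ⟨h, -⟩ | ⟨h, -⟩ | ⟨-, h⟩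
  · exact absurd h (card_sylow_ne_twelve hG)
  · exact absurd h (card_sylow_ne_fortyfive hG)
  · exact h

theorem card_sylow_eleven_eq : Nat.card (Sylow 11 G) = 144 := by
  obtain ⟨P⟩ : Nonempty (Sylow 11 G) := inferInstance
  have h := Small.card_normalizer_mul P
  rw [card_normalizer_eleven hG P, hG.2] at h
  omega

theorem centralizer_sylow_eleven (P : Sylow 11 G) :
    Subgroup.centralizer ((P : Subgroup G) : Set G) = (P : Subgroup G) := by
  refine (Subgroup.eq_of_le_of_card_ge (Block.le_centralizer_self (card_sylow_eleven hG P)) ?_).symm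
  obtain ⟨k, hk, hkc⟩ := card_centralizer_mul hG P
  have hne := centralizer_ne_normalizer hG P
  rw [card_normalizer_eleven hG P] at hkc hne
  have hk' : k ∈ Nat.divisors 10 := Nat.mem_divisors.2 ⟨hk, by norm_num⟩
  rw [show Nat.divisors 10 = {1, 2, 5, 10} by decide +kernel] at hk'
  simp only [Finset.mem_insert, Finset.mem_singleton] at hk'
  rw [card_sylow_eleven hG P]
  rcases hk' with rfl | rfl | rfl | rfl <;> omega

theorem card_centralizer_eleven {x : G} (hx : orderOf x = 11) :
    Nat.card (Subgroup.centralizer ({x} : Set G)) = 11 := by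
  have hcard : Nat.card (Subgroup.zpowers x) = 11 ^ (Nat.card G).factorization 11 := by
    rw [Nat.card_zpowers, hx, hG.2, show 7920 = 11 ^ 1 * 720 from rfl,
      Nat.factorization_mul (by norm_num) (by norm_num),
      (Fact.out : Nat.Prime 11).factorization_pow, Finsupp.add_apply, Finsupp.single_eq_same,
      Nat.factorization_eq_zero_of_not_dvd (by norm_num : ¬ 11 ∣ 720), add_zero, pow_one]
  have h := centralizer_sylow_eleven hG (Sylow.ofCard _ hcard)
  have e : ((Sylow.ofCard _ hcard : Sylow 11 G) : Subgroup G) = Subgroup.zpowers x := rfl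
  rw [e, Small.centralizer_zpowers] at h
  rw [h, Nat.card_zpowers, hx]

end Sylow

end Cfsg.Lib.MEleven
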