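import Cfsg.Agent.Lib.MEleven.Elements

/-!
The prime 3 in a simple group of order 7920: the Sylow normaliser has order 144, the elements of order 3
form one class with centralisers of order 18.
-/

set_option autoImplicit false
set_option linter.style.haveILetI false
set_option linter.unusedSectionVars false

namespace Cfsg.Lib.MEleven

open Cfsg Cfsg.Lib.Char Cfsg.Lib.Block
open scoped ComplexConjugate

universe u

noncomputable local instance (priority := high) fintypeSubgroupMElevenThree {A : Type u}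
    [Group A] [Fintype A] (H : Subgroup A) : Fintype H := Fintype.ofFinite H

variable {G : Type u} [Group G] [Fintype G] (hG : IsM11 G) [Fact (Nat.Prime 3)] [Fact (Nat.Prime 5)]
  [Fact (Nat.Prime 11)]

include hG

omit [Fact (Nat.Prime 5)] [Fact (Nat.Prime 11)] in
theorem card_sylow_three (Y : Sylow 3 G) : Nat.card (Y : Subgroup G) = 9 := by
  rw [Small.card_sylow 2 880 (by rw [hG.2]; norm_num) (by decide) Y]
  norm_num

omit [Fact (Nat.Prime 5)] [Fact (Nat.Prime 11)] in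
theorem comm_three (Y : Sylow 3 G) {a b : G} (ha : a ∈ (Y : Subgroup G)) (hb : b ∈ (Y : Subgroup G)) :
    a * b = b * a :=
  congrArg Subtype.val (IsPGroup.commutative_of_card_eq_prime_sq (p := 3)
    (by rw [card_sylow_three hG Y]; norm_num) (⟨a, ha⟩ : (Y : Subgroup G)) ⟨b, hb⟩)

omit [Fact (Nat.Prime 3)] in
theorem not_dvd_centralizer_of_three {g : G} (hg : 3 ∣ orderOf g) :
    ¬ 5 ∣ Nat.card (Subgroup.centralizer ({g} : Set G)) ∧
      ¬ 11 ∣ Nat.card (Subgroup.centralizer ({g} : Set G)) := by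
  constructor <;> intro h
  · obtain ⟨⟨x, hxC⟩, hx⟩ := exists_prime_orderOf_dvd_card' 5 h
    rw [Subgroup.orderOf_mk] at hx
    have hd := Subgroup.orderOf_dvd_natCard _ (Subgroup.mem_centralizer_singleton_iff.2
      (Subgroup.mem_centralizer_singleton_iff.1 hxC).symm : g ∈ Subgroup.centralizer ({x} : Set G))
    rw [card_centralizer_five hG hx] at hd
    exact absurd (hg.trans hd) (by norm_num)
  · obtain ⟨⟨x, hxC⟩, hx⟩ := exists_prime_orderOf_dvd_card' 11 h
    rw [Subgroup.orderOf_mk] at hx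
    have hd := Subgroup.orderOf_dvd_natCard _ (Subgroup.mem_centralizer_singleton_iff.2
      (Subgroup.mem_centralizer_singleton_iff.1 hxC).symm : g ∈ Subgroup.centralizer ({x} : Set G))
    rw [card_centralizer_eleven hG hx] at hd
    exact absurd (hg.trans hd) (by norm_num)

omit [Fact (Nat.Prime 5)] [Fact (Nat.Prime 11)] in
theorem three_dvd_orderOf {Y : Sylow 3 G} {g : G} (hg : g ∈ (Y : Subgroup G)) (hg1 : g ≠ 1) :
    3 ∣ orderOf g ∧ ¬ 2 ∣ orderOf g := by
  have hd : orderOf g ∣ 3 ^ 2 := by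
    have h := Subgroup.orderOf_dvd_natCard _ hg
    rw [card_sylow_three hG Y] at h
    simpa using h
  obtain ⟨i, -, hi⟩ := (Nat.dvd_prime_pow Nat.prime_three).1 hd
  rcases i with _ | i
  · exact absurd (orderOf_eq_one_iff.1 (by simpa using hi)) hg1
  · refine ⟨hi ▸ dvd_pow_self 3 (Nat.succ_ne_zero i), fun h => ?_⟩
    have h2 := Nat.prime_two.dvd_of_dvd_pow (hi ▸ h)
    norm_num at h2

omit [Fact (Nat.Prime 11)] [Fact (Nat.Prime 5)] in
theorem exists_sylow_mem {g : G} {k : ℕ} (hg : orderOf g = 3 ^ k) : ∃ Y : Sylow 3 G, g ∈ (Y : Subgroup G) := by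
  obtain ⟨Y, hY⟩ := (IsPGroup.of_card (n := k) (by rw [Nat.card_zpowers, hg] : Nat.card (Subgroup.zpowers g) = 3 ^ k)).exists_le_sylow
  exact ⟨Y, hY (Subgroup.mem_zpowers g)⟩

theorem exists_three_pow {g : G} (h3 : 3 ∣ orderOf g) (h2 : ¬ 2 ∣ orderOf g) :
    ∃ k, orderOf g = 3 ^ k := by
  refine ⟨_, Nat.eq_prime_pow_of_unique_prime_dvd (orderOf_pos g).ne' fun {r} hr hrd => ?_⟩
  have hr' : r ∈ Nat.primeFactors 7920 :=
    Nat.mem_primeFactors.2 ⟨hr, hG.2 ▸ hrd.trans (orderOf_dvd_natCard g), by norm_num⟩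
  rw [show Nat.primeFactors 7920 = {2, 3, 5, 11} by decide +kernel] at hr'
  simp only [Finset.mem_insert, Finset.mem_singleton] at hr'
  rcases hr' with rfl | rfl | rfl | rfl
  · exact absurd hrd h2
  · rfl
  · rw [orderOf_eq_five hG hrd] at h3; norm_num at h3
  · rw [orderOf_eq_eleven hG hrd] at h3; norm_num at h3

theorem centralizer_dvd_of_three {g : G} (h3 : 3 ∣ orderOf g) (h2 : ¬ 2 ∣ orderOf g) :
    ∃ j, j ≤ 4 ∧ Nat.card (Subgroup.centralizer ({g} : Set G)) = 9 * 2 ^ j := by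
  obtain ⟨k, hk⟩ := exists_three_pow hG h3 h2
  obtain ⟨Y, hY⟩ := exists_sylow_mem hG hk
  have h9 : 9 ∣ Nat.card (Subgroup.centralizer ({g} : Set G)) := by
    rw [← card_sylow_three hG Y]
    exact Subgroup.card_dvd_of_le fun a ha => Subgroup.mem_centralizer_singleton_iff.2 (comm_three hG Y ha hY)
  obtain ⟨n5, n11⟩ := not_dvd_centralizer_of_three hG h3
  have hd : Nat.card (Subgroup.centralizer ({g} : Set G)) ∣ 7920 := hG.2 ▸ Subgroup.card_subgroup_dvd_card _
  have hmem := (Finset.mem_filter.2 ⟨Nat.mem_divisors.2 ⟨hd, by norm_num⟩, h9, n5, n11⟩ :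
    Nat.card (Subgroup.centralizer ({g} : Set G)) ∈
      (Nat.divisors 7920).filter (fun n => 9 ∣ n ∧ ¬ 5 ∣ n ∧ ¬ 11 ∣ n))
  rw [show (Nat.divisors 7920).filter (fun n => 9 ∣ n ∧ ¬ 5 ∣ n ∧ ¬ 11 ∣ n) = {9, 18, 36, 72, 144} by
    decide +kernel] at hmem
  simp only [Finset.mem_insert, Finset.mem_singleton] at hmem
  rcases hmem with e | e | e | e | e
  exacts [⟨0, by omega, e⟩, ⟨1, by omega, e⟩, ⟨2, by omega, e⟩, ⟨3, by omega, e⟩, ⟨4, by omega, e⟩]

theorem y_value_congr (D : Chars G) {g : G} (h3 : 3 ∣ orderOf g) (h2 : ¬ 2 ∣ orderOf g) {j : ℕ}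
    (hC : Nat.card (Subgroup.centralizer ({g} : Set G)) = 9 * 2 ^ j) :
    ∃ a : ℤ, (D.E.y₁ : G → ℂ) g = a ∧ (3 : ℤ) ∣ a - 16 ∧ ((2 ^ j : ℕ) : ℤ) ∣ a := by
  haveI : Fact (Nat.Prime 2) := ⟨Nat.prime_two⟩
  obtain ⟨k, hk⟩ := exists_three_pow hG h3 h2
  have h11 : ¬ 11 ∣ orderOf g := fun h => by rw [orderOf_eq_eleven hG h] at h3; norm_num at h3
  obtain ⟨a, ha⟩ := value_int hG D h11
  refine ⟨a, ha, ?_, ?_⟩
  · have h := int_modEq_deg (p := 3) D.E.y₁ hk ha
    rwa [D.deg_y] at h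
  · set C := Subgroup.centralizer ({g} : Set G)
    obtain ⟨R, hR⟩ := Sylow.exists_subgroup_card_pow_prime 2 (show 2 ^ j ∣ Nat.card C by rw [hC]; exact dvd_mul_left _ _)
    have hR' : Nat.card (R.map C.subtype) = 2 ^ j := by
      rw [Subgroup.card_map_of_injective C.subtype_injective, hR]
    rw [← hR']
    refine dvd_value D.E.y₁ (R.map C.subtype) (fun v hv => ?_) (fun v hv hv1 => even_value hG D ?_) ha
    · exact (Subgroup.mem_centralizer_singleton_iff.1 (Subgroup.map_subtype_le _ hv)).symm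
    · have hc : Commute g v := (Subgroup.mem_centralizer_singleton_iff.1 (Subgroup.map_subtype_le _ hv)).symm
      have hd : orderOf v ∣ 2 ^ j := hR' ▸ Subgroup.orderOf_dvd_natCard _ hv
      obtain ⟨i, -, hi⟩ := (Nat.dvd_prime_pow Nat.prime_two).1 hd
      have hcop : (orderOf g).Coprime (orderOf v) := by
        rw [hk, hi]; exact Nat.Coprime.pow _ _ (by norm_num)
      rw [hc.orderOf_mul_eq_mul_orderOf_of_coprime hcop, hi]
      rcases i with _ | i
      · exact absurd (orderOf_eq_one_iff.1 (by simpa using hi)) hv1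
      · exact dvd_mul_of_dvd_right (dvd_pow_self 2 (Nat.succ_ne_zero i)) _

omit [Fact (Nat.Prime 3)] in
theorem chars_ne (D : Chars G) :
    trivChar G ∉ ({D.f, D.t₁, D.t₂, D.t₃} : Finset (IrrCharacter G)) ∧
    D.f ∉ ({D.t₁, D.t₂, D.t₃} : Finset (IrrCharacter G)) ∧
    D.t₁ ∉ ({D.t₂, D.t₃} : Finset (IrrCharacter G)) ∧ D.t₂ ≠ D.t₃ := by
  classical
  have h5 := D.E.card_X
  rw [D.eq_X] at h5
  have key : ∀ (a : IrrCharacter G) (s : Finset (IrrCharacter G)) (n : ℕ),
      (insert a s).card = n + 1 → s.card ≤ n → a ∉ s ∧ s.card = n := by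
    intro a s n h hs
    by_cases ha : a ∈ s
    · rw [Finset.insert_eq_of_mem ha] at h; omega
    · rw [Finset.card_insert_of_notMem ha] at h; exact ⟨ha, by omega⟩
  have c2 : ({D.t₂, D.t₃} : Finset (IrrCharacter G)).card ≤ 2 := Finset.card_le_two
  have c3 : ({D.t₁, D.t₂, D.t₃} : Finset (IrrCharacter G)).card ≤ 3 :=
    (Finset.card_insert_le _ _).trans (by omega)
  have c4 : ({D.f, D.t₁, D.t₂, D.t₃} : Finset (IrrCharacter G)).card ≤ 4 :=
    (Finset.card_insert_le _ _).trans (by omega)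
  obtain ⟨a0, e4⟩ := key _ _ 4 h5 c4
  obtain ⟨a1, e3⟩ := key _ _ 3 e4 c3
  obtain ⟨a2, e2⟩ := key _ _ 2 e3 c2
  refine ⟨a0, a1, a2, fun e => ?_⟩
  rw [e, Finset.pair_eq_singleton, Finset.card_singleton] at e2
  omega

omit [Fact (Nat.Prime 3)] in
theorem sigma_values (D : Chars G) :
    D.E.σ D.f = 1 ∧ D.E.σ D.t₁ = -1 ∧ D.E.σ D.t₂ = -1 ∧ D.E.σ D.t₃ = -1 := by
  have hm : ∀ χ ∈ ({D.f, D.t₁, D.t₂, D.t₃} : Finset (IrrCharacter G)), χ ∈ D.E.X := fun χ h => by
    rw [D.eq_X]; exact Finset.mem_insert_of_mem h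
  have hne : ∀ χ : IrrCharacter G, deg χ ≠ 1 → χ ≠ trivChar G := fun χ h e => h (e ▸ deg_trivChar)
  have a := ElevenBlock.deg_X_mem hG D.E (hm D.f (by simp)) (hne _ (by rw [D.deg_f]; norm_num))
  have b := ElevenBlock.deg_X_mem hG D.E (hm D.t₁ (by simp)) (hne _ (by rw [D.deg_t₁]; norm_num))
  have c := ElevenBlock.deg_X_mem hG D.E (hm D.t₂ (by simp)) (hne _ (by rw [D.deg_t₂]; norm_num))
  have d := ElevenBlock.deg_X_mem hG D.E (hm D.t₃ (by simp)) (hne _ (by rw [D.deg_t₃]; norm_num))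
  simp only [D.deg_f, D.deg_t₁, D.deg_t₂, D.deg_t₃] at a b c d
  norm_num at a b c d
  exact ⟨a, b, c, d⟩

omit [Fact (Nat.Prime 3)] in
/-- The relation at the prime 11 in terms of the four degrees. -/
theorem relation_eq (D : Chars G) {g : G} (hg : ¬ 11 ∣ orderOf g) :
    1 + (D.f : G → ℂ) g - ((D.t₁ : G → ℂ) g + (D.t₂ : G → ℂ) g + (D.t₃ : G → ℂ) g) -
      (D.E.y₁ : G → ℂ) g = 0 := by
  classical
  obtain ⟨n0, n1, n2, n3⟩ := chars_ne hG D
  obtain ⟨s0, s1, s2, s3⟩ := sigma_values hG D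
  have h := D.E.relation g hg
  rw [D.eq_X, Finset.sum_insert n0, Finset.sum_insert n1, Finset.sum_insert n2, Finset.sum_pair n3,
    s0, s1, s2, s3, D.rho, D.E.σ_triv, trivChar_coe] at h
  push_cast at h
  linear_combination h

/-- The column at an element whose order is a power of 3. -/
theorem column_three (D : Chars G) {g : G} (h3 : 3 ∣ orderOf g) (h2 : ¬ 2 ∣ orderOf g) :
    (D.f : G → ℂ) g = 0 ∧
    ((D.t₁ : G → ℂ) g + (D.t₂ : G → ℂ) g + (D.t₃ : G → ℂ) g = 1 - (D.E.y₁ : G → ℂ) g) ∧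
    1 + 2 * ‖(D.E.y₁ : G → ℂ) g‖ ^ 2 + (‖(D.t₁ : G → ℂ) g‖ ^ 2 + ‖(D.t₂ : G → ℂ) g‖ ^ 2 +
      ‖(D.t₃ : G → ℂ) g‖ ^ 2) + ∑ χ ∈ (Finset.univ \ insert D.E.y₁ (insert D.E.y₂ D.E.X)),
        ‖(χ : G → ℂ) g‖ ^ 2 = (Nat.card (Subgroup.centralizer ({g} : Set G)) : ℝ) := by
  classical
  have h11 : ¬ 11 ∣ orderOf g := fun h => by rw [orderOf_eq_eleven hG h] at h3; norm_num at h3
  have hf : (D.f : G → ℂ) g = 0 := by
    refine apply_eq_zero_of_defectZero (p := 3) D.f ?_ h3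
    rw [D.deg_f, hG.2, show 7920 = 3 ^ 2 * 880 from rfl, show 45 = 3 ^ 2 * 5 from rfl,
      Nat.factorization_mul (by norm_num) (by norm_num), Nat.factorization_mul (by norm_num) (by norm_num),
      Finsupp.add_apply, Finsupp.add_apply, Nat.factorization_eq_zero_of_not_dvd (by norm_num : ¬ 3 ∣ 5),
      Nat.factorization_eq_zero_of_not_dvd (by norm_num : ¬ 3 ∣ 880)]
  refine ⟨hf, by linear_combination (relation_eq hG D h11) * (-1 : ℂ) + hf, ?_⟩
  obtain ⟨n0, n1, n2, n3⟩ := chars_ne hG D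
  have h := sum_column_normSq g
  rw [← Finset.sum_sdiff (Finset.subset_univ (insert D.E.y₁ (insert D.E.y₂ D.E.X))),
    Finset.sum_insert (by simp [D.E.ne, D.E.y₁_notMem]), Finset.sum_insert D.E.y₂_notMem,
    ← D.E.regular g h11] at h
  conv_lhs at h => arg 2; arg 2; arg 2; rw [D.eq_X, Finset.sum_insert n0, Finset.sum_insert n1, Finset.sum_insert n2, Finset.sum_pair n3]
  rw [hf, trivChar_coe, norm_one, norm_zero] at h
  linarith

theorem sum_normSq_three_ge (a b c : ℂ) : ‖a + b + c‖ ^ 2 ≤ 3 * (‖a‖ ^ 2 + ‖b‖ ^ 2 + ‖c‖ ^ 2) := by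
  have h := (norm_add_le (a + b) c).trans (add_le_add_left (norm_add_le a b) _)
  have h0 : (0 : ℝ) ≤ ‖a + b + c‖ := norm_nonneg _
  nlinarith [sq_nonneg (‖a‖ - ‖b‖), sq_nonneg (‖b‖ - ‖c‖), sq_nonneg (‖a‖ - ‖c‖)]

theorem normalizer_cases (Y : Sylow 3 G) :
    (Nat.card (Sylow 3 G) = 55 ∧ Nat.card (Subgroup.normalizer ((Y : Subgroup G) : Set G)) = 144) ∨
    (Nat.card (Sylow 3 G) = 220 ∧ Nat.card (Subgroup.normalizer ((Y : Subgroup G) : Set G)) = 36) := by
  classical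
  haveI := hG.1
  set N := Subgroup.normalizer ((Y : Subgroup G) : Set G) with hN
  have hmul := Small.card_normalizer_mul Y
  rw [hG.2, ← hN] at hmul
  have hf := Small.sylow_facts (G := G) (p := 3) 2 880 (by rw [hG.2]; norm_num) (by decide)
  -- elements of order 5 or 11 do not normalise
  have hno : ∀ r : ℕ, r = 5 ∨ r = 11 → ¬ r ∣ Nat.card N := by
    intro r hr hd
    haveI : Fact r.Prime := ⟨by rcases hr with rfl | rfl <;> norm_num⟩
    obtain ⟨⟨x, hxN⟩, hx⟩ := exists_prime_orderOf_dvd_card' r hd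
    rw [Subgroup.orderOf_mk] at hx
    obtain ⟨y, hy⟩ : ∃ y ∈ (Y : Subgroup G), y ≠ 1 ∧ x * y = y * x := by
      set X := Subgroup.zpowers x
      have hact : ∀ z ∈ X, ∀ w ∈ (Y : Subgroup G), z * w * z⁻¹ ∈ (Y : Subgroup G) := fun z hz w hw =>
        (Subgroup.mem_normalizer_iff.1 (Subgroup.zpowers_le.2 hxN hz) w).1 hw
      letI : MulAction X (Y : Subgroup G) :=
        { smul := fun z w => ⟨(z : G) * w * (z : G)⁻¹, hact z z.2 w w.2⟩
          one_smul := fun w => Subtype.ext (by show ((1 : X) : G) * w * ((1 : X) : G)⁻¹ = w; simp)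
          mul_smul := fun a b w => Subtype.ext (by
            show ((a * b : X) : G) * w * ((a * b : X) : G)⁻¹ = (a : G) * ((b : G) * w * (b : G)⁻¹) * (a : G)⁻¹
            rw [Subgroup.coe_mul]; group) }
      have hXp : IsPGroup r X := IsPGroup.of_card (n := 1) (by rw [Nat.card_zpowers, hx, pow_one])
      have hmod := hXp.card_modEq_card_fixedPoints (Y : Subgroup G)
      rw [card_sylow_three hG Y] at hmod
      have h1 : (1 : (Y : Subgroup G)) ∈ MulAction.fixedPoints X (Y : Subgroup G) := fun z =>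
        Subtype.ext (by show (z : G) * ((1 : (Y : Subgroup G)) : G) * (z : G)⁻¹ = _; simp)
      have h2 : 1 < Nat.card (MulAction.fixedPoints X (Y : Subgroup G)) := by
        haveI : Nonempty (MulAction.fixedPoints X (Y : Subgroup G)) := ⟨⟨1, h1⟩⟩
        have hpos : 0 < Nat.card (MulAction.fixedPoints X (Y : Subgroup G)) := Nat.card_pos
        by_contra hle
        have : Nat.card (MulAction.fixedPoints X (Y : Subgroup G)) = 1 := by omega
        rw [this] at hmod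
        rcases hr with rfl | rfl <;> exact absurd hmod (by decide)
      obtain ⟨w, hw⟩ := @exists_ne _ (Finite.one_lt_card_iff_nontrivial.1 h2) (⟨1, h1⟩ :
        MulAction.fixedPoints X (Y : Subgroup G))
      refine ⟨(w : (Y : Subgroup G)), (w : (Y : Subgroup G)).2, fun e => hw (Subtype.ext (Subtype.ext e)), ?_⟩
      have h := congrArg Subtype.val (w.2 ⟨x, Subgroup.mem_zpowers x⟩)
      exact mul_inv_eq_iff_eq_mul.1 h
    obtain ⟨hyY, hy1, hyc⟩ := hy
    obtain ⟨n5, n11⟩ := not_dvd_centralizer_of_three hG (three_dvd_orderOf hG hyY hy1).1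
    have hdx : r ∣ Nat.card (Subgroup.centralizer ({y} : Set G)) := by
      rw [← hx]
      exact Subgroup.orderOf_dvd_natCard _ (Subgroup.mem_centralizer_singleton_iff.2 hyc)
    rcases hr with rfl | rfl
    exacts [n5 hdx, n11 hdx]
  have h5 := hno 5 (Or.inl rfl)
  have h11 := hno 11 (Or.inr rfl)
  have hmem : Nat.card (Sylow 3 G) ∈ (Nat.divisors 880).filter (fun n => n % 3 = 1 ∧ 55 ∣ n) := by
    refine Finset.mem_filter.2 ⟨Nat.mem_divisors.2 ⟨hf.1, by norm_num⟩, hf.2, ?_⟩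
    have h55 : 55 ∣ Nat.card (Sylow 3 G) * Nat.card N := by rw [hmul]; norm_num
    refine (Nat.Coprime.dvd_of_dvd_mul_right ?_ h55)
    rw [show 55 = 5 * 11 from rfl]
    exact Nat.Coprime.mul_left ((Fact.out : Nat.Prime 5).coprime_iff_not_dvd.2 h5)
      ((Fact.out : Nat.Prime 11).coprime_iff_not_dvd.2 h11)
  rw [show (Nat.divisors 880).filter (fun n => n % 3 = 1 ∧ 55 ∣ n) = {55, 220, 880} by decide +kernel] at hmem
  simp only [Finset.mem_insert, Finset.mem_singleton] at hmem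
  rcases hmem with e | e | e <;> rw [e] at hmul
  · exact Or.inl ⟨e, by omega⟩
  · exact Or.inr ⟨e, by omega⟩
  · exfalso
    refine Small.not_normalizer_le_centralizer (not_cyclic hG) Y (fun h => ?_) ?_
    · have := card_sylow_three hG Y
      rw [h, Subgroup.card_bot] at this
      omega
    · have hNY : (Y : Subgroup G) = N := Subgroup.eq_of_le_of_card_ge Subgroup.le_normalizer
        (by rw [card_sylow_three hG Y]; omega)
      intro n hn
      rw [← hN, ← hNY] at hn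
      exact Subgroup.mem_centralizer_iff.2 fun w hw => comm_three hG Y hw hn

theorem card_sylow_three_eq : Nat.card (Sylow 3 G) = 55 := by
  classical
  obtain ⟨D⟩ := nonempty_chars hG
  obtain ⟨Y⟩ : Nonempty (Sylow 3 G) := inferInstance
  rcases normalizer_cases hG Y with ⟨h, -⟩ | ⟨h, -⟩
  · exact h
  exfalso
  -- two Sylow subgroups with nontrivial intersection
  obtain ⟨Q, hQY, y, hyY, hyQ, hy1⟩ : ∃ Q : Sylow 3 G, Q ≠ Y ∧
      ∃ y, y ∈ (Y : Subgroup G) ∧ y ∈ (Q : Subgroup G) ∧ y ≠ 1 := by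
    by_contra hno
    push Not at hno
    have horb : ∀ Q : Sylow 3 G, Q ≠ Y → Nat.card (MulAction.orbit (Y : Subgroup G) Q) = 9 := by
      intro Q hQ
      rw [Nat.card_congr (MulAction.orbitEquivQuotientStabilizer (Y : Subgroup G) Q), ← Subgroup.index]
      have h2 : MulAction.stabilizer (Y : Subgroup G) Q = ⊥ := by
        rw [Subgroup.eq_bot_iff_forall]
        intro x hx
        by_contra hx1
        have hxN : (x : G) ∈ Subgroup.normalizer ((Q : Subgroup G) : Set G) :=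
          Sylow.smul_eq_iff_mem_normalizer.1 hx
        have hp : IsPGroup 3 (Subgroup.zpowers (x : G)) :=
          Y.2.to_le (Subgroup.zpowers_le.2 x.2)
        have hle : Subgroup.zpowers (x : G) ≤ (Q : Subgroup G) :=
          inf_eq_left.1 ((IsPGroup.inf_normalizer_sylow hp Q).symm.trans (inf_eq_left.2 (Subgroup.zpowers_le.2 hxN)))
        exact hx1 (Subtype.ext (hno Q hQ x x.2 (hle (Subgroup.mem_zpowers _))))
      rw [h2, Subgroup.index_bot, card_sylow_three hG Y]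
    have hsum := Nat.card_congr (MulAction.selfEquivSigmaOrbits (Y : Subgroup G) (Sylow 3 G))
    haveI : Fintype (MulAction.orbitRel.Quotient (Y : Subgroup G) (Sylow 3 G)) := Fintype.ofFinite _
    rw [h, Nat.card_sigma,
      ← Finset.add_sum_erase _ _ (Finset.mem_univ (Quotient.mk'' Y : MulAction.orbitRel.Quotient (Y : Subgroup G) (Sylow 3 G)))] at hsum
    rw [Finset.sum_congr rfl fun ω hω => horb _ fun e => (Finset.mem_erase.1 hω).1 (by
      exact (Quotient.out_eq ω).symm.trans (congrArg Quotient.mk'' e))] at hsum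
    have h1 : Nat.card (MulAction.orbit (Y : Subgroup G)
        (Quotient.out (Quotient.mk'' Y : MulAction.orbitRel.Quotient (Y : Subgroup G) (Sylow 3 G)))) = 1 := by
      rw [Nat.card_eq_one_iff_exists]
      refine ⟨⟨_, MulAction.mem_orbit_self _⟩, fun w => Subtype.ext ?_⟩
      have hfix : ∀ x : (Y : Subgroup G), x • Y = Y := fun x =>
        Sylow.smul_eq_iff_mem_normalizer.2 (Subgroup.le_normalizer x.2)
      have hout : Quotient.out (Quotient.mk'' Y : MulAction.orbitRel.Quotient (Y : Subgroup G) (Sylow 3 G)) = Y := by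
        have hm := MulAction.orbitRel_apply.1 (Quotient.mk_out (s := MulAction.orbitRel (Y : Subgroup G) (Sylow 3 G)) Y)
        obtain ⟨x, hx⟩ := hm
        exact hx.symm.trans (hfix x)
      obtain ⟨x, hx⟩ := w.2
      rw [← hx]
      show x • _ = _
      simp only [hout, hfix]
    rw [h1, Finset.sum_const, smul_eq_mul] at hsum
    omega
  obtain ⟨h3, h2⟩ := three_dvd_orderOf hG hyY hy1
  obtain ⟨j, hj4, hC⟩ := centralizer_dvd_of_three hG h3 h2
  set C := Subgroup.centralizer ({y} : Set G) with hCdef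
  have hle : ∀ R : Sylow 3 G, y ∈ (R : Subgroup G) → (R : Subgroup G) ≤ C := fun R hR a ha =>
    Subgroup.mem_centralizer_singleton_iff.2 (comm_three hG R ha hR)
  have hj2 : 2 ≤ j := by
    have hf := Small.sylow_facts (G := C) (p := 3) 2 (2 ^ j) (by rw [hC]; norm_num)
      (fun hd => by have := Nat.prime_three.dvd_of_dvd_pow hd; norm_num at this)
    have hne : (Y.subtype (hle Y hyY) : Sylow 3 C) ≠ Q.subtype (hle Q hyQ) := fun e =>
      hQY (Sylow.subtype_injective e).symm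
    have h2' : 1 < Nat.card (Sylow 3 C) := Finite.one_lt_card_iff_nontrivial.2 ⟨_, _, hne⟩
    obtain ⟨hd, hm⟩ := hf
    by_contra hlt
    interval_cases j
    all_goals
      have := Nat.le_of_dvd (by norm_num) hd
      simp only [pow_zero, pow_one] at this
      omega
  obtain ⟨a, ha, ha3, ha2⟩ := y_value_congr hG D h3 h2 hC
  obtain ⟨hf0, hsum, hcol⟩ := column_three hG D h3 h2
  have hS0 : (0 : ℝ) ≤ ∑ χ ∈ (Finset.univ \ insert D.E.y₁ (insert D.E.y₂ D.E.X)), ‖(χ : G → ℂ) y‖ ^ 2 :=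
    Finset.sum_nonneg fun _ _ => sq_nonneg _
  set R := ∑ χ ∈ (Finset.univ \ insert D.E.y₁ (insert D.E.y₂ D.E.X)), ‖(χ : G → ℂ) y‖ ^ 2 with hRdef
  have h3sum := sum_normSq_three_ge hG ((D.t₁ : G → ℂ) y) ((D.t₂ : G → ℂ) y) ((D.t₃ : G → ℂ) y)
  rw [hsum, ha, show ((1 : ℂ) - (a : ℂ)) = (((1 - a : ℤ)) : ℂ) by push_cast; ring, Complex.norm_intCast,
    sq_abs] at h3sum
  rw [ha, Complex.norm_intCast, sq_abs, hC] at hcol
  push_cast at hcol h3sum
  have hbound : (3 + 6 * a ^ 2 + (1 - a) ^ 2 : ℤ) ≤ 27 * 2 ^ j := by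
    have : (3 + 6 * (a : ℝ) ^ 2 + (1 - (a : ℝ)) ^ 2) ≤ 27 * (2 : ℝ) ^ j := by nlinarith
    exact_mod_cast this
  obtain ⟨b, rfl⟩ := ha2
  have hb : j = 2 ∧ (2 ^ j : ℕ) * b = (4 : ℤ) := by
    interval_cases j
    · push_cast at *
      have : -1 ≤ b := by nlinarith
      have : b ≤ 1 := by nlinarith
      interval_cases b <;> norm_num at * <;> omega
    · push_cast at *
      have : -1 ≤ b := by nlinarith
      have : b ≤ 1 := by nlinarith
      interval_cases b <;> norm_num at * <;> omega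
    · push_cast at *
      have : -1 ≤ b := by nlinarith
      have : b ≤ 1 := by nlinarith
      interval_cases b <;> norm_num at * <;> omega
  obtain ⟨rfl, hb4⟩ := hb
  rw [hb4] at hcol h3sum
  norm_num at hcol h3sum
  have hrest : ∑ χ ∈ (Finset.univ \ insert D.E.y₁ (insert D.E.y₂ D.E.X)), ‖(χ : G → ℂ) y‖ ^ 2 = 0 := by
    rw [← hRdef]; linarith
  have h := sum_column_degree hy1
  have h11 : ¬ 11 ∣ orderOf y := fun h' => by rw [orderOf_eq_eleven hG h'] at h3; norm_num at h3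
  obtain ⟨n0, n1, n2, n3⟩ := chars_ne hG D
  rw [← Finset.sum_sdiff (Finset.subset_univ (insert D.E.y₁ (insert D.E.y₂ D.E.X))),
    Finset.sum_eq_zero (fun χ hχ => by
      have := (Finset.sum_eq_zero_iff_of_nonneg fun _ _ => sq_nonneg _).1 hrest χ hχ
      rw [norm_eq_zero.1 (sq_eq_zero_iff.1 this), mul_zero]),
    Finset.sum_insert (by simp [D.E.ne, D.E.y₁_notMem]), Finset.sum_insert D.E.y₂_notMem,
    ← D.E.regular y h11, ElevenBlock.deg_y_eq hG D.E, D.deg_y, D.eq_X, Finset.sum_insert n0,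
    Finset.sum_insert n1, Finset.sum_insert n2, Finset.sum_pair n3, deg_trivChar, D.deg_f, D.deg_t₁,
    D.deg_t₂, D.deg_t₃, trivChar_coe, hf0, ha, hb4] at h
  rw [ha, hb4] at hsum
  push_cast at h hsum
  have : (99 : ℂ) = 0 := by linear_combination h - 10 * hsum
  norm_num at this

theorem card_normalizer_three (Y : Sylow 3 G) :
    Nat.card (Subgroup.normalizer ((Y : Subgroup G) : Set G)) = 144 := by
  have h := card_sylow_three_eq hG
  rcases normalizer_cases hG Y with ⟨-, h'⟩ | ⟨h', -⟩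
  · exact h'
  · omega

/-- The value of the exceptional character at the 3-elements, their number, and trivial intersections. -/
theorem three_facts (D : Chars G) :
    (∀ g : G, 3 ∣ orderOf g → ¬ 2 ∣ orderOf g → (D.E.y₁ : G → ℂ) g = -2) ∧
    (Finset.univ.filter (fun g : G => 3 ∣ orderOf g ∧ ¬ 2 ∣ orderOf g)).card = 440 ∧
    ∀ Y Q : Sylow 3 G, ∀ g ∈ (Y : Subgroup G), g ∈ (Q : Subgroup G) → g ≠ 1 → Y = Q := by
  classical
  set T := Finset.univ.filter (fun g : G => 3 ∣ orderOf g ∧ ¬ 2 ∣ orderOf g) with hT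
  set S : Sylow 3 G → Finset G := fun Q => Finset.univ.filter (fun g : G => g ∈ (Q : Subgroup G) ∧ g ≠ 1)
  have hS8 : ∀ Q, (S Q).card = 8 := fun Q => by
    have h : (Finset.univ.filter (fun g : G => g ∈ (Q : Subgroup G))).card = 9 := by
      rw [← Fintype.card_subtype, ← Nat.card_eq_fintype_card]
      exact card_sylow_three hG Q
    show (Finset.univ.filter (fun g : G => g ∈ (Q : Subgroup G) ∧ g ≠ 1)).card = 8
    rw [← Finset.filter_filter, Finset.filter_ne', Finset.card_erase_of_mem (by simp [one_mem])]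
    exact congrArg (fun n => n - 1) h
  have hTS : T ⊆ (Finset.univ : Finset (Sylow 3 G)).biUnion S := fun g hg => by
    obtain ⟨-, h3, h2⟩ := Finset.mem_filter.1 hg
    obtain ⟨k, hk⟩ := exists_three_pow hG h3 h2
    obtain ⟨Q, hQ⟩ := exists_sylow_mem hG hk
    exact Finset.mem_biUnion.2 ⟨Q, Finset.mem_univ _, Finset.mem_filter.2 ⟨Finset.mem_univ _, hQ,
      fun e => by rw [e, orderOf_one] at h3; norm_num at h3⟩⟩
  obtain ⟨hs1, hs2⟩ := three_sums hG D
  have hterm : ∀ g ∈ T, ((D.E.y₁ : G → ℂ) g).im = 0 := fun g hg => by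
    obtain ⟨-, h3, h2⟩ := Finset.mem_filter.1 hg
    obtain ⟨a, ha⟩ := value_int hG D (fun h => by rw [orderOf_eq_eleven hG h] at h3; norm_num at h3 : ¬ 11 ∣ orderOf g)
    rw [ha]; simp
  have hsq : ∑ g ∈ T, ‖(D.E.y₁ : G → ℂ) g + 2‖ ^ 2 = 4 * (T.card : ℝ) - 1760 := by
    have e : ∀ g ∈ T, ‖(D.E.y₁ : G → ℂ) g + 2‖ ^ 2 =
        ‖(D.E.y₁ : G → ℂ) g‖ ^ 2 + 4 * ((D.E.y₁ : G → ℂ) g).re + 4 := fun g hg => by
      rw [Complex.sq_norm, Complex.sq_norm, Complex.normSq_apply, Complex.normSq_apply, Complex.add_re,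
        Complex.add_im, hterm g hg]
      simp
      ring
    have hre : ∑ g ∈ T, ((D.E.y₁ : G → ℂ) g).re = -880 := by
      rw [← Complex.re_sum, hs1]; simp
    rw [Finset.sum_congr rfl e, Finset.sum_add_distrib, Finset.sum_add_distrib, hs2, ← Finset.mul_sum, hre,
      Finset.sum_const, nsmul_eq_mul]
    ring
  have hge : 440 ≤ T.card := by
    have : (0 : ℝ) ≤ 4 * (T.card : ℝ) - 1760 := hsq ▸ Finset.sum_nonneg fun _ _ => sq_nonneg _
    have h' : (440 : ℝ) ≤ (T.card : ℝ) := by linarith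
    exact_mod_cast h'
  have hle : T.card ≤ 440 := (Finset.card_le_card hTS).trans (Finset.card_biUnion_le.trans (by
    rw [Finset.sum_congr rfl fun Q _ => hS8 Q, Finset.sum_const, smul_eq_mul, Finset.card_univ,
      ← Nat.card_eq_fintype_card, card_sylow_three_eq hG]))
  have hTc : T.card = 440 := le_antisymm hle hge
  refine ⟨fun g h3 h2 => ?_, hTc, fun Y Q g hgY hgQ hg1 => ?_⟩
  · rw [hTc] at hsq
    have h0 := (Finset.sum_eq_zero_iff_of_nonneg fun _ _ => sq_nonneg _).1 (hsq.trans (by norm_num)) g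
      (Finset.mem_filter.2 ⟨Finset.mem_univ _, h3, h2⟩)
    exact eq_neg_of_add_eq_zero_left (norm_eq_zero.1 (sq_eq_zero_iff.1 h0))
  · by_contra hne
    have hsub : T ⊆ ((Finset.univ.erase Y).biUnion S) ∪ (S Y).erase g := fun w hw => by
      obtain ⟨R, -, hR⟩ := Finset.mem_biUnion.1 (hTS hw)
      by_cases hRY : R = Y
      · subst hRY
        by_cases hwg : w = g
        · refine Finset.mem_union_left _ (Finset.mem_biUnion.2 ⟨Q, Finset.mem_erase.2 ⟨Ne.symm hne, Finset.mem_univ _⟩, ?_⟩)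
          exact Finset.mem_filter.2 ⟨Finset.mem_univ _, hwg ▸ hgQ, hwg ▸ hg1⟩
        · exact Finset.mem_union_right _ (Finset.mem_erase.2 ⟨hwg, hR⟩)
      · exact Finset.mem_union_left _ (Finset.mem_biUnion.2 ⟨R, Finset.mem_erase.2 ⟨hRY, Finset.mem_univ _⟩, hR⟩)
    have h := ((Finset.card_le_card hsub).trans (Finset.card_union_le _ _)).trans
      (add_le_add Finset.card_biUnion_le le_rfl)
    rw [hTc, Finset.sum_congr rfl fun R _ => hS8 R, Finset.sum_const, smul_eq_mul,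
      Finset.card_erase_of_mem (Finset.mem_univ _), Finset.card_univ, ← Nat.card_eq_fintype_card,
      card_sylow_three_eq hG, Finset.card_erase_of_mem (Finset.mem_filter.2 ⟨Finset.mem_univ _, hgY, hg1⟩),
      hS8] at h
    omega

theorem card_centralizer_three {g : G} (h3 : 3 ∣ orderOf g) (h2 : ¬ 2 ∣ orderOf g) :
    Nat.card (Subgroup.centralizer ({g} : Set G)) = 18 := by
  obtain ⟨D⟩ := nonempty_chars hG
  obtain ⟨j, -, hC⟩ := centralizer_dvd_of_three hG h3 h2
  obtain ⟨a, ha, -, ha2⟩ := y_value_congr hG D h3 h2 hC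
  have hm2 := (three_facts hG D).1 g h3 h2
  have ha' : a = -2 := by
    have : (a : ℂ) = ((-2 : ℤ) : ℂ) := by rw [← ha, hm2]; norm_num
    exact_mod_cast this
  obtain ⟨-, hsum, hcol⟩ := column_three hG D h3 h2
  have hS0 : (0 : ℝ) ≤ ∑ χ ∈ (Finset.univ \ insert D.E.y₁ (insert D.E.y₂ D.E.X)), ‖(χ : G → ℂ) g‖ ^ 2 :=
    Finset.sum_nonneg fun _ _ => sq_nonneg _
  set R := ∑ χ ∈ (Finset.univ \ insert D.E.y₁ (insert D.E.y₂ D.E.X)), ‖(χ : G → ℂ) g‖ ^ 2 with hRdef
  have h3sum := sum_normSq_three_ge hG ((D.t₁ : G → ℂ) g) ((D.t₂ : G → ℂ) g) ((D.t₃ : G → ℂ) g)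
  rw [hsum, hm2, show ((1 : ℂ) - (-2)) = 3 by norm_num] at h3sum
  rw [hm2, hC] at hcol
  norm_num at h3sum hcol
  rw [hC]
  have hj : j ≤ 1 := by
    rw [ha'] at ha2
    have hd : (2 : ℕ) ^ j ∣ 2 := by
      have := Int.natAbs_dvd_natAbs.2 ha2
      simpa using this
    have := Nat.le_of_dvd (by norm_num) hd
    by_contra hlt
    have h4 : 2 ^ 2 ≤ 2 ^ j := Nat.pow_le_pow_right (by norm_num) (by omega)
    omega
  interval_cases j
  · norm_num at hcol
    linarith
  · norm_num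

/-- The elements of 3-power order form one conjugacy class. -/
theorem isConj_three {g h : G} (g3 : 3 ∣ orderOf g) (g2 : ¬ 2 ∣ orderOf g) (h3 : 3 ∣ orderOf h)
    (h2 : ¬ 2 ∣ orderOf h) : IsConj g h := by
  classical
  obtain ⟨D⟩ := nonempty_chars hG
  have hc := card_conjClass_mul g
  rw [card_centralizer_three hG g3 g2, hG.2, Nat.card_eq_fintype_card, Fintype.card_subtype] at hc
  have hsub : (Finset.univ.filter fun x => IsConj g x) ⊆
      Finset.univ.filter (fun x : G => 3 ∣ orderOf x ∧ ¬ 2 ∣ orderOf x) := fun x hx => by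
    obtain ⟨a, rfl⟩ := isConj_iff.1 (Finset.mem_filter.1 hx).2
    refine Finset.mem_filter.2 ⟨Finset.mem_univ _, ?_⟩
    rw [show orderOf (a * g * a⁻¹) = orderOf g from (MulAut.conj a).orderOf_eq g]
    exact ⟨g3, g2⟩
  have heq := Finset.eq_of_subset_of_card_le hsub (by rw [(three_facts hG D).2.1]; omega)
  have : h ∈ Finset.univ.filter (fun x => IsConj g x) := by
    rw [heq]; exact Finset.mem_filter.2 ⟨Finset.mem_univ _, h3, h2⟩
  exact (Finset.mem_filter.1 this).2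

theorem orderOf_eq_three {g : G} (h3 : 3 ∣ orderOf g) (h2 : ¬ 2 ∣ orderOf g) : orderOf g = 3 := by
  obtain ⟨x, hx⟩ := exists_prime_orderOf_dvd_card' (G := G) 3 (by rw [hG.2]; norm_num)
  obtain ⟨a, ha⟩ := isConj_iff.1 (isConj_three hG h3 h2 (h := x) (by rw [hx]) (by rw [hx]; norm_num))
  rw [← hx, ← ha]
  exact ((MulAut.conj a).orderOf_eq g).symm

/-- The characters of degree 10 take the value 1 at the elements of order 3. -/
theorem ten_three (D : Chars G) {g : G} (hg : orderOf g = 3) :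
    (D.t₁ : G → ℂ) g = 1 ∧ (D.t₂ : G → ℂ) g = 1 ∧ (D.t₃ : G → ℂ) g = 1 := by
  have g3 : 3 ∣ orderOf g := by rw [hg]
  have g2 : ¬ 2 ∣ orderOf g := by rw [hg]; norm_num
  have hint : ∀ χ : IrrCharacter G, ∃ m : ℤ, (χ : G → ℂ) g = m ∧ (3 : ℤ) ∣ m - deg χ := fun χ => by
    obtain ⟨m, hm⟩ := exists_int_value χ (g := g) fun k hk => by
      have hk3 : ¬ 3 ∣ k := fun h => by
        have := Nat.dvd_gcd h (show 3 ∣ Nat.card G by rw [hG.2]; norm_num)
        rw [hk.gcd_eq_one] at this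
        omega
      have ho : orderOf (g ^ k) = 3 := by
        rw [Nat.Coprime.orderOf_pow (by rw [hg]; exact (Nat.prime_three.coprime_iff_not_dvd.2 hk3)), hg]
      exact isConj_three hG g3 g2 (by rw [ho]) (by rw [ho]; norm_num)
    exact ⟨m, hm, int_modEq_deg (p := 3) χ (k := 1) (by rw [hg, pow_one]) hm⟩
  obtain ⟨a, ha, ha'⟩ := hint D.t₁
  obtain ⟨b, hb, hb'⟩ := hint D.t₂
  obtain ⟨c, hc, hc'⟩ := hint D.t₃
  rw [D.deg_t₁] at ha'; rw [D.deg_t₂] at hb'; rw [D.deg_t₃] at hc'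
  obtain ⟨-, hsum, hcol⟩ := column_three hG D g3 g2
  have hS0 : (0 : ℝ) ≤ ∑ χ ∈ (Finset.univ \ insert D.E.y₁ (insert D.E.y₂ D.E.X)), ‖(χ : G → ℂ) g‖ ^ 2 :=
    Finset.sum_nonneg fun _ _ => sq_nonneg _
  set R := ∑ χ ∈ (Finset.univ \ insert D.E.y₁ (insert D.E.y₂ D.E.X)), ‖(χ : G → ℂ) g‖ ^ 2 with hRdef
  have hm2 := (three_facts hG D).1 g g3 g2
  rw [ha, hb, hc, hm2] at hsum
  rw [ha, hb, hc, hm2, card_centralizer_three hG g3 g2] at hcol
  simp only [Complex.norm_intCast, sq_abs] at hcol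
  norm_num at hcol
  have hs : a + b + c = 3 := by
    have : ((a + b + c : ℤ) : ℂ) = ((3 : ℤ) : ℂ) := by push_cast; rw [hsum]; norm_num
    exact_mod_cast this
  have hq : a ^ 2 + b ^ 2 + c ^ 2 ≤ 9 := by
    have : (a : ℝ) ^ 2 + (b : ℝ) ^ 2 + (c : ℝ) ^ 2 ≤ 9 := by linarith
    exact_mod_cast this
  have hA : -3 ≤ a ∧ a ≤ 3 := ⟨by nlinarith, by nlinarith⟩
  have hB : -3 ≤ b ∧ b ≤ 3 := ⟨by nlinarith, by nlinarith⟩
  obtain ⟨rfl, rfl, rfl⟩ : a = 1 ∧ b = 1 ∧ c = 1 := by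
    obtain ⟨hA1, hA2⟩ := hA
    obtain ⟨hB1, hB2⟩ := hB
    obtain rfl : c = 3 - a - b := by omega
    interval_cases a <;> interval_cases b <;> omega
  rw [ha, hb, hc]
  norm_num

end Cfsg.Lib.MEleven
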