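import Cfsg.Agent.Lib.MEleven.SelfThree

/-!
A Sylow 2-subgroup of a simple group of order 7920 inside the normaliser of a Sylow 3-subgroup.
-/

set_option autoImplicit false
set_option linter.style.haveILetI false
set_option linter.unusedSectionVars false

namespace Cfsg.Lib.MEleven

open Cfsg

universe u

noncomputable local instance (priority := high) fintypeSubgroupMElevenTwo {A : Type u}
    [Group A] [Fintype A] (H : Subgroup A) : Fintype H := Fintype.ofFinite H

variable {G : Type u} [Group G] [Fintype G]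

/-- A Sylow 2-subgroup inside a Sylow 3-normaliser, with its involutions `z`, `t`, `tz`, `v`, `vz`. -/
structure TwoData (G : Type u) [Group G] [Fintype G] where
  /-- the Sylow 3-subgroup -/
  Y : Sylow 3 G
  /-- the Sylow 2-subgroup -/
  S : Sylow 2 G
  /-- the central involution -/
  z : G
  /-- a non-central involution -/
  t : G
  /-- another non-central involution -/
  v : G
  S_le : (S : Subgroup G) ≤ Subgroup.normalizer ((Y : Subgroup G) : Set G)
  z_mem : z ∈ (S : Subgroup G)
  t_mem : t ∈ (S : Subgroup G)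
  v_mem : v ∈ (S : Subgroup G)
  z_sq : z * z = 1
  t_sq : t * t = 1
  v_sq : v * v = 1
  z_ne : z ≠ 1
  t_ne : t ≠ 1
  z_comm : ∀ x ∈ (S : Subgroup G), x * z = z * x
  z_inv : ∀ y ∈ (Y : Subgroup G), z * y * z⁻¹ = y⁻¹
  tv : t * v * t = v * z
  comm_t : ∀ x ∈ (S : Subgroup G), x * t = t * x → x = 1 ∨ x = z ∨ x = t ∨ x = t * z
  invol : ∀ x ∈ (S : Subgroup G), x * x = 1 → x ≠ 1 → x = z ∨ x = t ∨ x = t * z ∨ x = v ∨ x = v * z
  t_fix : ∃ y ∈ (Y : Subgroup G), y ≠ 1 ∧ t * y = y * t

variable (hG : IsM11 G) [Fact (Nat.Prime 2)] [Fact (Nat.Prime 3)] [Fact (Nat.Prime 5)] [Fact (Nat.Prime 11)]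

include hG

theorem nonempty_twoData : Nonempty (TwoData G) := by
  classical
  obtain ⟨Y⟩ : Nonempty (Sylow 3 G) := inferInstance
  obtain ⟨S, hSN⟩ := sylow_two_le_normalizer hG Y
  have hS16 := card_sylow_two hG S
  have hY9 := card_sylow_three hG Y
  set Y₁ := Finset.univ.filter (fun y : G => y ∈ (Y : Subgroup G) ∧ y ≠ 1) with hY₁
  have hY8 : Y₁.card = 8 := by
    have h : (Finset.univ.filter (fun g : G => g ∈ (Y : Subgroup G))).card = 9 := by
      rw [← Fintype.card_subtype, ← Nat.card_eq_fintype_card]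
      exact hY9
    rw [hY₁, ← Finset.filter_filter, Finset.filter_ne', Finset.card_erase_of_mem (by simp [one_mem])]
    exact congrArg (fun n => n - 1) h
  have hSY : ∀ x ∈ (S : Subgroup G), (∀ y ∈ (Y : Subgroup G), x * y = y * x) → x = 1 := by
    intro x hx hc
    have hxY : x ∈ (Y : Subgroup G) := by
      rw [← centralizer_sylow_three hG Y]
      exact Subgroup.mem_centralizer_iff.2 fun y hy => (hc y hy).symm
    have h1 : orderOf x ∣ 16 := hS16 ▸ Subgroup.orderOf_dvd_natCard _ hx
    have h2 : orderOf x ∣ 9 := hY9 ▸ Subgroup.orderOf_dvd_natCard _ hxY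
    exact orderOf_eq_one_iff.1 (Nat.dvd_one.1 (by simpa using Nat.dvd_gcd h1 h2))
  have hconj : ∀ x ∈ (S : Subgroup G), ∀ y ∈ (Y : Subgroup G), x * y * x⁻¹ ∈ (Y : Subgroup G) :=
    fun x hx y hy => (Subgroup.mem_normalizer_iff.1 (hSN hx) y).1 hy
  -- at most two elements of `S` centralise a given element
  have hstab : ∀ y ∈ (Y : Subgroup G), y ≠ 1 → ∀ a ∈ (S : Subgroup G), ∀ b ∈ (S : Subgroup G),
      a * y = y * a → b * y = y * b → a ≠ 1 → b ≠ 1 → a = b ∧ a * a = 1 := by
    intro y hy hy1 a ha b hb hay hby ha1 hb1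
    have hc := card_centralizer_three hG (three_dvd_orderOf hG hy hy1).1 (three_dvd_orderOf hG hy hy1).2
    set W := (S : Subgroup G) ⊓ Subgroup.centralizer ({y} : Set G)
    have hW : Nat.card W ∣ 2 := by
      have h1 : Nat.card W ∣ 16 := hS16 ▸ Subgroup.card_dvd_of_le inf_le_left
      have h2 : Nat.card W ∣ 18 := hc ▸ Subgroup.card_dvd_of_le inf_le_right
      simpa using Nat.dvd_gcd h1 h2
    have haW : a ∈ W := ⟨ha, Subgroup.mem_centralizer_singleton_iff.2 hay⟩
    have hbW : b ∈ W := ⟨hb, Subgroup.mem_centralizer_singleton_iff.2 hby⟩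
    have ha2 : a * a = 1 := by
      rw [← pow_two]
      exact orderOf_dvd_iff_pow_eq_one.1 ((Subgroup.orderOf_dvd_natCard _ haW).trans hW)
    refine ⟨?_, ha2⟩
    by_contra hab
    have h3 : ({1, a, b} : Finset G) ⊆ (W : Set G).toFinset := by
      intro x hx
      simp only [Finset.mem_insert, Finset.mem_singleton] at hx
      rcases hx with rfl | rfl | rfl
      exacts [Set.mem_toFinset.2 (one_mem _), Set.mem_toFinset.2 haW, Set.mem_toFinset.2 hbW]
    have h4 := Finset.card_le_card h3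
    rw [Set.toFinset_card, ← Nat.card_eq_fintype_card, SetLike.coe_sort_coe,
      Finset.card_insert_of_notMem (by simp [ha1.symm, hb1.symm]), Finset.card_pair hab] at h4
    have := Nat.le_of_dvd (by norm_num) hW
    omega
  -- each element has a nontrivial centraliser in `S`
  have hexists : ∀ y ∈ (Y : Subgroup G), y ≠ 1 → ∃ a ∈ (S : Subgroup G), a ≠ 1 ∧ a * y = y * a := by
    intro y hy hy1
    by_contra hno
    push Not at hno
    have hinj : Set.InjOn (fun x => x * y * x⁻¹) (((S : Subgroup G) : Set G).toFinset : Set G) := by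
      intro a ha b hb e
      simp only [Finset.mem_coe, Set.mem_toFinset] at ha hb
      by_contra hab
      refine hno (b⁻¹ * a) (mul_mem (inv_mem hb) ha) (fun h => hab (inv_mul_eq_one.1 h).symm) ?_
      calc b⁻¹ * a * y = b⁻¹ * (a * y * a⁻¹) * a := by group
        _ = b⁻¹ * (b * y * b⁻¹) * a := by rw [show a * y * a⁻¹ = b * y * b⁻¹ from e]
        _ = y * (b⁻¹ * a) := by group
    have h := Finset.card_le_card_of_injOn (t := Y₁) _ (fun x hx => Finset.mem_filter.2
      ⟨Finset.mem_univ _, hconj x (Set.mem_toFinset.1 hx) y hy, fun e => hy1 (conj_eq_one_iff.1 e)⟩) hinj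
    rw [Set.toFinset_card, ← Nat.card_eq_fintype_card, SetLike.coe_sort_coe, hS16, hY8] at h
    omega
  -- transitivity of `S`
  have htrans : ∀ y ∈ (Y : Subgroup G), y ≠ 1 → ∀ y' ∈ (Y : Subgroup G), y' ≠ 1 →
      ∃ x ∈ (S : Subgroup G), x * y * x⁻¹ = y' := by
    intro y hy hy1 y' hy' hy'1
    set T := ((S : Subgroup G) : Set G).toFinset
    have hsub : T.image (fun x => x * y * x⁻¹) ⊆ Y₁ := fun w hw => by
      obtain ⟨x, hx, rfl⟩ := Finset.mem_image.1 hw
      exact Finset.mem_filter.2 ⟨Finset.mem_univ _, hconj x (Set.mem_toFinset.1 hx) y hy,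
        fun e => hy1 (conj_eq_one_iff.1 e)⟩
    have hfib : ∀ w ∈ T.image (fun x => x * y * x⁻¹), (T.filter fun x => x * y * x⁻¹ = w).card ≤ 2 := by
      intro w hw
      obtain ⟨a, ha, rfl⟩ := Finset.mem_image.1 hw
      obtain ⟨b, hb, hb1, hby⟩ := hexists y hy hy1
      refine (Finset.card_le_card (t := {a, a * b}) fun x hx => ?_).trans Finset.card_le_two
      obtain ⟨hxT, hxe⟩ := Finset.mem_filter.1 hx
      by_cases hxa : x = a
      · simp [hxa]
      · have hc : a⁻¹ * x * y = y * (a⁻¹ * x) := by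
          calc a⁻¹ * x * y = a⁻¹ * (x * y * x⁻¹) * x := by group
            _ = a⁻¹ * (a * y * a⁻¹) * x := by rw [hxe]
            _ = y * (a⁻¹ * x) := by group
        have e := (hstab y hy hy1 (a⁻¹ * x) (mul_mem (inv_mem (Set.mem_toFinset.1 ha)) (Set.mem_toFinset.1 hxT))
          b hb hc hby (fun h => hxa (inv_mul_eq_one.1 h).symm) hb1).1
        simp [← e]
    have h := Finset.card_le_mul_card_image T 2 hfib
    rw [Set.toFinset_card, ← Nat.card_eq_fintype_card, SetLike.coe_sort_coe, hS16] at h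
    have heq : T.image (fun x => x * y * x⁻¹) = Y₁ :=
      Finset.eq_of_subset_of_card_le hsub (by rw [hY8]; omega)
    have hm : y' ∈ T.image (fun x => x * y * x⁻¹) := heq ▸ Finset.mem_filter.2 ⟨Finset.mem_univ _, hy', hy'1⟩
    obtain ⟨x, hx, hxe⟩ := Finset.mem_image.1 hm
    exact ⟨x, Set.mem_toFinset.1 hx, hxe⟩
  obtain ⟨y₀, hy₀, hy₀1⟩ : ∃ y ∈ (Y : Subgroup G), y ≠ 1 := by
    obtain ⟨y, hy⟩ := Finset.card_pos.1 (hY8 ▸ (by norm_num : 0 < 8) : 0 < Y₁.card)
    exact ⟨y, (Finset.mem_filter.1 hy).2⟩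
  -- the central involution
  obtain ⟨z, hzS, hz1, hz2, hzc⟩ : ∃ z ∈ (S : Subgroup G), z ≠ 1 ∧ z * z = 1 ∧
      ∀ x ∈ (S : Subgroup G), x * z = z * x := by
    haveI : Nontrivial (S : Subgroup G) := Finite.one_lt_card_iff_nontrivial.1 (by rw [hS16]; norm_num)
    haveI := S.2.center_nontrivial
    have h2 : 2 ∣ Nat.card (Subgroup.center (S : Subgroup G)) := by
      obtain ⟨n, hn⟩ := IsPGroup.iff_card.1 (S.2.to_subgroup (Subgroup.center (S : Subgroup G)))
      have hlt : 1 < Nat.card (Subgroup.center (S : Subgroup G)) := Finite.one_lt_card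
      rcases n with _ | n
      · rw [hn, pow_zero] at hlt; omega
      · rw [hn]; exact dvd_pow_self 2 (by omega)
    obtain ⟨⟨⟨z, hzS⟩, hzZ⟩, hz⟩ := exists_prime_orderOf_dvd_card' 2 h2
    rw [← Subgroup.orderOf_coe, ← Subgroup.orderOf_coe] at hz
    have hz' : orderOf z = 2 := hz
    exact ⟨z, hzS, fun e => by rw [e, orderOf_one] at hz'; norm_num at hz',
      by rw [← pow_two, ← hz', pow_orderOf_eq_one],
      fun x hx => congrArg Subtype.val (Subgroup.mem_center_iff.1 hzZ ⟨x, hx⟩)⟩
  have hzfix : ∀ y ∈ (Y : Subgroup G), z * y = y * z → y = 1 := by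
    intro y hy hzy
    by_contra hy1
    refine hz1 (hSY z hzS fun y' hy' => ?_)
    by_cases hy'1 : y' = 1
    · rw [hy'1, one_mul, mul_one]
    obtain ⟨x, hx, rfl⟩ := htrans y hy hy1 y' hy' hy'1
    have h1 := hzc x hx
    have h2 := hzc x⁻¹ (inv_mem hx)
    calc z * (x * y * x⁻¹) = x * (z * y) * x⁻¹ := by rw [← mul_assoc, ← mul_assoc, ← h1, mul_assoc x z]
      _ = x * (y * z) * x⁻¹ := by rw [hzy]
      _ = x * y * (z * x⁻¹) := by simp only [mul_assoc]
      _ = x * y * (x⁻¹ * z) := by rw [h2]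
      _ = x * y * x⁻¹ * z := by simp only [mul_assoc]
  have hzinv := inverts_of_sq hG (hSN hzS) (fun y _ => by rw [hz2, one_mul, mul_one]) hzfix
  -- other involutions fix an element
  have hinvfix : ∀ x ∈ (S : Subgroup G), x * x = 1 → x ≠ 1 → x ≠ z →
      ∃ y ∈ (Y : Subgroup G), y ≠ 1 ∧ x * y = y * x := by
    intro x hx hx2 hx1 hxz
    by_contra hno
    push Not at hno
    have hinv := inverts_of_sq hG (hSN hx) (fun y _ => by rw [hx2, one_mul, mul_one]) fun y hy h => by
      by_contra hy1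
      exact hno y hy hy1 h
    refine hxz (inv_mul_eq_one.1 (hSY (x⁻¹ * z) (mul_mem (inv_mem hx) hzS) fun y hy => ?_))
    calc x⁻¹ * z * y = x⁻¹ * (z * y * z⁻¹) * z := by group
      _ = x⁻¹ * y⁻¹ * z := by rw [hzinv y hy]
      _ = x⁻¹ * (x * y * x⁻¹) * z := by rw [hinv y hy]
      _ = y * (x⁻¹ * z) := by group
  obtain ⟨t, ht, ht1, hty⟩ := hexists y₀ hy₀ hy₀1
  have ht2 := (hstab y₀ hy₀ hy₀1 t ht t ht hty hty ht1 ht1).2
  have htz : t ≠ z := fun e => hy₀1 (hzfix y₀ hy₀ (e ▸ hty))
  -- the fixed points of `t`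
  have hF : ∀ y ∈ (Y : Subgroup G), y * t = t * y → y = 1 ∨ y = y₀ ∨ y = y₀⁻¹ := by
    intro y hy hyt
    set F := (Y : Subgroup G) ⊓ Subgroup.centralizer ({t} : Set G)
    have hFd : Nat.card F ∣ 3 ^ 2 := by
      have := Subgroup.card_dvd_of_le (inf_le_left : F ≤ (Y : Subgroup G))
      rw [hY9] at this
      exact this
    have hF3 : Nat.card F ≤ 3 := by
      obtain ⟨i, hi, e⟩ := (Nat.dvd_prime_pow Nat.prime_three).1 hFd
      rcases i with _ | _ | i
      · rw [e]; norm_num
      · rw [e]; norm_num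
      · exfalso
        obtain rfl : i = 0 := by omega
        have heq : F = (Y : Subgroup G) := Subgroup.eq_of_le_of_card_ge inf_le_left (by rw [hY9, e]; norm_num)
        exact ht1 (hSY t ht fun y hy => (Subgroup.mem_centralizer_singleton_iff.1
          ((heq.symm ▸ hy : y ∈ F).2)).symm)
    have hy₀F : y₀ ∈ F := ⟨hy₀, Subgroup.mem_centralizer_singleton_iff.2 hty.symm⟩
    have hne : y₀ ≠ y₀⁻¹ := fun e => by
      refine (three_dvd_orderOf hG hy₀ hy₀1).2 ?_
      rw [orderOf_eq_prime (p := 2) (by rw [pow_two]; nth_rewrite 2 [e]; exact mul_inv_cancel _) hy₀1]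
    have h3 : ({1, y₀, y₀⁻¹} : Finset G) = (F : Set G).toFinset := by
      refine Finset.eq_of_subset_of_card_le (fun x hx => ?_) ?_
      · simp only [Finset.mem_insert, Finset.mem_singleton] at hx
        rcases hx with rfl | rfl | rfl
        exacts [Set.mem_toFinset.2 (one_mem _), Set.mem_toFinset.2 hy₀F, Set.mem_toFinset.2 (inv_mem hy₀F)]
      · rw [Finset.card_insert_of_notMem (by simp [hy₀1, Ne.symm hy₀1]), Finset.card_pair hne, Set.toFinset_card,
          ← Nat.card_eq_fintype_card, SetLike.coe_sort_coe]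
        omega
    have hm : y ∈ ({1, y₀, y₀⁻¹} : Finset G) := by
      rw [h3, Set.mem_toFinset]
      exact ⟨hy, Subgroup.mem_centralizer_singleton_iff.2 hyt⟩
    simpa using hm
  have hcommt : ∀ x ∈ (S : Subgroup G), x * t = t * x → x = 1 ∨ x = z ∨ x = t ∨ x = t * z := by
    intro x hx hxt
    have hxy : x * y₀ * x⁻¹ * t = t * (x * y₀ * x⁻¹) := by
      have hxit : x⁻¹ * t = t * x⁻¹ := by
        calc x⁻¹ * t = x⁻¹ * (t * x) * x⁻¹ := by group
          _ = x⁻¹ * (x * t) * x⁻¹ := by rw [hxt]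
          _ = t * x⁻¹ := by group
      calc x * y₀ * x⁻¹ * t = x * y₀ * (x⁻¹ * t) := by group
        _ = x * (y₀ * t) * x⁻¹ := by rw [hxit]; group
        _ = (x * t) * y₀ * x⁻¹ := by rw [← hty]; group
        _ = t * (x * y₀ * x⁻¹) := by rw [hxt]; group
    have hstab' : ∀ a ∈ (S : Subgroup G), a * y₀ = y₀ * a → a = 1 ∨ a = t := fun a ha hay => by
      by_cases ha1 : a = 1
      · exact Or.inl ha1
      · exact Or.inr (hstab y₀ hy₀ hy₀1 a ha t ht hay hty ha1 ht1).1
    rcases hF _ (hconj x hx y₀ hy₀) hxy with h | h | h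
    · exact absurd (conj_eq_one_iff.1 h) hy₀1
    · rcases hstab' x hx (mul_inv_eq_iff_eq_mul.1 h) with e | e
      exacts [Or.inl e, Or.inr (Or.inr (Or.inl e))]
    · have hxz : x * z * y₀ = y₀ * (x * z) := by
        calc x * z * y₀ = x * (z * y₀ * z⁻¹) * z := by group
          _ = x * y₀⁻¹ * z := by rw [hzinv y₀ hy₀]
          _ = (x * y₀ * x⁻¹)⁻¹ * x * z := by group
          _ = y₀ * (x * z) := by rw [h]; group
      rcases hstab' _ (mul_mem hx hzS) hxz with e | e
      · exact Or.inr (Or.inl (by rw [← mul_one x, ← hz2, ← mul_assoc, e, one_mul]))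
      · exact Or.inr (Or.inr (Or.inr (by rw [← mul_one x, ← hz2, ← mul_assoc, e])))
  -- a further involution
  set tz := t * z with htzdef
  have htz2 : tz * tz = 1 := by
    rw [htzdef, mul_assoc, ← mul_assoc z, ← hzc t ht, mul_assoc t z z, hz2, mul_one, ht2]
  have htz1 : tz ≠ 1 := fun e => htz (by
    calc t = t * (z * z) := by rw [hz2, mul_one]
      _ = z := by rw [← mul_assoc, ← htzdef, e, one_mul])
  have htzz : tz ≠ z := fun e => ht1 (by
    calc t = t * (z * z) := by rw [hz2, mul_one]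
      _ = 1 := by rw [← mul_assoc, ← htzdef, e, hz2])
  obtain ⟨y₁, hy₁, hy₁1, hy₁tz⟩ := hinvfix tz (mul_mem ht hzS) htz2 htz1 htzz
  obtain ⟨y', hy', hy'1, hy'a, hy'b⟩ : ∃ y ∈ (Y : Subgroup G), y ≠ 1 ∧ t * y ≠ y * t ∧ tz * y ≠ y * tz := by
    by_contra hno
    push Not at hno
    have hsub : Y₁ ⊆ ({y₀, y₀⁻¹} : Finset G) ∪ Y₁.filter (fun y => tz * y = y * tz) := fun y hy => by
      obtain ⟨-, hy, hy1⟩ := Finset.mem_filter.1 hy
      by_cases h : t * y = y * t
      · rcases hF y hy h.symm with e | e | e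
        · exact absurd e hy1
        · simp [e]
        · simp [e]
      · exact Finset.mem_union_right _ (Finset.mem_filter.2
          ⟨Finset.mem_filter.2 ⟨Finset.mem_univ _, hy, hy1⟩, hno y hy hy1 h⟩)
    -- the fixed points of `tz` are moved into those of `t` by no element
    have hfix2 : (Y₁.filter fun y => tz * y = y * tz).card ≤ 2 := by
      set F := (Y : Subgroup G) ⊓ Subgroup.centralizer ({tz} : Set G)
      have hFd : Nat.card F ∣ 3 ^ 2 := by
        have := Subgroup.card_dvd_of_le (inf_le_left : F ≤ (Y : Subgroup G))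
        rw [hY9] at this
        exact this
      have hF3 : Nat.card F ≤ 3 := by
        obtain ⟨i, hi, e⟩ := (Nat.dvd_prime_pow Nat.prime_three).1 hFd
        rcases i with _ | _ | i
        · rw [e]; norm_num
        · rw [e]; norm_num
        · exfalso
          obtain rfl : i = 0 := by omega
          have heq : F = (Y : Subgroup G) := Subgroup.eq_of_le_of_card_ge inf_le_left (by rw [hY9, e]; norm_num)
          exact htz1 (hSY tz (mul_mem ht hzS) fun y hy => (Subgroup.mem_centralizer_singleton_iff.1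
            ((heq.symm ▸ hy : y ∈ F).2)).symm)
      have hins : insert 1 (Y₁.filter fun y => tz * y = y * tz) ⊆ (F : Set G).toFinset := by
        intro x hx
        rw [Finset.mem_insert] at hx
        rcases hx with rfl | hx
        · exact Set.mem_toFinset.2 (one_mem _)
        · obtain ⟨hx1, hx2⟩ := Finset.mem_filter.1 hx
          exact Set.mem_toFinset.2 ⟨(Finset.mem_filter.1 hx1).2.1, Subgroup.mem_centralizer_singleton_iff.2 hx2.symm⟩
      have h := Finset.card_le_card hins
      rw [Finset.card_insert_of_notMem (by simp [hY₁]), Set.toFinset_card, ← Nat.card_eq_fintype_card,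
        SetLike.coe_sort_coe] at h
      omega
    have h := (Finset.card_le_card hsub).trans (Finset.card_union_le _ _)
    have := Finset.card_le_two (a := y₀) (b := y₀⁻¹)
    omega
  obtain ⟨v, hv, hv1, hvy⟩ := hexists y' hy' hy'1
  have hv2 := (hstab y' hy' hy'1 v hv v hv hvy hvy hv1 hv1).2
  have hvz : v ≠ z := fun e => hy'1 (hzfix y' hy' (e ▸ hvy))
  have hvt : v ≠ t := fun e => hy'a (e ▸ hvy)
  have hvtz : v ≠ tz := fun e => hy'b (e ▸ hvy)
  set vz := v * z with hvzdef
  have hvz2 : vz * vz = 1 := by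
    rw [hvzdef, mul_assoc, ← mul_assoc z, ← hzc v hv, mul_assoc v z z, hz2, mul_one, hv2]
  have hvz1 : vz ≠ 1 := fun e => hvz (by
    calc v = v * (z * z) := by rw [hz2, mul_one]
      _ = z := by rw [← mul_assoc, ← hvzdef, e, one_mul])
  have hvzz : vz ≠ z := fun e => hv1 (by
    calc v = v * (z * z) := by rw [hz2, mul_one]
      _ = 1 := by rw [← mul_assoc, ← hvzdef, e, hz2])
  have cancel_z : ∀ a b : G, a * z = b * z → a = b := fun a b e => mul_right_cancel e
  -- there are only five involutions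
  have hinvol : ∀ x ∈ (S : Subgroup G), x * x = 1 → x ≠ 1 → x = z ∨ x = t ∨ x = tz ∨ x = v ∨ x = vz := by
    intro x hx hx2 hx1
    by_contra hno
    simp only [not_or] at hno
    obtain ⟨nz, nt, ntz, nv, nvz⟩ := hno
    set L := ({t, tz, v, vz, x} : Finset G) with hL
    have hLc : L.card = 5 := by
      have a1 : t ≠ tz := fun e => hz1 (mul_eq_left.1 e.symm)
      have a2 : t ≠ vz := fun e => hvtz (by
        rw [htzdef, e, hvzdef, mul_assoc, hz2, mul_one])
      have a3 : tz ≠ vz := fun e => hvt (cancel_z _ _ e).symm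
      have a4 : v ≠ vz := fun e => hz1 (mul_eq_left.1 e.symm)
      rw [hL, Finset.card_insert_of_notMem (by simp [a1, hvt.symm, a2, Ne.symm nt]),
        Finset.card_insert_of_notMem (by simp [hvtz.symm, a3, Ne.symm ntz]),
        Finset.card_insert_of_notMem (by simp [a4, Ne.symm nv]), Finset.card_pair (Ne.symm nvz)]
    have hmem : ∀ a ∈ L, a ∈ (S : Subgroup G) ∧ a * a = 1 ∧ a ≠ 1 ∧ a ≠ z := by
      intro a ha
      simp only [hL, Finset.mem_insert, Finset.mem_singleton] at ha
      rcases ha with rfl | rfl | rfl | rfl | rfl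
      exacts [⟨ht, ht2, ht1, htz⟩, ⟨mul_mem ht hzS, htz2, htz1, htzz⟩, ⟨hv, hv2, hv1, hvz⟩,
        ⟨mul_mem hv hzS, hvz2, hvz1, hvzz⟩, ⟨hx, hx2, hx1, nz⟩]
    choose! f hfY hf1 hfc using fun a (ha : a ∈ L) =>
      hinvfix a (hmem a ha).1 (hmem a ha).2.1 (hmem a ha).2.2.1 (hmem a ha).2.2.2
    set P := L.biUnion (fun a => ({f a, (f a)⁻¹} : Finset G)) with hP
    have hPsub : P ⊆ Y₁ := fun w hw => by
      obtain ⟨a, ha, hw⟩ := Finset.mem_biUnion.1 hw
      simp only [Finset.mem_insert, Finset.mem_singleton] at hw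
      rcases hw with rfl | rfl
      · exact Finset.mem_filter.2 ⟨Finset.mem_univ _, hfY a ha, hf1 a ha⟩
      · exact Finset.mem_filter.2 ⟨Finset.mem_univ _, inv_mem (hfY a ha), by simpa using hf1 a ha⟩
    have hdisj : ∀ a ∈ L, ∀ b ∈ L, a ≠ b →
        Disjoint ({f a, (f a)⁻¹} : Finset G) ({f b, (f b)⁻¹} : Finset G) := by
      intro a ha b hb hab
      rw [Finset.disjoint_left]
      intro w hwa hwb
      apply hab
      simp only [Finset.mem_insert, Finset.mem_singleton] at hwa hwb
      have hwY : w ∈ (Y : Subgroup G) ∧ w ≠ 1 := by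
        rcases hwa with rfl | rfl
        exacts [⟨hfY a ha, hf1 a ha⟩, ⟨inv_mem (hfY a ha), by simpa using hf1 a ha⟩]
      have hca : a * w = w * a := by
        rcases hwa with rfl | rfl
        exacts [hfc a ha, (show Commute a (f a) from hfc a ha).inv_right.eq]
      have hcb : b * w = w * b := by
        rcases hwb with rfl | rfl
        exacts [hfc b hb, (show Commute b (f b) from hfc b hb).inv_right.eq]
      exact (hstab w hwY.1 hwY.2 a (hmem a ha).1 b (hmem b hb).1 hca hcb (hmem a ha).2.2.1 (hmem b hb).2.2.1).1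
    have h := Finset.card_le_card hPsub
    rw [hP, Finset.card_biUnion hdisj, hY8, Finset.sum_congr rfl fun a ha => Finset.card_pair (fun e => by
      refine (three_dvd_orderOf hG (hfY a ha) (hf1 a ha)).2 ?_
      rw [orderOf_eq_prime (p := 2) (by rw [pow_two]; nth_rewrite 2 [e]; exact mul_inv_cancel _) (hf1 a ha)]),
      Finset.sum_const, smul_eq_mul, hLc] at h
    omega
  have htvt : t * v * t = vz := by
    have hm : t * v * t ∈ (S : Subgroup G) := mul_mem (mul_mem ht hv) ht
    have hti : t⁻¹ = t := inv_eq_of_mul_eq_one_right ht2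
    rcases hinvol _ hm (by
        calc t * v * t * (t * v * t) = t * (v * (t * t) * v) * t := by simp only [mul_assoc]
          _ = 1 := by rw [ht2, mul_one, hv2, mul_one, ht2])
      (fun e => hv1 (by
        calc v = (t * t) * v * (t * t) := by rw [ht2, one_mul, mul_one]
          _ = t * (t * v * t) * t := by simp only [mul_assoc]
          _ = 1 := by rw [e, mul_one, ht2])) with e | e | e | e | e
    · exfalso; apply hvz
      calc v = (t * t) * v * (t * t) := by rw [ht2, one_mul, mul_one]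
        _ = t * (t * v * t) * t := by simp only [mul_assoc]
        _ = z := by rw [e, hzc t ht, mul_assoc, ht2, mul_one]
    · exfalso; apply hvt
      calc v = (t * t) * v * (t * t) := by rw [ht2, one_mul, mul_one]
        _ = t * (t * v * t) * t := by simp only [mul_assoc]
        _ = t := by rw [e, ht2, one_mul]
    · exfalso; apply hvtz
      calc v = (t * t) * v * (t * t) := by rw [ht2, one_mul, mul_one]
        _ = t * (t * v * t) * t := by simp only [mul_assoc]
        _ = tz := by rw [e, htzdef, ← mul_assoc, ht2, one_mul, ← hzc t ht]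
    · exfalso
      have hc : v * t = t * v := by
        calc v * t = t * v * t * t := by rw [e]
          _ = t * v := by rw [mul_assoc, ht2, mul_one]
      rcases hcommt v hv hc with e' | e' | e' | e'
      exacts [hv1 e', hvz e', hvt e', hvtz e']
    · exact e
  exact ⟨⟨Y, S, z, t, v, hSN, hzS, ht, hv, hz2, ht2, hv2, hz1, ht1, hzc, hzinv, htvt, hcommt, hinvol,
    y₀, hy₀, hy₀1, hty⟩⟩

end Cfsg.Lib.MEleven
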